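import Mathlib
import Cfsg.Agent.Lib.SelfCentralSimple.Local
import Cfsg.Agent.Lib.FewOrders.Prime
import Cfsg.Agent.Lib.PF.OddOrder
import Cfsg.Agent.Lib.PSL2.Dihedral

/-!
Groups with at most one composite element order: first facts, and element orders of `PSL₂(q)`.
-/

set_option autoImplicit false

open Subgroup

namespace CfsgLib.OneComposite

/-- Every nontrivial element has prime order or order `n`. -/
def Hyp (G : Type*) [Group G] (n : ℕ) : Prop := ∀ g : G, g ≠ 1 → (orderOf g).Prime ∨ orderOf g = n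

variable {G : Type*} [Group G] {n : ℕ}

theorem exists_hyp [Finite G]
    (h1 : {n : ℕ | n ∈ Set.range (orderOf : G → ℕ) ∧ 1 < n ∧ ¬ n.Prime}.Subsingleton) :
    ∃ n : ℕ, Hyp G n := by
  by_cases h : ∃ g : G, 1 < orderOf g ∧ ¬ (orderOf g).Prime
  · obtain ⟨g, hg1, hg2⟩ := h
    refine ⟨orderOf g, fun x hx => or_iff_not_imp_left.2 fun hp => h1 ⟨⟨x, rfl⟩, ?_, hp⟩ ⟨⟨g, rfl⟩, hg1, hg2⟩⟩
    have := orderOf_pos x
    have := mt orderOf_eq_one_iff.1 hx
    omega
  · push Not at h
    refine ⟨0, fun x hx => Or.inl (h x ?_)⟩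
    have := orderOf_pos x
    have := mt orderOf_eq_one_iff.1 hx
    omega

theorem Hyp.subgroup (h : Hyp G n) (H : Subgroup G) : Hyp H n := fun g hg => by
  have := h (g : G) (fun e => hg (Subtype.ext e))
  rwa [Subgroup.orderOf_coe] at this

theorem Hyp.of_equiv {H : Type*} [Group H] (h : Hyp G n) (e : G ≃* H) : Hyp H n := fun g hg => by
  have := h (e.symm g) (fun h1 => hg (by simpa using congrArg e h1))
  rwa [MulEquiv.orderOf_eq] at this

/-- Two composite orders coincide. -/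
theorem Hyp.order_eq (h : Hyp G n) {g : G} {m : ℕ} (hg : orderOf g = m) (hm : 1 < m)
    (hnp : ¬ m.Prime) : m = n :=
  hg ▸ (h g fun e => by rw [e, orderOf_one] at hg; omega).resolve_left (hg ▸ hnp)

/-- An element of order `4` makes every order a prime power. -/
theorem Hyp.isPrimePow_of_four (h : Hyp G n) {x : G} (hx : orderOf x = 4) (g : G) (hg : g ≠ 1) :
    IsPrimePow (orderOf g) := by
  have h4 : 4 = n := h.order_eq hx (by norm_num) (by decide)
  rcases h g hg with hp | he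
  · exact hp.isPrimePow
  · rw [he, ← h4]
    exact Nat.prime_two.isPrimePow.pow (k := 2) two_ne_zero

/-- Without elements of order `4`, `2`-elements square to `1`. -/
theorem two_exp (h4 : ∀ x : G, orderOf x ≠ 4) {P : Subgroup G} (hP : IsPGroup 2 P) {x : G}
    (hx : x ∈ P) : x * x = 1 := by
  obtain ⟨k, hk⟩ := hP ⟨x, hx⟩
  have hk' : x ^ 2 ^ k = 1 := congrArg Subtype.val hk
  obtain ⟨j, -, hj⟩ := (Nat.dvd_prime_pow Nat.prime_two).1 (orderOf_dvd_of_pow_eq_one hk')
  rcases j with _ | _ | j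
  · rw [pow_zero, orderOf_eq_one_iff] at hj
    rw [hj, mul_one]
  · rw [← pow_two, ← orderOf_dvd_iff_pow_eq_one, hj]; norm_num
  · refine absurd ?_ (h4 (x ^ 2 ^ j))
    rw [orderOf_pow_of_dvd (by positivity) (by rw [hj]; exact pow_dvd_pow _ (by omega)), hj,
      show j + 1 + 1 = j + 2 from rfl, pow_add, Nat.mul_div_cancel_left _ (by positivity)]
    norm_num

theorem two_comm (h4 : ∀ x : G, orderOf x ≠ 4) {P : Subgroup G} (hP : IsPGroup 2 P) {x y : G}
    (hx : x ∈ P) (hy : y ∈ P) : Commute x y := by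
  have h1 := two_exp h4 hP (P.mul_mem hx hy)
  have hxi : x⁻¹ = x := inv_eq_of_mul_eq_one_right (two_exp h4 hP hx)
  have hyi : y⁻¹ = y := inv_eq_of_mul_eq_one_right (two_exp h4 hP hy)
  calc x * y = (x * y)⁻¹ := (inv_eq_of_mul_eq_one_right h1).symm
    _ = y * x := by rw [_root_.mul_inv_rev, hxi, hyi]

/-- Commuting elements of distinct prime orders. -/
theorem Hyp.prime_mul_eq (h : Hyp G n) {a b : G} {r s : ℕ} (hr : r.Prime) (hs : s.Prime)
    (hne : r ≠ s) (ha : orderOf a = r) (hb : orderOf b = s) (hc : Commute a b) : r * s = n := by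
  refine h.order_eq (g := a * b) ?_ ?_ (Nat.not_prime_mul hr.ne_one hs.ne_one)
  · rw [hc.orderOf_mul_eq_mul_orderOf_of_coprime (by rw [ha, hb]; exact (Nat.coprime_primes hr hs).2 hne),
      ha, hb]
  · exact hr.one_lt.trans_le (Nat.le_mul_of_pos_right _ hs.pos)

theorem eq_of_two_mul {r s p : ℕ} (hr : r.Prime) (hp : p.Prime)
    (he : r * s = 2 * p) : r = 2 ∧ s = p ∨ r = p ∧ s = 2 := by
  rcases (Nat.Prime.dvd_mul hr).1 ⟨s, he.symm⟩ with h2 | h2
  · have hr2 := (Nat.prime_dvd_prime_iff_eq hr Nat.prime_two).1 h2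
    subst hr2
    exact Or.inl ⟨rfl, Nat.eq_of_mul_eq_mul_left two_pos he⟩
  · have hrp := (Nat.prime_dvd_prime_iff_eq hr hp).1 h2
    subst hrp
    exact Or.inr ⟨rfl, Nat.eq_of_mul_eq_mul_left hr.pos (he.trans (mul_comm 2 r))⟩

/-- With `n = 2p` every element of odd order has prime order. -/
theorem Hyp.prime_of_odd [Finite G] {p : ℕ} (h : Hyp G (2 * p)) {g : G} (hg : g ≠ 1)
    (ho : Odd (orderOf g)) : (orderOf g).Prime :=
  (h g hg).resolve_right fun e => by
    rw [e] at ho
    exact Nat.not_odd_iff_even.2 (even_two_mul p) ho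

/-- `r`-elements have order dividing `r`, for odd `r`. -/
theorem Hyp.pow_eq_one [Finite G] {p : ℕ} (h : Hyp G (2 * p)) {r : ℕ} (hr : r.Prime) (hr2 : r ≠ 2)
    {P : Subgroup G} (hP : IsPGroup r P) {x : G} (hx : x ∈ P) : x ^ r = 1 := by
  obtain ⟨k, hk⟩ := hP ⟨x, hx⟩
  have hk' : x ^ r ^ k = 1 := congrArg Subtype.val hk
  rcases eq_or_ne x 1 with rfl | hx1
  · exact one_pow r
  have hd := orderOf_dvd_of_pow_eq_one hk'
  have hodd : Odd (orderOf x) := (hr.odd_of_ne_two hr2).pow.of_dvd_nat hd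
  have hpr := h.prime_of_odd hx1 hodd
  exact orderOf_dvd_iff_pow_eq_one.1 (((Nat.prime_dvd_prime_iff_eq hpr hr).1 (hpr.dvd_of_dvd_pow hd)).dvd)

theorem Hyp.orderOf_eq [Finite G] {p : ℕ} (h : Hyp G (2 * p)) {r : ℕ} (hr : r.Prime) (hr2 : r ≠ 2)
    {P : Subgroup G} (hP : IsPGroup r P) {x : G} (hx : x ∈ P) (hx1 : x ≠ 1) : orderOf x = r :=
  have := Fact.mk hr
  orderOf_eq_prime (h.pow_eq_one hr hr2 hP hx) hx1

section Simple

variable [Finite G] [IsSimpleGroup G]

theorem even_card (hna : ¬ IsMulCommutative G) : Even (Nat.card G) :=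
  even_iff_two_dvd.2 (CfsgLib.SelfCentralSimple.even_card hna)

omit [IsSimpleGroup G] in
/-- A Sylow `2`-subgroup that is not cyclic has order at least `4`. -/
theorem four_le (S : Sylow 2 G)
    (hc : ¬ IsCyclic (S : Subgroup G)) : 4 ≤ Nat.card (S : Subgroup G) := by
  have : Fact (Nat.Prime 2) := ⟨Nat.prime_two⟩
  obtain ⟨k, hk⟩ := S.isPGroup'.exists_card_eq
  rcases k with _ | _ | k
  · have := (Nat.card_eq_one_iff_unique.1 (hk.trans (pow_zero 2))).1
    exact absurd isCyclic_of_subsingleton hc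
  · exact absurd (isCyclic_of_prime_card (p := 2) (by simpa using hk)) hc
  · rw [hk]
    exact le_trans (by norm_num) (Nat.pow_le_pow_right two_pos (show 2 ≤ k + 1 + 1 by omega))

theorem not_normal_sylow (hna : ¬ IsMulCommutative G) (S : Sylow 2 G) :
    ¬ (S : Subgroup G).Normal := by
  intro hn
  have : Fact (Nat.Prime 2) := ⟨Nat.prime_two⟩
  rcases hn.eq_bot_or_eq_top with h | h
  · exact S.ne_bot_of_dvd_card (even_card hna).two_dvd h
  · have hG : IsPGroup 2 G := (S.isPGroup'.of_equiv ((MulEquiv.subgroupCongr h).trans Subgroup.topEquiv))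
    have := hG.center_nontrivial
    exact (Subgroup.nontrivial_iff_ne_bot _).1 this (CfsgLib.SelfCentralSimple.center_eq_bot hna)

end Simple

/-! ### Element orders of `PSL₂` -/

section PSL

open Matrix OnePoint CfsgLib.PSL2

variable (F : Type) [Field F] [Fintype F]

theorem exists_torus_orders :
    (∃ g : ProjectiveSpecialLinearGroup (Fin 2) F,
      orderOf g = (Fintype.card F - 1) / Nat.gcd 2 (Fintype.card F - 1)) ∧
    ∃ g : ProjectiveSpecialLinearGroup (Fin 2) F,
      orderOf g = (Fintype.card F + 1) / Nat.gcd 2 (Fintype.card F - 1) := by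
  classical
  obtain ⟨c, hc⟩ := CharP.exists F
  have : Fact c.Prime := ⟨CharP.char_is_prime F c⟩
  let ι : F →+* AlgebraicClosure F := algebraMap F _
  have : CharP (AlgebraicClosure F) c := charP_of_injective_ringHom ι.injective c
  obtain ⟨Φ, hΦ⟩ := exists_frob (F := F) (L := AlgebraicClosure F) c
  have key : ∀ {x y : OnePoint (AlgebraicClosure F)} {e : ℕ}, IsPair ι Φ x y e →
      ∃ g : ProjectiveSpecialLinearGroup (Fin 2) F,
        orderOf g = e / Nat.gcd 2 (Fintype.card F - 1) := by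
    intro x y e h
    have := isCyclic_pslFix (ι := ι) hΦ h.1
    obtain ⟨g, hg⟩ := IsCyclic.exists_generator (α := pslFix ι x y)
    exact ⟨g, by rw [Subgroup.orderOf_coe, orderOf_eq_card_of_forall_mem_zpowers hg, card_pslFix hΦ h]⟩
  obtain ⟨x, y, h⟩ := exists_isPair_split (ι := ι) (Φ := Φ)
  obtain ⟨x', y', h'⟩ := exists_isPair_nonsplit (ι := ι) hΦ
  exact ⟨key h, key h'⟩

end PSL

end CfsgLib.OneComposite
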