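import Cfsg.Agent.Lib.OneComposite.Exceptional

/-!
A simple group with all element orders prime or `2p` has no Sylow `2`-subgroup of order `≥ 8` if
some element of order `p` commutes with an involution.
-/

set_option autoImplicit false

open Subgroup

namespace CfsgLib.OneComposite

universe u

variable {G : Type u} [Group G] [Finite G] [IsSimpleGroup G] {p : ℕ} {E : Sylow 2 G}

theorem Big.false (h : Big p E)
    (hex : ∃ t c : G, orderOf t = 2 ∧ orderOf c = p ∧ Commute c t) : False := by
  obtain ⟨m, -, hm3, hℓ, hE, ⟨hidx, hC⟩ | ⟨rfl, hidx⟩⟩ := h.cases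
  · refine h.toSE.regular_false hex hℓ ?_ hidx hC
    have : 2 ^ 3 ≤ 2 ^ m := Nat.pow_le_pow_right two_pos hm3
    omega
  · exact h.semilinear_false hℓ hE hidx

end CfsgLib.OneComposite
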