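import Cfsg.Agent.Lib.OneComposite.Basic
import Cfsg.Agent.Lib.StrongEmbedding.PSLTwo
import Cfsg.Agent.Lib.Small.OrderSixty
import Cfsg.Prelude.Def_LieExceptional

/-!
At most one composite element order, involution centralisers `2`-groups, no element of order `4`:
the group is `PSL₂(2ᵐ)`.
-/

set_option autoImplicit false

open Subgroup

namespace CfsgLib.OneComposite

/-- The simple groups with at most one composite element order. -/
def Target (G : Type*) [Group G] : Prop :=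
    (Nat.card G).Prime ∨
    (∃ (F : Type) (_ : Field F) (_ : Fintype F), (Fintype.card F = 5 ∨ Fintype.card F = 7 ∨ Fintype.card F = 8 ∨ Fintype.card F = 9 ∨
        Fintype.card F = 11 ∨ Fintype.card F = 13 ∨ Fintype.card F = 16) ∧ Nonempty (G ≃* Matrix.ProjectiveSpecialLinearGroup (Fin 2) F)) ∨
    (∃ (F : Type) (_ : Field F) (_ : Fintype F), Fintype.card F = 4 ∧ Nonempty (G ≃* Matrix.ProjectiveSpecialLinearGroup (Fin 3) F)) ∨
    (∃ (F : Type) (_ : Field F) (_ : Fintype F), Fintype.card F = 8 ∧ Nonempty (G ≃* ↥(Cfsg.Lie.Sz F 4))) ∨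
    (∃ (F : Type) (_ : Field F) (_ : Fintype F), ∃ n r s : ℕ, r.Prime ∧ s.Prime ∧ 3 ^ n - 1 = 2 * r ∧ 3 ^ n + 1 = 4 * s ∧
        Fintype.card F = 3 ^ n ∧ Nonempty (G ≃* Matrix.ProjectiveSpecialLinearGroup (Fin 2) F)) ∨
    (∃ (F : Type) (_ : Field F) (_ : Fintype F), ∃ n r : ℕ, (2 ^ n - 1).Prime ∧ r.Prime ∧ 2 ^ n + 1 = 3 * r ∧
        Fintype.card F = 2 ^ n ∧ Nonempty (G ≃* Matrix.ProjectiveSpecialLinearGroup (Fin 2) F))

section Arith

theorem three_dvd_sub_one (k : ℕ) : 3 ∣ 2 ^ (2 * k) - 1 := by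
  rw [pow_mul]
  simpa using Nat.sub_dvd_pow_sub_pow 4 1 k

theorem three_dvd_add_one (k : ℕ) : 3 ∣ 2 ^ (2 * k + 1) + 1 := by
  obtain ⟨c, hc⟩ := three_dvd_sub_one k
  have := Nat.one_le_two_pow (n := 2 * k)
  exact ⟨2 * c + 1, by rw [pow_succ]; omega⟩

/-- The exponents for which `2ᵐ ± 1` and their divisors contain at most one composite number. -/
theorem two_pow_cases {n m : ℕ} (hm : 2 ≤ m)
    (h1 : ∀ d, d ∣ 2 ^ m - 1 → 1 < d → d.Prime ∨ d = n)
    (h2 : ∀ d, d ∣ 2 ^ m + 1 → 1 < d → d.Prime ∨ d = n) :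
    m = 2 ∨ m = 4 ∨ (2 ^ m - 1).Prime ∧ ∃ r : ℕ, r.Prime ∧ 2 ^ m + 1 = 3 * r := by
  rcases eq_or_ne m 2 with rfl | hm2
  · exact Or.inl rfl
  have h8 : 8 ≤ 2 ^ m := le_trans (by norm_num) (Nat.pow_le_pow_right two_pos (show 3 ≤ m by omega))
  obtain ⟨k, rfl | rfl⟩ := Nat.even_or_odd' m
  · obtain ⟨r, hr⟩ := three_dvd_sub_one k
    have hc : ¬ (2 ^ (2 * k) - 1).Prime := by
      rw [hr]; exact Nat.not_prime_mul (by norm_num) (by omega)
    have hn : 2 ^ (2 * k) - 1 = n := (h1 _ dvd_rfl (by omega)).resolve_left hc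
    have hrp : r.Prime := (h1 r (Dvd.intro_left 3 hr.symm) (by omega)).resolve_right (by omega)
    set a := 2 ^ k with ha
    have hsq : 2 ^ (2 * k) = a * a := by rw [ha, ← pow_add, two_mul]
    have hfac : 2 ^ (2 * k) - 1 = (a - 1) * (a + 1) := by
      rw [hsq, mul_comm (a - 1), ← Nat.mul_self_sub_mul_self_eq, one_mul]
    have hk : k = 2 := by
      by_contra hne
      have h4 : 2 ^ 3 ≤ a := Nat.pow_le_pow_right two_pos (by omega)
      rcases (Nat.Prime.dvd_mul hrp).1 (hfac ▸ Dvd.intro_left 3 hr.symm) with ⟨c, hc'⟩ | ⟨c, hc'⟩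
      · rw [hfac, hc'] at hr
        have h5 : c * (a + 1) = 3 := Nat.eq_of_mul_eq_mul_left hrp.pos (by linarith)
        have h6 : a + 1 ∣ 3 := h5 ▸ dvd_mul_left _ _
        have := Nat.le_of_dvd (by norm_num) h6
        omega
      · rw [hfac, hc'] at hr
        have h5 : (a - 1) * c = 3 := Nat.eq_of_mul_eq_mul_left hrp.pos (by linarith)
        have h6 : a - 1 ∣ 3 := h5 ▸ dvd_mul_right _ _
        have := Nat.le_of_dvd (by norm_num) h6
        omega
    exact Or.inr (Or.inl (by omega))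
  · obtain ⟨r, hr⟩ := three_dvd_add_one k
    have hc : ¬ (2 ^ (2 * k + 1) + 1).Prime := by
      rw [hr]; exact Nat.not_prime_mul (by norm_num) (by omega)
    have hn : 2 ^ (2 * k + 1) + 1 = n := (h2 _ dvd_rfl (by omega)).resolve_left hc
    refine Or.inr (Or.inr ⟨(h1 _ dvd_rfl (by omega)).resolve_right (by omega), r,
      (h2 r (Dvd.intro_left 3 hr.symm) (by omega)).resolve_right (by omega), hr⟩)

end Arith

/-- Every divisor of an element order is prime or the composite order. -/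
theorem Hyp.dvd_cases {G : Type*} [Group G] [Finite G] {n : ℕ} (h : Hyp G n) {g : G} {d : ℕ}
    (hd : d ∣ orderOf g) (hd1 : 1 < d) : d.Prime ∨ d = n := by
  obtain ⟨x, hx⟩ : ∃ x : G, orderOf x = d := by
    refine ⟨g ^ (orderOf g / d), ?_⟩
    rw [orderOf_pow_of_dvd (Nat.div_pos (Nat.le_of_dvd (orderOf_pos g) hd) (by omega)).ne'
      (Nat.div_dvd_of_dvd hd), Nat.div_div_self hd (orderOf_pos g).ne']
  exact hx ▸ h x (fun e => by rw [e, orderOf_one] at hx; omega)

variable {G : Type*} [Group G] [Finite G] [IsSimpleGroup G] {n : ℕ}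

theorem even_branch (h : Hyp G n) (hna : ¬ IsMulCommutative G) (h4 : ∀ x : G, orderOf x ≠ 4)
    (h2 : ∀ t : G, orderOf t = 2 → IsPGroup 2 (centralizer ({t} : Set G))) : Target G := by
  have : Fact (Nat.Prime 2) := ⟨Nat.prime_two⟩
  obtain ⟨T⟩ : Nonempty (Sylow 2 G) := inferInstance
  have hT : StrongEmbedding.ElementaryCentralizers.Hyp T :=
    { not_cyclic := SelfCentralSimple.not_isCyclic_sylow hna (SelfCentralSimple.minFac_eq_two hna) T
      not_normal := not_normal_sylow hna T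
      elem := fun t ht =>
        ⟨⟨⟨fun a b => Subtype.ext (two_comm h4 (h2 t ht) a.2 b.2)⟩⟩,
          fun c hc => (pow_two c).trans (two_exp h4 (h2 t ht) hc)⟩ }
  obtain ⟨F, iF, iFt, hq, ⟨e⟩⟩ := StrongEmbedding.PSLTwo.exists_psl hT
  obtain ⟨m, hm⟩ := T.isPGroup'.exists_card_eq
  have h4T := StrongEmbedding.ElementaryCentralizers.four_le_card hT
  rw [hm] at hq h4T
  have hm2 : 2 ≤ m := by
    by_contra hlt
    have : 2 ^ m ≤ 2 ^ 1 := Nat.pow_le_pow_right two_pos (by omega)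
    omega
  have hgcd : Nat.gcd 2 (Fintype.card F - 1) = 1 := by
    rw [hq]
    refine (Nat.prime_two.coprime_iff_not_dvd).2 ?_
    have : 2 ∣ 2 ^ m := dvd_pow_self 2 (by omega)
    omega
  obtain ⟨⟨x, hx⟩, ⟨y, hy⟩⟩ := exists_torus_orders F
  rw [hgcd, Nat.div_one, hq] at hx hy
  have hP := h.of_equiv e
  rcases two_pow_cases (n := n) hm2 (fun d hd => hP.dvd_cases (hx ▸ hd))
    (fun d hd => hP.dvd_cases (hy ▸ hd)) with rfl | rfl | ⟨hp, r, hr, hr3⟩
  · have : Fact (Nat.Prime 5) := ⟨by norm_num⟩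
    classical
    have : CharP F 2 := by
      obtain ⟨c, hc⟩ := CharP.exists F
      obtain ⟨j, hcp, hj⟩ := FiniteField.card F c
      rw [hq] at hj
      have : c = 2 := (Nat.prime_dvd_prime_iff_eq hcp Nat.prime_two).1
        (hcp.dvd_of_dvd_pow (n := 2) (hj ▸ dvd_pow_self c j.ne_zero))
      exact this ▸ hc
    have hcard : Nat.card G = 60 := by
      have hb : Function.Bijective (QuotientGroup.mk' (center (Matrix.SpecialLinearGroup (Fin 2) F))) :=
        ⟨by rw [← MonoidHom.ker_eq_bot_iff, QuotientGroup.ker_mk', StrongEmbedding.PSLTwo.center_sl_two_eq_bot],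
          QuotientGroup.mk'_surjective _⟩
      rw [Nat.card_congr e.toEquiv, ← Nat.card_eq_of_bijective _ hb, StrongEmbedding.PSLTwo.card_sl_two, hq]
      all_goals norm_num
    exact Or.inr (Or.inl ⟨ZMod 5, inferInstance, inferInstance, Or.inl (by simp),
      CfsgLib.Small.nonempty_mulEquiv_psl_five hcard⟩)
  · exact Or.inr (Or.inl ⟨F, iF, iFt, by simp [hq], ⟨e⟩⟩)
  · exact Or.inr (Or.inr (Or.inr (Or.inr (Or.inr ⟨F, iF, iFt, m, r, hp, hr, hr3, hq, ⟨e⟩⟩))))

end CfsgLib.OneComposite
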