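import Cfsg.Agent.Lib.OneComposite.Torus
import Cfsg.Agent.Lib.Small.LowC

/-!
Orders prime or `2p` with `|N(E) : E| = ℓ p`: then `p = 3` and the order is `1512` or `17640`,
which is impossible.
-/

set_option autoImplicit false
set_option linter.unusedSectionVars false
set_option linter.style.haveILetI false

open Subgroup CfsgLib.Involutions CfsgLib.StrongEmbedding

namespace CfsgLib.OneComposite

universe u

variable {G : Type u} [Group G] [Finite G]

/-- A simple group of order `17640` does not have self-centralising elements of order `5`. -/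
theorem false_17640 (hc : Nat.card G = 17640)
    (hC : ∀ x : G, orderOf x = 5 → ∀ c, Commute c x → c ^ 5 = 1) : False := by
  have : Fact (Nat.Prime 5) := ⟨by norm_num⟩
  obtain ⟨P⟩ : Nonempty (Sylow 5 G) := inferInstance
  have hP : Nat.card (P : Subgroup G) = 5 := by
    have hf : (Nat.card G).factorization 5 = 1 := by
      rw [hc, show (17640 : ℕ) = 5 ^ 1 * 3528 by norm_num, Nat.factorization_mul (by norm_num) (by norm_num),
        Finsupp.add_apply, Nat.factorization_eq_zero_of_not_dvd (by norm_num : ¬ 5 ∣ 3528),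
        (by norm_num : Nat.Prime 5).factorization_pow, Finsupp.single_eq_same]
    rw [P.card_eq_multiplicity, hf, pow_one]
  set S := (P : Subgroup G) with hS
  obtain ⟨x, hx, hx1⟩ := (Subgroup.bot_or_exists_ne_one S).resolve_left
    (fun e => by rw [e, card_bot] at hP; omega)
  have hxo : orderOf x = 5 :=
    orderOf_eq_prime (orderOf_dvd_iff_pow_eq_one.1 (hP ▸ S.orderOf_dvd_natCard hx)) hx1
  set N := normalizer (S : Set G) with hN
  -- the centraliser is `P`
  have hcent : centralizer (S : Set G) ≤ S := by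
    intro c hc'
    have hp : IsPGroup 5 (centralizer (S : Set G)) := fun d => ⟨1, Subtype.ext (by
      simpa using hC x hxo d (mem_centralizer_iff.1 d.2 x hx).symm)⟩
    have hle : S ≤ centralizer (S : Set G) := by
      have := isCyclic_of_prime_card hP
      intro a ha
      refine mem_centralizer_iff.2 fun b hb => ?_
      exact congrArg Subtype.val ((IsCyclic.isMulCommutative (α := S)).is_comm.comm ⟨b, hb⟩ ⟨a, ha⟩)
    rw [P.is_maximal' hp hle] at hc'
    exact hc'
  have hdvd : S.relIndex N ∣ 4 := by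
    haveI : IsCyclic S := isCyclic_of_prime_card hP
    have h1 : (centralizer (S : Set G)).relIndex N = Nat.card S.normalizerMonoidHom.range := by
      rw [hN, relIndex, ← normalizerMonoidHom_ker, index_ker]
    have h2 : Nat.card (MulAut S) = 4 := by
      rw [Nat.card_congr (IsCyclic.mulAutMulEquiv S).toEquiv, hP, Nat.card_eq_fintype_card,
        ZMod.card_units]
    have h3 : centralizer (S : Set G) = S := le_antisymm hcent (by
      have := isCyclic_of_prime_card hP
      intro a ha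
      refine mem_centralizer_iff.2 fun b hb => ?_
      exact congrArg Subtype.val ((IsCyclic.isMulCommutative (α := S)).is_comm.comm ⟨b, hb⟩ ⟨a, ha⟩))
    rw [h3] at h1
    rw [h1, ← h2]
    exact Subgroup.card_subgroup_dvd_card _
  have hn := card_sylow_modEq_one 5 G
  rw [P.card_eq_index_normalizer] at hn
  have h5 : Nat.card N = 5 * S.relIndex N := by
    rw [relIndex, ← (S.subgroupOf N).card_mul_index,
      Nat.card_congr (subgroupOfEquivOfLe (le_normalizer : S ≤ N)).toEquiv, hP]
  have h6 := N.card_mul_index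
  rw [hc, h5] at h6
  change N.index % 5 = 1 % 5 at hn
  have h7 := Nat.le_of_dvd (by norm_num) hdvd
  interval_cases h8 : S.relIndex N <;> omega

variable {p : ℕ} {E : Sylow 2 G} {M : Subgroup G} [IsSimpleGroup G] {L : Subgroup G}

/-- The stabiliser of the base point and of `z`. -/
abbrev pairFix (E : Sylow 2 G) (z : G ⧸ nE E) : Subgroup G := nE E ⊓ MulAction.stabilizer G z

/-- The points fixed by `L`. -/
def fixSet (E : Sylow 2 G) (L : Subgroup G) : Set (G ⧸ nE E) := {z | ∀ x ∈ L, x • z = z}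

theorem smul_mem_fixSet {n : G} (hn : n ∈ normalizer (L : Set G)) {z : G ⧸ nE E}
    (hz : z ∈ fixSet E L) : n • z ∈ fixSet E L := by
  intro x hx
  have h1 : n⁻¹ * x * n ∈ L := (mem_normalizer_iff''.1 hn x).1 hx
  calc x • n • z = n • ((n⁻¹ * x * n) • z) := by rw [smul_smul, smul_smul]; group
    _ = n • z := by rw [hz _ h1]

theorem Exc.no_involution (h : Exc p E M) {z : G ⧸ nE E} (hz : z ≠ base E) {s : G}
    (hs : s ∈ pairFix E z) : orderOf s ≠ 2 := fun e =>
  hz (fixed_unique h.big.stronglyEmbedded e (MulAction.mem_stabilizer_iff.1 hs.2)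
    (smul_base_iff.2 hs.1))

theorem Exc.card_pairFix (h : Exc p E M) {z : G ⧸ nE E} (hz : z ≠ base E) :
    Nat.card (pairFix E z) ∣ (2 ^ p - 1) * p ∧ 2 ^ p - 1 ∣ Nat.card (pairFix E z) := by
  classical
  have : Fact (Nat.Prime 2) := ⟨Nat.prime_two⟩
  set X := pairFix E z with hX
  have hodd : ¬ 2 ∣ Nat.card X := fun hd => by
    obtain ⟨s, hs⟩ := exists_prime_orderOf_dvd_card' 2 hd
    exact h.no_involution hz s.2 (by rw [Subgroup.orderOf_coe]; exact hs)
  have hdvd : Nat.card X ∣ (2 ^ p - 1) * p := by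
    have h1 := Subgroup.card_dvd_of_le (inf_le_left : X ≤ nE E)
    rw [h.card_N] at h1
    exact (Nat.Coprime.pow_right p (Nat.prime_two.coprime_iff_not_dvd.2 hodd).symm).dvd_of_dvd_mul_left h1
  refine ⟨hdvd, ?_⟩
  -- at least `ℓ` elements
  obtain ⟨r, hr, hrz⟩ := h.big.toSE.exists_swap hz
  have hrz' : r • z = base E := by rw [← hrz, smul_self_of_involution hr]
  have hge : 2 ^ p - 1 ≤ Nat.card X := by
    have hcount : Nat.card {t : G // orderOf t = 2 ∧ t ∈ nE E} = 2 ^ p - 1 := by
      have := Fintype.ofFinite (E : Subgroup G)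
      let e : {t : G // orderOf t = 2 ∧ t ∈ nE E} ≃ {x : (E : Subgroup G) // x ≠ 1} :=
        { toFun := fun t => ⟨⟨t.1, mem_E_of_normalizes t.2.2 (mul_self_eq_one t.2.1)⟩, fun e1 => by
            have h1 : t.1 = 1 := congrArg Subtype.val e1
            have h2 := t.2.1
            rw [h1, orderOf_one] at h2
            omega⟩
          invFun := fun x => ⟨x.1, h.big.inv x.1.2 (fun e1 => x.2 (Subtype.ext e1)),
            le_normalizer x.1.2⟩
          left_inv := fun t => rfl
          right_inv := fun x => rfl }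
      rw [Nat.card_congr e, Nat.card_eq_fintype_card, Fintype.card_subtype_compl,
        Fintype.card_subtype_eq, ← Nat.card_eq_fintype_card, h.card]
    rw [← hcount, ← card_swapping h.big.stronglyEmbedded hz.symm]
    refine Nat.card_le_card_of_injective (fun i => (⟨r * i.1, ?_, ?_⟩ : X)) fun i j e => ?_
    · show r * i.1 ∈ nE E
      rw [← smul_base_iff, mul_smul, i.2.2, hrz']
    · show r * i.1 ∈ MulAction.stabilizer G z
      rw [MulAction.mem_stabilizer_iff, mul_smul,
        show i.1 • z = base E from (congrArg (i.1 • ·) i.2.2).symm.trans (smul_self_of_involution i.2.1 _), hrz]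
    · exact Subtype.ext (mul_left_cancel (congrArg Subtype.val e))
  by_contra hnd
  have h2 := ((h.mersenne.coprime_iff_not_dvd.2 hnd).symm).dvd_of_dvd_mul_left hdvd
  have := Nat.le_of_dvd h.big.prime.pos h2
  have := h.lt
  omega

theorem Exc.card_pairFix_lt (h : Exc p E M) {z : G ⧸ nE E} (hz : z ≠ base E) :
    Nat.card (pairFix E z) < (2 ^ p - 1) * (2 ^ p - 1) := by
  have h1 := Nat.le_of_dvd (Nat.mul_pos (by have := h.lt; omega) h.big.prime.pos) (h.card_pairFix hz).1
  exact h1.trans_lt (Nat.mul_lt_mul_of_pos_left h.lt (by have := h.lt; omega))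

/-- Every point is fixed by a conjugate of `L` under `E`. -/
theorem Exc.exists_conj (h : Exc p E M) (hL : IsTor p E L) {z : G ⧸ nE E} (hz : z ≠ base E) :
    ∃ e ∈ (E : Subgroup G), e⁻¹ • z ∈ fixSet E L := by
  have := Fact.mk h.mersenne
  obtain ⟨l, hl⟩ := exists_prime_orderOf_dvd_card' (2 ^ p - 1) (h.card_pairFix hz).2
  obtain ⟨n, hn, hn'⟩ := h.conj_tor hL (L₂ := zpowers (l : G))
    ⟨zpowers_le.2 l.2.1, by rw [Nat.card_zpowers, Subgroup.orderOf_coe, hl]⟩
  obtain ⟨e, he, x, hx, rfl⟩ := (h.card_inf hL).2 n hn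
  refine ⟨e, he, fun v hv => ?_⟩
  have h1 : e * v * e⁻¹ ∈ zpowers (l : G) := by
    rw [hn', show (e * x)⁻¹ * (e * v * e⁻¹) * (e * x) = x⁻¹ * v * x by group]
    exact (mem_normalizer_iff''.1 hx.1 v).1 hv
  have h2 : (e * v * e⁻¹) • z = z :=
    MulAction.mem_stabilizer_iff.1 (zpowers_le.2 (l.2.2 : (l : G) ∈ MulAction.stabilizer G z) h1)
  calc v • e⁻¹ • z = e⁻¹ • ((e * v * e⁻¹) • z) := by rw [smul_smul, smul_smul]; group
    _ = e⁻¹ • z := by rw [h2]

theorem Exc.map_conj_le (h : Exc p E M) (hL : IsTor p E L) {g : G} {z : G ⧸ nE E}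
    (hgN : g ∈ nE E) (hg : g⁻¹ • z ∈ fixSet E L) :
    L.map (MulAut.conj g).toMonoidHom ≤ pairFix E z := by
  rintro _ ⟨v, hv, rfl⟩
  refine mem_inf.2 ⟨mul_mem (mul_mem hgN (hL.le hv)) (inv_mem hgN), MulAction.mem_stabilizer_iff.2 ?_⟩
  show (g * v * g⁻¹) • z = z
  rw [mul_smul, mul_smul, hg v hv, smul_inv_smul]

/-- That conjugate is unique. -/
theorem Exc.conj_unique (h : Exc p E M) (hL : IsTor p E L) {z : G ⧸ nE E} (hz : z ≠ base E)
    {e e' : G} (he : e ∈ (E : Subgroup G)) (he' : e' ∈ (E : Subgroup G))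
    (hf : e⁻¹ • z ∈ fixSet E L) (hf' : e'⁻¹ • z ∈ fixSet E L) : e = e' := by
  have heq := unique_prime h.mersenne (h.map_conj_le hL (le_normalizer he) hf)
    (h.map_conj_le hL (le_normalizer he') hf')
    (by rw [card_map_of_injective (MulAut.conj e).injective, hL.card])
    (by rw [card_map_of_injective (MulAut.conj e').injective, hL.card]) (h.card_pairFix_lt hz)
  have hn : e'⁻¹ * e ∈ normalizer (L : Set G) := mem_normalizer_iff.2 fun x => by
    constructor
    · intro hx
      have h1 : e * x * e⁻¹ ∈ L.map (MulAut.conj e').toMonoidHom := heq ▸ ⟨x, hx, rfl⟩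
      obtain ⟨w, hw, hwe⟩ := h1
      change e' * w * e'⁻¹ = e * x * e⁻¹ at hwe
      rwa [show e'⁻¹ * e * x * (e'⁻¹ * e)⁻¹ = e'⁻¹ * (e * x * e⁻¹) * e' by group, ← hwe,
        show e'⁻¹ * (e' * w * e'⁻¹) * e' = w by group]
    · intro hx
      have h1 : e' * (e'⁻¹ * e * x * (e'⁻¹ * e)⁻¹) * e'⁻¹ ∈ L.map (MulAut.conj e).toMonoidHom :=
        heq.symm ▸ ⟨_, hx, rfl⟩
      obtain ⟨w, hw, hwe⟩ := h1
      change e * w * e⁻¹ = e' * (e'⁻¹ * e * x * (e'⁻¹ * e)⁻¹) * e'⁻¹ at hwe
      have h2 : w = x := by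
        rw [show e' * (e'⁻¹ * e * x * (e'⁻¹ * e)⁻¹) * e'⁻¹ = e * x * e⁻¹ by group] at hwe
        exact mul_left_cancel (mul_right_cancel hwe)
      exact h2 ▸ hw
  have h3 := h.inf_E hL (mul_mem (inv_mem he') he) hn
  exact (inv_mul_eq_one.1 h3).symm

/-- An involution interchanging the base point and a fixed point of `L` normalises `L`. -/
theorem Exc.swap_mem (h : Exc p E M) (hL : IsTor p E L) {z : G ⧸ nE E} (hz : z ≠ base E)
    (hzL : z ∈ fixSet E L) {r : G} (hr : orderOf r = 2) (hrz : r • base E = z) :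
    r ∈ normalizer (L : Set G) := by
  have hrz' : r • z = base E := by rw [← hrz, smul_self_of_involution hr]
  have hri := inv_eq_self_of_involution hr
  have hLb : ∀ v ∈ L, v • base E = base E := fun v hv => smul_base_iff.2 (hL.le hv)
  have h1 : L.map (MulAut.conj r).toMonoidHom ≤ pairFix E z := by
    rintro _ ⟨v, hv, rfl⟩
    refine ⟨?_, MulAction.mem_stabilizer_iff.2 ?_⟩
    · show r * v * r⁻¹ ∈ nE E
      rw [← smul_base_iff, hri, mul_smul, mul_smul, hrz, hzL v hv, hrz']
    · show (r * v * r⁻¹) • z = z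
      rw [hri, mul_smul, mul_smul, hrz', hLb v hv, hrz]
  have h2 : L ≤ pairFix E z := fun v hv => ⟨hL.le hv, MulAction.mem_stabilizer_iff.2 (hzL v hv)⟩
  have heq := unique_prime h.mersenne h1 h2
    (by rw [card_map_of_injective (MulAut.conj r).injective, hL.card]) hL.card (h.card_pairFix_lt hz)
  have h3 : ∀ v ∈ L, r * v * r ∈ L := fun v hv => by
    have : r * v * r⁻¹ ∈ L.map (MulAut.conj r).toMonoidHom := ⟨v, hv, rfl⟩
    rwa [heq, hri] at this
  refine mem_normalizer_iff.2 fun v => ⟨fun hv => by rw [hri]; exact h3 v hv, fun hv => ?_⟩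
  have := h3 _ hv
  rw [hri, show r * (r * v * r) * r = (r * r) * v * (r * r) by group, mul_self_eq_one hr] at this
  simpa using this

/-- `|fix L| ℓ = 2 |C(L)|`. -/
theorem Exc.card_fixSet (h : Exc p E M) (hL : IsTor p E L) {z : G ⧸ nE E} (hz : z ≠ base E) :
    Nat.card (fixSet E L) * (2 ^ p - 1) = 2 * Nat.card (centralizer (L : Set G)) := by
  obtain ⟨e, he, hze⟩ := h.exists_conj hL hz
  have hz1 : e⁻¹ • z ≠ base E := fun e1 => hz (by
    rw [← smul_inv_smul e z, e1]; exact smul_base_iff.2 (le_normalizer he))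
  obtain ⟨r, hr, hrz⟩ := h.big.toSE.exists_swap hz1
  have hrL := h.swap_mem hL hz1 hze hr hrz
  set NL := normalizer (L : Set G) with hNL
  have horb : MulAction.orbit NL (base E) = fixSet E L := by
    ext w
    constructor
    · rintro ⟨n, rfl⟩
      exact smul_mem_fixSet n.2 fun x hx => smul_base_iff.2 (hL.le hx)
    · intro hw
      rcases eq_or_ne w (base E) with rfl | hwb
      · exact MulAction.mem_orbit_self _
      · obtain ⟨s, hs, hsw⟩ := h.big.toSE.exists_swap hwb
        exact ⟨⟨s, h.swap_mem hL hwb hw hs hsw⟩, hsw⟩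
  have hst : MulAction.stabilizer NL (base E) = (NL ⊓ nE E).subgroupOf NL := by
    ext n
    rw [MulAction.mem_stabilizer_iff, mem_subgroupOf, mem_inf]
    exact ⟨fun e1 => ⟨n.2, smul_base_iff.1 e1⟩, fun e1 => smul_base_iff.2 e1.2⟩
  have h1 : Nat.card (fixSet E L) * ((2 ^ p - 1) * p) = Nat.card NL := by
    rw [← horb, Nat.card_coe_set_eq, ← MulAction.index_stabilizer, hst, ← (h.card_inf hL).1, mul_comm,
      ← Nat.card_congr (subgroupOfEquivOfLe (inf_le_left : NL ⊓ nE E ≤ NL)).toEquiv,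
      Subgroup.card_mul_index]
  have h2 : Nat.card (centralizer (L : Set G)) * (2 * p) = Nat.card NL := by
    rw [← h.relIndex_cent hL hrL hr, relIndex,
      ← Nat.card_congr (subgroupOfEquivOfLe (centralizer_le_normalizer (L : Set G))).toEquiv,
      Subgroup.card_mul_index]
  refine Nat.eq_of_mul_eq_mul_right h.big.prime.pos ?_
  rw [mul_assoc, h1, ← h2]
  ring

/-- `|G : N(E)| = 1 + |E| (|fix L| - 1)`. -/
theorem Exc.card_quot (h : Exc p E M) (hL : IsTor p E L) :
    Nat.card (G ⧸ nE E) = 1 + 2 ^ p * (Nat.card (fixSet E L) - 1) := by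
  classical
  have := Fintype.ofFinite (G ⧸ nE E)
  have hb : base E ∈ fixSet E L := fun x hx => smul_base_iff.2 (hL.le hx)
  have hne : ∀ (e : G) (he : e ∈ (E : Subgroup G)) (w : G ⧸ nE E), w ≠ base E → e • w ≠ base E :=
    fun e he w hw e1 => hw (by
      rw [← inv_smul_smul e w, e1]; exact smul_base_iff.2 (inv_mem (le_normalizer he)))
  let f : Prod ↥(E : Subgroup G) {w : fixSet E L // w.1 ≠ base E} → {w : G ⧸ nE E // w ≠ base E} :=
    fun x => ⟨(x.1 : G) • (x.2.1 : G ⧸ nE E), hne _ x.1.2 _ x.2.2⟩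
  have hf : Function.Bijective f := by
    constructor
    · rintro ⟨e, w⟩ ⟨e', w'⟩ e1
      have e2 : (e : G) • (w.1 : G ⧸ nE E) = (e' : G) • (w'.1 : G ⧸ nE E) := congrArg Subtype.val e1
      have e3 : (e : G) = e' := h.conj_unique hL (hne _ e.2 _ w.2) e.2 e'.2
        (by rw [inv_smul_smul]; exact w.1.2) (by rw [e2, inv_smul_smul]; exact w'.1.2)
      rw [e3] at e2
      exact Prod.ext (Subtype.ext e3) (Subtype.ext (Subtype.ext (MulAction.injective (e' : G) e2)))
    · rintro ⟨z, hz⟩
      obtain ⟨e, he, hze⟩ := h.exists_conj hL hz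
      refine ⟨(⟨e, he⟩, ⟨⟨_, hze⟩, fun e1 => hz ?_⟩), Subtype.ext (smul_inv_smul e z)⟩
      rw [← smul_inv_smul e z]
      exact (congrArg (e • ·) e1).trans (smul_base_iff.2 (le_normalizer he))
  have := Fintype.ofFinite (fixSet E L)
  have h1 := Nat.card_eq_of_bijective f hf
  rw [Nat.card_prod, h.card, Nat.card_eq_fintype_card, Nat.card_eq_fintype_card,
    Fintype.card_subtype_compl, Fintype.card_subtype_compl, Fintype.card_subtype_eq] at h1
  have h2 : Fintype.card {w : fixSet E L // w.1 = base E} = 1 :=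
    Fintype.card_eq_one_iff.2 ⟨⟨⟨base E, hb⟩, rfl⟩, fun w => Subtype.ext (Subtype.ext w.2)⟩
  rw [h2, ← Nat.card_eq_fintype_card, ← Nat.card_eq_fintype_card] at h1
  have := Nat.card_pos (α := G ⧸ nE E)
  omega

/-- Two fixed points of `L` and `y` other than the base point coincide. -/
theorem Exc.fix_unique (h : Exc p E M) (hL : IsTor p E L) {y : G}
    (hy : y ∈ normalizer (L : Set G) ⊓ nE E) (hyp : y ^ p = 1) (hyM : y ∉ M) {z z' : G ⧸ nE E}
    (hz : z ≠ base E) (hzL : z ∈ fixSet E L) (hzy : y • z = z)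
    (hz' : z' ≠ base E) (hzL' : z' ∈ fixSet E L) (hzy' : y • z' = z') : z = z' := by
  have := Fact.mk h.mersenne
  have hy1 : y ≠ 1 := fun e => hyM (e ▸ one_mem M)
  have hcom : ∀ a ∈ L, ∀ b ∈ L, a * b = b * a := fun a ha b hb =>
    (mem_centralizer_iff.1 (h.le_cent hL hb) a ha)
  have hfree : ∀ c : G, c ^ (2 ^ p - 1) = 1 → Commute c y → c = 1 := fun c hc hcy =>
    h.eq_one hc (h.big.pow_of_commute hyp hy1 hcy)
  have key : ∀ w : G ⧸ nE E, w ≠ base E → w ∈ fixSet E L → y • w = w →
      ∃ r, orderOf r = 2 ∧ r ∈ normalizer (L : Set G) ∧ Commute r y ∧ r • base E = w := by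
    intro w hw hwL hwy
    obtain ⟨r, hr, hrw⟩ := h.big.toSE.exists_swap hw
    have hrL := h.swap_mem hL hw hwL hr hrw
    have hrw' : r • w = base E := by rw [← hrw, smul_self_of_involution hr]
    have hri := inv_eq_self_of_involution hr
    have hr2 := mul_self_eq_one hr
    have hryN : r * y * r ∈ nE E := by
      rw [← smul_base_iff, mul_smul, mul_smul, hrw, hwy, hrw']
    set l0 := r * y * r * y⁻¹ with hl0
    have hl0L : l0 ∈ L := h.cent_inf hL (by
      have := h.comm_mem hL hrL hy.1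
      rwa [hri] at this) (mul_mem hryN (inv_mem hy.2))
    have hinv : ∀ v ∈ L, r * v * r = v⁻¹ := by
      intro v hv
      have hv' : r * v * r ∈ L := by
        have := (mem_normalizer_iff.1 hrL v).1 hv
        rwa [hri] at this
      have hx1 : v * (r * v * r) = 1 := by
        refine h.eq_one (h.pow_tor hL (mul_mem hv hv')) (h.big.pow_two_mul hr ?_)
        show v * (r * v * r) * r = r * (v * (r * v * r))
        calc v * (r * v * r) * r = (r * r) * (v * (r * v * r)) * r := by rw [hr2, one_mul]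
          _ = r * ((r * v * r) * (v * (r * r))) := by simp only [mul_assoc]
          _ = r * (v * (r * v * r)) := by rw [hr2, mul_one, hcom _ hv' v hv]
      exact eq_inv_of_mul_eq_one_right hx1
    set l1 := l0 ^ 2 ^ (p - 1) with hl1
    have hl1L : l1 ∈ L := pow_mem hl0L _
    have hsq : l1 * l1 = l0 := by
      rw [hl1, ← pow_add, ← two_mul, ← pow_succ', Nat.sub_add_cancel h.big.prime.one_le]
      conv_lhs => rw [← Nat.sub_add_cancel (Nat.one_le_two_pow (n := p))]
      rw [pow_succ, h.pow_tor hL hl0L, one_mul]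
    -- conjugate `y` into the centraliser of `r`
    let φ : L → L := fun v => ⟨(v : G) * (y * (v : G)⁻¹ * y⁻¹),
      mul_mem v.2 ((mem_normalizer_iff.1 hy.1 _).1 (inv_mem v.2))⟩
    have hφ : Function.Injective φ := by
      intro v v' e
      have e1 : (v : G) * y * (v : G)⁻¹ = v' * y * (v' : G)⁻¹ := by
        have e2 : (v : G) * (y * (v : G)⁻¹ * y⁻¹) = v' * (y * (v' : G)⁻¹ * y⁻¹) := congrArg Subtype.val e
        calc (v : G) * y * (v : G)⁻¹ = (v : G) * (y * (v : G)⁻¹ * y⁻¹) * y := by group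
          _ = (v' : G) * (y * (v' : G)⁻¹ * y⁻¹) * y := by rw [e2]
          _ = _ := by group
      have e3 : (v' : G)⁻¹ * v = 1 := hfree _ (h.pow_tor hL (mul_mem (inv_mem v'.2) v.2)) (by
        show (v' : G)⁻¹ * v * y = y * ((v' : G)⁻¹ * v)
        calc (v' : G)⁻¹ * v * y = (v' : G)⁻¹ * ((v : G) * y * (v : G)⁻¹) * v := by group
          _ = (v' : G)⁻¹ * ((v' : G) * y * (v' : G)⁻¹) * v := by rw [e1]
          _ = _ := by group)
      exact Subtype.ext (inv_mul_eq_one.1 e3).symm
    obtain ⟨v, hv⟩ := Finite.injective_iff_surjective.1 hφ ⟨l1, hl1L⟩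
    have hv' : (v : G) * y * (v : G)⁻¹ = l1 * y := by
      rw [show l1 = (v : G) * (y * (v : G)⁻¹ * y⁻¹) from (congrArg Subtype.val hv).symm]; group
    have hrx : Commute r (l1 * y) := by
      show r * (l1 * y) = l1 * y * r
      calc r * (l1 * y) = (r * l1 * r) * (r * y * r * y⁻¹) * y * r := by
            simp only [mul_assoc, inv_mul_cancel_left]
            rw [← mul_assoc r r (y * (r * r)), hr2, one_mul, mul_one]
        _ = l1⁻¹ * l0 * y * r := by rw [hinv l1 hl1L]
        _ = l1 * y * r := by rw [← hsq, inv_mul_cancel_left]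
    refine ⟨(v : G)⁻¹ * r * v, by simpa using (orderOf_conj_eq (v : G)⁻¹ r).trans hr,
      mul_mem (mul_mem (inv_mem (le_normalizer v.2)) hrL) (le_normalizer v.2), ?_, ?_⟩
    · show (v : G)⁻¹ * r * v * y = y * ((v : G)⁻¹ * r * v)
      calc (v : G)⁻¹ * r * v * y = (v : G)⁻¹ * (r * ((v : G) * y * (v : G)⁻¹)) * v := by group
        _ = (v : G)⁻¹ * ((v : G) * y * (v : G)⁻¹ * r) * v := by rw [hv', hrx.eq]
        _ = _ := by group
    · rw [mul_smul, mul_smul, smul_base_iff.2 (hL.le v.2), hrw, hwL _ (inv_mem v.2)]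
  obtain ⟨r, hr, hrL, hry, hrz⟩ := key z hz hzL hzy
  obtain ⟨r', hr', hrL', hry', hrz'⟩ := key z' hz' hzL' hzy'
  have h1 : r * r' = 1 := hfree _ (h.pow_cent hL (h.mul_mem_cent hL hrL hrL' hr hr')) (hry.mul_left hry')
  rw [← hrz, ← hrz', (eq_inv_of_mul_eq_one_left h1).trans (inv_eq_self_of_involution hr')]

/-- The configuration is impossible. -/
theorem Exc.false (h : Exc p E M) : False := by
  classical
  have := Fact.mk h.big.prime
  have := Fact.mk h.mersenne
  obtain ⟨L, hL⟩ := h.exists_isTor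
  obtain ⟨y, hy, hyp, hyM⟩ := h.exists_y hL
  obtain ⟨t, ht, ht1, hyt⟩ := h.big.exists_commute h.card hy.2 hyp
  have hy1 : y ≠ 1 := fun e => hyM (e ▸ one_mem M)
  obtain ⟨z0, hz0, hz0y⟩ : ∃ z, z ≠ base E ∧ y • z = z := by
    by_contra hcon
    push Not at hcon
    exact h.big.false_of_fix h.isM hy.2 hyp hyM fun z hz => by
      by_contra hne
      exact hcon z hne hz
  -- reduce a fixed point of `y` to one of `L`
  have hred : ∀ z, z ≠ base E → y • z = z → ∃ e, (e = 1 ∨ e = t) ∧ e⁻¹ • z ∈ fixSet E L ∧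
      e⁻¹ • z ≠ base E ∧ y • e⁻¹ • z = e⁻¹ • z := by
    intro z hz hzy
    obtain ⟨e, he, hze⟩ := h.exists_conj hL hz
    have he' : y * e * y⁻¹ ∈ (E : Subgroup G) := (mem_normalizer_iff.1 hy.2 e).1 he
    have heq : y * e * y⁻¹ = e := h.conj_unique hL hz he' he (by
      rw [show (y * e * y⁻¹)⁻¹ • z = y • (e⁻¹ • (y⁻¹ • z)) by rw [smul_smul, smul_smul]; group,
        show y⁻¹ • z = z from inv_smul_eq_iff.2 hzy.symm]
      exact smul_mem_fixSet hy.1 hze) hze
    have hye : Commute y e := mul_inv_eq_iff_eq_mul.1 heq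
    refine ⟨e, ?_, hze, fun e1 => hz ?_, ?_⟩
    · rcases eq_or_ne e 1 with e2 | e2
      · exact Or.inl e2
      · exact Or.inr (h.big.unique_commute h.isM h.mersenne h.card hy.2 hyM ht ht1 he e2 hyt hye)
    · rw [← smul_inv_smul e z, e1]; exact smul_base_iff.2 (le_normalizer he)
    · rw [smul_smul, hye.inv_right.eq, ← smul_smul, hzy]
  obtain ⟨e0, -, hA1, hA2, hA3⟩ := hred z0 hz0 hz0y
  set zA := e0⁻¹ • z0 with hzA
  have hsub : {z : G ⧸ nE E | y • z = z} ⊆ {base E, zA, t • zA} := by
    intro z hz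
    rcases eq_or_ne z (base E) with e1 | e1
    · exact Or.inl e1
    obtain ⟨e, he, hb1, hb2, hb3⟩ := hred z e1 hz
    have h1 := h.fix_unique hL hy hyp hyM hb2 hb1 hb3 hA2 hA1 hA3
    rcases he with rfl | rfl
    · exact Or.inr (Or.inl (by simpa using h1))
    · exact Or.inr (Or.inr (show z = e • zA by rw [← h1, smul_inv_smul]))
  have hle : Nat.card {z : G ⧸ nE E | y • z = z} ≤ 3 := by
    rw [Nat.card_coe_set_eq]
    refine (Set.ncard_le_ncard hsub (Set.toFinite _)).trans ?_
    refine (Set.ncard_insert_le _ _).trans ?_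
    exact Nat.succ_le_succ ((Set.ncard_insert_le _ _).trans (by rw [Set.ncard_singleton]))
  -- that set is an orbit of a `p`-group
  obtain ⟨R, hRC, hRi, hR, hRall⟩ := h.big.exists_pPart h.isM h.mersenne h.card hy.2 hyp hyM
  have horb : MulAction.orbit R (base E) = {z : G ⧸ nE E | y • z = z} := by
    ext z
    constructor
    · rintro ⟨c, rfl⟩
      show y • (c : G) • base E = (c : G) • base E
      rw [smul_smul, ← (mem_centralizer_singleton_iff.1 (hRC c.2)), ← smul_smul, smul_base_iff.2 hy.2]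
    · intro hz
      obtain ⟨g, rfl⟩ := QuotientGroup.mk_surjective z
      obtain ⟨s', hs', hs'1, hcs⟩ := h.big.exists_commute h.card (smul_mk_iff.1 hz)
        (by simpa [hyp] using conj_pow (a := g⁻¹) (b := y) (i := p))
      set s := g * s' * g⁻¹ with hs
      have hs2 : orderOf s = 2 := by rw [hs, orderOf_conj_eq]; exact h.big.inv hs' hs'1
      have hsy : Commute s y := by
        show s * y = y * s
        calc s * y = g * (s' * (g⁻¹ * y * g)) * g⁻¹ := by rw [hs]; group
          _ = g * (g⁻¹ * y * g * s') * g⁻¹ := by rw [hcs.eq]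
          _ = y * s := by rw [hs]; group
      have htC : t ∈ centralizer ({y} : Set G) := mem_centralizer_singleton_iff.2 hyt.eq.symm
      have hsC : s ∈ centralizer ({y} : Set G) := mem_centralizer_singleton_iff.2 hsy.eq
      have hnot : ∀ u, orderOf u = 2 → Commute u y → u ∉ R := fun u hu huy hm => by
        have h1 := orderOf_dvd_of_pow_eq_one ((hRall u huy).2 hm)
        rw [hu] at h1
        exact h.big.odd ((Nat.prime_dvd_prime_iff_eq Nat.prime_two h.big.prime).1 h1).symm
      have hst : s * t ∈ R := by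
        have h1 : (R.subgroupOf (centralizer ({y} : Set G))).index = 2 := hRi
        exact (mem_subgroupOf (h := (⟨s, hsC⟩ * ⟨t, htC⟩ : centralizer ({y} : Set G)))).1
          ((mul_mem_iff_of_index_two h1).2 (iff_of_false (fun hm => hnot s hs2 hsy hm)
            fun hm => hnot t (h.big.inv ht ht1) hyt.symm hm))
      have hap : (s * t) ^ p = 1 := (hRall _ (hsy.mul_left hyt.symm)).2 hst
      obtain ⟨k, hk⟩ := h.big.prime.odd_of_ne_two h.big.odd
      refine ⟨⟨(s * t) ^ (k + 1), pow_mem hst _⟩, ?_⟩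
      show ((s * t) ^ (k + 1)) • base E = (g : G ⧸ nE E)
      have ht2 : t⁻¹ = t := inv_eq_of_mul_eq_one_right (h.big.exp ht)
      have hconj : ∀ i : ℕ, t * ((s * t) ^ i)⁻¹ = (s * t) ^ i * t := by
        intro i
        rw [← inv_pow, mul_inv_rev, ht2, inv_eq_self_of_involution hs2]
        induction i with
        | zero => simp
        | succ i ih =>
          calc t * (t * s) ^ (i + 1) = t * (t * s) ^ i * (t * s) := by rw [pow_succ, mul_assoc]
            _ = (s * t) ^ i * t * (t * s) := by rw [ih]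
            _ = (s * t) ^ i * s * (t * t) := by
                rw [h.big.exp ht, mul_one, mul_assoc, ← mul_assoc t t s, h.big.exp ht, one_mul]
            _ = (s * t) ^ i * (s * t) * t := by group
            _ = _ := by rw [pow_succ]
      have hfix : s • (((s * t) ^ (k + 1)) • base E) = ((s * t) ^ (k + 1)) • base E := by
        have h2 : (s * t) ^ (k + 1) * t * ((s * t) ^ (k + 1))⁻¹ = s := by
          rw [mul_assoc, hconj, ← mul_assoc, ← pow_add, show k + 1 + (k + 1) = p + 1 by omega, pow_succ,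
            hap, one_mul, mul_assoc, h.big.exp ht, mul_one]
        calc s • (((s * t) ^ (k + 1)) • base E)
            = ((s * t) ^ (k + 1) * t * ((s * t) ^ (k + 1))⁻¹) • (((s * t) ^ (k + 1)) • base E) := by
              rw [h2]
          _ = _ := by rw [mul_smul, inv_smul_smul, mul_smul, smul_base_iff.2 (le_normalizer ht)]
      refine fixed_unique h.big.stronglyEmbedded hs2 hfix (smul_mk_iff.2 ?_)
      rw [hs, show g⁻¹ * (g * s' * g⁻¹) * g = s' by group]
      exact le_normalizer hs'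
  obtain ⟨j, hj⟩ := hR.card_orbit (base E)
  rw [horb] at hj
  have h2 : 2 ≤ Nat.card {z : G ⧸ nE E | y • z = z} := by
    refine Finite.one_lt_card_iff_nontrivial.2 ⟨⟨z0, hz0y⟩, ⟨base E, smul_base_iff.2 hy.2⟩, fun e1 =>
      hz0 (congrArg Subtype.val e1)⟩
  have hj1 : 1 ≤ j := by
    rcases j with _ | j
    · rw [pow_zero] at hj; omega
    · omega
  have hp3 : p = 3 := by
    have h3 := (Nat.le_self_pow (by omega : j ≠ 0) p).trans_eq hj.symm
    have := h.big.three_le
    omega
  subst hp3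
  -- the order
  set Q := centralizer (L : Set G) with hQ
  have hQp : IsPGroup 7 Q := fun c => ⟨1, Subtype.ext (by simpa using h.pow_cent hL c.2)⟩
  have : Fact (Nat.Prime 7) := ⟨by norm_num⟩
  obtain ⟨i, hi⟩ := hQp.exists_card_eq
  have hi1 : 1 ≤ i := by
    by_contra hlt
    have h4 := Subgroup.card_dvd_of_le (h.le_cent hL)
    rw [hL.card, hi, show i = 0 by omega] at h4
    norm_num at h4
  obtain ⟨i, rfl⟩ := Nat.exists_eq_add_of_le' hi1
  have hfix := h.card_fixSet hL hz0
  have hi' : Nat.card Q = 7 ^ (i + 1) := hi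
  rw [← hQ, hi', show (2 : ℕ) ^ 3 - 1 = 7 by norm_num, pow_succ, ← mul_assoc] at hfix
  have hfix' := Nat.eq_of_mul_eq_mul_right (by norm_num) hfix
  have hn := h.card_quot hL
  rw [hfix'] at hn
  have hG : Nat.card G = (1 + 2 ^ 3 * (2 * 7 ^ i - 1)) * 168 := by
    rw [Subgroup.card_eq_card_quotient_mul_card_subgroup (nE E), hn, h.card_N]
    norm_num
  have hd : 7 ^ (i + 1) ∣ Nat.card G := hi' ▸ Subgroup.card_subgroup_dvd_card Q
  rcases i with _ | _ | i
  · exact CfsgLib.Small.Low.card_ne_1512 h.big.noncomm (by rw [hG]; norm_num)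
  · refine false_17640 (by rw [hG]; norm_num) fun x hx c hc => ?_
    rcases eq_or_ne c 1 with rfl | hc1
    · exact one_pow 5
    have key : ∀ {d : G} {r : ℕ}, r.Prime → orderOf d = r → Commute d x → r = 5 := by
      intro d r hr hdr hdx
      by_contra hne
      rcases eq_of_two_mul hr h.big.prime
        (h.big.hyp.prime_mul_eq hr (by norm_num : Nat.Prime 5) hne hdr hx hdx) with ⟨-, e1⟩ | ⟨-, e1⟩ <;>
        omega
    rcases h.big.hyp c hc1 with hr | hr
    · rw [← key hr rfl hc]; exact pow_orderOf_eq_one c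
    · have h5 : orderOf (c ^ 3) = 2 := by
        rw [orderOf_pow_of_dvd (by norm_num) (hr ▸ dvd_mul_left 3 2), hr]
      exact absurd (key Nat.prime_two h5 (hc.pow_left 3)) (by norm_num)
  · have h7 : 7 ^ 3 ∣ Nat.card G := (pow_dvd_pow 7 (by omega)).trans hd
    rw [hG] at h7
    have h8 : 1 + 2 ^ 3 * (2 * 7 ^ (i + 1 + 1) - 1) = 7 * (16 * 7 ^ (i + 1) - 1) := by
      have := Nat.one_le_pow (i + 1) 7 (by norm_num)
      rw [pow_succ 7 (i + 1)]
      omega
    rw [h8, show 7 * (16 * 7 ^ (i + 1) - 1) * 168 = 7 ^ 2 * (24 * (16 * 7 ^ (i + 1) - 1)) by ring,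
      show (7 : ℕ) ^ 3 = 7 ^ 2 * 7 by norm_num] at h7
    have h9 := (Nat.mul_dvd_mul_iff_left (by norm_num)).1 h7
    have h10 := Nat.one_le_pow (i + 1) 7 (by norm_num)
    rw [pow_succ] at h9 h10
    omega

/-- `N(E) / C(E)` cannot have order `(2ᵖ - 1) p`. -/
theorem Big.semilinear_false {E : Sylow 2 G} (h : Big p E) (hℓ : (2 ^ p - 1).Prime)
    (hE : Nat.card (E : Subgroup G) = 2 ^ p)
    (hidx : (centralizer ((E : Subgroup G) : Set G)).relIndex (normalizer ((E : Subgroup G) : Set G)) =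
      (2 ^ p - 1) * p) : False := by
  obtain ⟨M, hM⟩ := h.exists_isM hℓ hidx
  exact (Exc.mk h hM hℓ hE hidx).false

end CfsgLib.OneComposite
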