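import Cfsg.Agent.Lib.OneComposite.Structure
import Cfsg.Agent.Lib.Small.MidC
import Cfsg.Agent.Lib.CIT.TI

/-!
Orders prime or `2p`: fixed points on the cosets of `N(E)`. An element `w ≠ 1` of order `p`
centralising `E` fixes only the base point, and the centraliser of `w` lies in `N(E)`.
-/

set_option autoImplicit false
set_option linter.unusedSectionVars false

open Subgroup CfsgLib.Involutions CfsgLib.StrongEmbedding

namespace CfsgLib.OneComposite

universe u

variable {G : Type u} [Group G] [Finite G] {p : ℕ} {E : Sylow 2 G}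

/-- `x ∈ C(E)` with `x ^ p = 1`. -/
def IsK (p : ℕ) (E : Sylow 2 G) (x : G) : Prop :=
  x ∈ centralizer ((E : Subgroup G) : Set G) ∧ x ^ p = 1

theorem IsK.conj {x n : G} (hx : IsK p E x) (hn : n ∈ normalizer ((E : Subgroup G) : Set G)) :
    IsK p E (n * x * n⁻¹) := by
  refine ⟨mem_centralizer_iff.2 fun y hy => ?_, by rw [conj_pow, hx.2, mul_one, mul_inv_cancel]⟩
  have hy' : n⁻¹ * y * n ∈ (E : Subgroup G) := (mem_normalizer_iff''.1 hn y).1 hy
  have h1 := mem_centralizer_iff.1 hx.1 _ hy'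
  calc y * (n * x * n⁻¹) = n * ((n⁻¹ * y * n) * x) * n⁻¹ := by group
    _ = n * (x * (n⁻¹ * y * n)) * n⁻¹ := by rw [h1]
    _ = n * x * n⁻¹ * y := by group

theorem Base.isK_mul (h : Base p E) {x y : G} (hx : IsK p E x) (hy : IsK p E y) :
    IsK p E (x * y) := by
  obtain ⟨K, hK, -⟩ := h.exists_complement
  exact (hK _).1 (mul_mem ((hK x).2 hx) ((hK y).2 hy))

theorem IsK.inv {x : G} (hx : IsK p E x) : IsK p E x⁻¹ :=
  ⟨inv_mem hx.1, by rw [inv_pow, hx.2, inv_one]⟩

theorem Base.eq_one_of_sq (h : Base p E) {x : G} (h2 : x * x = 1) (hp : x ^ p = 1) : x = 1 := by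
  obtain ⟨k, hk⟩ := h.prime.odd_of_ne_two h.odd
  rw [hk, pow_succ, pow_mul, pow_two, h2, one_pow, one_mul] at hp
  exact hp

theorem Base.orderOf_p (h : Base p E) {x : G} (hp : x ^ p = 1) (h1 : x ≠ 1) : orderOf x = p :=
  have := Fact.mk h.prime
  orderOf_eq_prime hp h1

theorem Base.prime_commute (h : Base p E) {w c : G} {r : ℕ} (hw : w ^ p = 1) (hw1 : w ≠ 1)
    (hr : r.Prime) (hc : orderOf c = r) (hcw : Commute c w) : r = 2 ∨ r = p := by
  refine or_iff_not_imp_right.2 fun hne => ?_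
  rcases eq_of_two_mul hr h.prime (h.hyp.prime_mul_eq hr h.prime hne hc (h.orderOf_p hw hw1) hcw) with
    ⟨e, -⟩ | ⟨e, -⟩
  · exact e
  · exact absurd e hne

theorem Base.pow_of_commute (h : Base p E) {w c : G} (hw : w ^ p = 1) (hw1 : w ≠ 1)
    (hcw : Commute c w) : c ^ (2 * p) = 1 := by
  rcases eq_or_ne c 1 with rfl | hc1
  · exact one_pow _
  refine orderOf_dvd_iff_pow_eq_one.1 ?_
  rcases h.hyp c hc1 with hr | hr
  · rcases h.prime_commute hw hw1 hr rfl hcw with e | e
    · rw [e]; exact dvd_mul_right 2 p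
    · rw [e]; exact dvd_mul_left p 2
  · rw [hr]

variable [IsSimpleGroup G]

theorem Base.isK_eq_one_of_mem (h : Base p E) {x : G} (hx : x ∈ (E : Subgroup G)) (hp : x ^ p = 1) :
    x = 1 :=
  h.eq_one_of_sq (h.exp hx) hp

/-- The centraliser of an element `≠ 1` of `K` lies in `N(E)`. -/
theorem SE.centralizer_le_of_isK (h : SE p E) {w : G} (hw : IsK p E w) (hw1 : w ≠ 1) :
    centralizer ({w} : Set G) ≤ normalizer ((E : Subgroup G) : Set G) := by
  have : Fact (Nat.Prime 2) := ⟨Nat.prime_two⟩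
  have := h.elem.1
  set C := centralizer ({w} : Set G) with hC
  have hEC : (E : Subgroup G) ≤ C := fun x hx =>
    mem_centralizer_singleton_iff.2 (mem_centralizer_iff.1 hw.1 x hx)
  have : Group.IsSolvable C := FewOrders.isSolvable_of_two_primes Nat.prime_two h.prime
    fun r hr hd => by
      have := Fact.mk hr
      obtain ⟨c, hc⟩ := exists_prime_orderOf_dvd_card' r hd
      exact h.prime_commute hw.2 hw1 hr (by rw [Subgroup.orderOf_coe]; exact hc)
        (mem_centralizer_singleton_iff.1 c.2)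
  have htop := FTCons.pPrimeCore_sup_normalizer_eq_top (E.subtype hEC)
    fun x hx y hy => Subtype.ext (h.comm hx hy).eq
  set O := (Cfsg.pPrimeCore 2 C).map C.subtype with hO
  have hmap : C = O ⊔
      (normalizer (((E.subtype hEC : Sylow 2 C) : Subgroup C) : Set C)).map C.subtype := by
    rw [hO, ← Subgroup.map_sup, htop, ← MonoidHom.range_eq_map, range_subtype]
  have hEO : (E : Subgroup G) ≤ normalizer (O : Set G) := by
    refine le_normalizer_iff.2 ?_
    rintro e he _ ⟨y, hy, rfl⟩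
    exact ⟨⟨e, hEC he⟩ * y * ⟨e, hEC he⟩⁻¹,
      (inferInstance : (Cfsg.pPrimeCore 2 C).Normal).conj_mem _ hy _, rfl⟩
  have hcop : (Nat.card (E : Subgroup G)).Coprime (Nat.card O) := by
    obtain ⟨k, hk⟩ := E.isPGroup'.exists_card_eq
    rw [hk, hO, card_subtype]
    exact Nat.Coprime.pow_left k CfsgLib.PCore.pPrimeCore_coprime.symm
  rw [hmap]
  refine sup_le ?_ ?_
  · rw [← CfsgLib.CoprimeGeneration.iSup_centralizer_eq (E : Subgroup G) O h.noncyclic hEO hcop]
    exact iSup₂_le fun a ⟨ha, ha1⟩ =>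
      inf_le_right.trans (h.centralizer_le_normalizer' ha ha1)
  · refine (le_normalizer_map _).trans (le_of_eq ?_)
    rw [Sylow.coe_subtype, map_subgroupOf_eq_of_le hEC]

/-- The base point. -/
abbrev base (E : Sylow 2 G) : G ⧸ normalizer ((E : Subgroup G) : Set G) :=
  ((1 : G) : G ⧸ normalizer ((E : Subgroup G) : Set G))

theorem smul_base_iff {g : G} :
    g • base E = base E ↔ g ∈ normalizer ((E : Subgroup G) : Set G) :=
  mem_iff_smul_base.symm

theorem smul_mk_iff {g c : G} :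
    g • (c : G ⧸ normalizer ((E : Subgroup G) : Set G)) = c ↔
      c⁻¹ * g * c ∈ normalizer ((E : Subgroup G) : Set G) := by
  rw [Involutions.smul_coset_eq_iff]

theorem mk_eq_base_iff {c : G} :
    (c : G ⧸ normalizer ((E : Subgroup G) : Set G)) = base E ↔
      c ∈ normalizer ((E : Subgroup G) : Set G) := by
  rw [QuotientGroup.eq, mul_one, inv_mem_iff]

/-- Elements `≠ 1` of `K` fix only the base point. -/
def Sep (p : ℕ) (E : Sylow 2 G) : Prop :=
  ∀ w g : G, IsK p E w → w ≠ 1 → g⁻¹ * w * g ∈ normalizer ((E : Subgroup G) : Set G) →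
    g ∈ normalizer ((E : Subgroup G) : Set G)

theorem Sep.eq_base (h : Sep p E) {w : G} (hw : IsK p E w) (hw1 : w ≠ 1)
    {z : G ⧸ normalizer ((E : Subgroup G) : Set G)} (hz : w • z = z) : z = base E := by
  obtain ⟨c, rfl⟩ := QuotientGroup.mk_surjective z
  exact mk_eq_base_iff.2 (h w c hw hw1 (smul_mk_iff.1 hz))

/-- An element of `N(E)` that commutes with an involution of `E` and is conjugate to `w`. -/
theorem SE.sep_of_commute (h : SE p E) {w g t : G} (hw : IsK p E w) (hw1 : w ≠ 1)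
    (ht : t ∈ (E : Subgroup G)) (ht1 : t ≠ 1) (hc : Commute (g⁻¹ * w * g) t) :
    g ∈ normalizer ((E : Subgroup G) : Set G) := by
  have h1 : g * t * g⁻¹ ∈ normalizer ((E : Subgroup G) : Set G) :=
    h.centralizer_le_of_isK hw hw1 (mem_centralizer_singleton_iff.2 (by
      calc g * t * g⁻¹ * w = g * (t * (g⁻¹ * w * g)) * g⁻¹ := by group
        _ = g * (g⁻¹ * w * g * t) * g⁻¹ := by rw [hc.eq]
        _ = w * (g * t * g⁻¹) := by group))
  exact se_mem_of_conj_mem h.se h1 (by rw [orderOf_conj_eq]; exact h.inv ht ht1)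
    (by simpa [mul_assoc] using le_normalizer ht)

theorem SE.exists_swap (h : SE p E) {y : G ⧸ normalizer ((E : Subgroup G) : Set G)}
    (hy : y ≠ base E) : ∃ r : G, orderOf r = 2 ∧ r • base E = y := by
  obtain ⟨t, ht, ht1⟩ := h.exists_ne_one
  have hc := card_swapping h.se hy.symm
  have : Nonempty {t : G // orderOf t = 2 ∧ t ∈ normalizer ((E : Subgroup G) : Set G)} :=
    ⟨⟨t, h.inv ht ht1, le_normalizer ht⟩⟩
  have hne : Nat.card {i : G // orderOf i = 2 ∧ i • base E = y} ≠ 0 := hc ▸ Nat.card_pos.ne'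
  obtain ⟨r, hr⟩ := (Nat.card_ne_zero.1 hne).1
  exact ⟨r, hr⟩

/-- If involution centralisers in `E` are `C(E)`, then `Sep` holds. -/
theorem SE.sep_regular (h : SE p E) (hC : ∀ t ∈ (E : Subgroup G), t ≠ 1 →
    centralizer ({t} : Set G) = centralizer ((E : Subgroup G) : Set G)) : Sep p E := by
  set N := normalizer ((E : Subgroup G) : Set G) with hN
  intro w g hw hw1 hwg
  by_contra hg
  have hwN : w ∈ N := centralizer_le_normalizer _ hw.1
  obtain ⟨r, hr, hry⟩ := h.exists_swap (mt mk_eq_base_iff.1 hg)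
  have hrN : r ∉ N := fun e => hg (mk_eq_base_iff.1 (hry.symm.trans (smul_base_iff.2 e)))
  have hr2 : r * r = 1 := mul_self_eq_one hr
  have hri : r⁻¹ = r := inv_eq_self_of_involution hr
  have hwy : w • (r • base E) = r • base E := by rw [hry]; exact smul_mk_iff.2 hwg
  set v := r * w * r with hv
  have hvN : v ∈ N := smul_base_iff.1 (by
    rw [hv, mul_smul, mul_smul, hwy, smul_self_of_involution hr])
  have hvp : v ^ p = 1 := by
    rw [hv, show r * w * r = r * w * r⁻¹ by rw [hri], conj_pow, hw.2, mul_one, mul_inv_cancel]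
  -- `K ∩ rKr = 1`
  have hsep : ∀ c, IsK p E c → IsK p E (r * c * r) → c = 1 := by
    intro c hc hc'
    by_contra hc1
    obtain ⟨t, ht, ht1⟩ := h.exists_ne_one
    have h1 : r * t * r ∈ N := h.centralizer_le_of_isK hc hc1 (mem_centralizer_singleton_iff.2 (by
      have h2 := mem_centralizer_iff.1 hc'.1 t ht
      calc r * t * r * c = r * (t * (r * c * r)) * r := by
            simp only [mul_assoc]; rw [hr2, mul_one]
        _ = r * ((r * c * r) * t) * r := by rw [h2]
        _ = c * (r * t * r) := by simp only [← mul_assoc]; rw [hr2, one_mul]))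
    exact hrN (se_mem_of_conj_mem h.se (le_normalizer ht) (h.inv ht ht1)
      (by rw [hri]; exact h1))
  have hcomm : Commute w v := by
    have hc1 : IsK p E (w * v * w⁻¹ * v⁻¹) := by
      have := h.isK_mul hw (hw.inv.conj hvN)
      rwa [show w * (v * w⁻¹ * v⁻¹) = w * v * w⁻¹ * v⁻¹ by group] at this
    have hc2 : IsK p E (r * (w * v * w⁻¹ * v⁻¹) * r) := by
      have := h.isK_mul (hw.conj hvN) hw.inv
      rwa [show v * w * v⁻¹ * w⁻¹ = r * (w * v * w⁻¹ * v⁻¹) * r by
        simp only [hv, mul_inv_rev, hri]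
        calc r * w * r * w * (r * (w⁻¹ * r)) * w⁻¹
            = r * w * (r * w * r) * w⁻¹ * r * (w⁻¹ * 1) := by group
          _ = r * w * (r * w * r) * w⁻¹ * r * (w⁻¹ * (r * r)) := by rw [hr2]
          _ = _ := by simp only [mul_assoc]] at this
    exact mul_inv_eq_iff_eq_mul.1 (mul_inv_eq_one.1 (hsep _ hc1 hc2))
  set u := w * v with hu
  have hup : u ^ p = 1 := by rw [hu, hcomm.mul_pow, hw.2, hvp, one_mul]
  have hrwr : ∀ x, r * x * r = w → x = r * w * r := fun x hx => by
    rw [← hx]; simp only [← mul_assoc, hr2, one_mul]; rw [mul_assoc, hr2, mul_one]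
  have hne : v ≠ w := fun e => hw1 (hsep w hw (by rw [← hv, e]; exact hw))
  have hu1 : u ≠ 1 := fun e => by
    have e' : v = w⁻¹ := eq_inv_of_mul_eq_one_right e
    exact hw1 (hsep w hw (by rw [← hv, e']; exact hw.inv))
  have hru : Commute r u := by
    show r * u = u * r
    calc r * u = r * w * (r * w * r) := by rw [hu, hv]; group
      _ = v * w * r := by rw [hv]; group
      _ = u * r := by rw [← hcomm.eq, hu]
  obtain ⟨z, hz⟩ := exists_fixed h.se hr
  obtain ⟨c, rfl⟩ := QuotientGroup.mk_surjective z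
  set t := c⁻¹ * r * c with htdef
  have ht : orderOf t = 2 := by rw [htdef]; simpa using (orderOf_conj_eq c⁻¹ r).trans hr
  have htE : t ∈ (E : Subgroup G) := mem_E_of_normalizes (smul_mk_iff.1 hz) (mul_self_eq_one ht)
  have ht1 : t ≠ 1 := fun e => by rw [e, orderOf_one] at ht; omega
  set u' := c⁻¹ * u * c with hu'
  have hu'D : IsK p E u' := by
    refine ⟨?_, by rw [hu']; simpa [hup] using conj_pow (a := c⁻¹) (b := u) (i := p)⟩
    rw [← hC t htE ht1, mem_centralizer_singleton_iff]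
    calc u' * t = c⁻¹ * (u * r) * c := by rw [hu', htdef]; group
      _ = c⁻¹ * (r * u) * c := by rw [hru.eq]
      _ = t * u' := by rw [hu', htdef]; group
  have hu'1 : u' ≠ 1 := fun e => hu1 (by
    calc u = c * u' * c⁻¹ := by rw [hu']; group
      _ = 1 := by rw [e]; simp)
  set w' := c⁻¹ * w * c with hw'
  have hwu : Commute w u := (Commute.refl w).mul_right hcomm
  have hw'N : w' ∈ N := h.centralizer_le_of_isK hu'D hu'1 (mem_centralizer_singleton_iff.2 (by
    calc w' * u' = c⁻¹ * (w * u) * c := by rw [hu', hw']; group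
      _ = c⁻¹ * (u * w) * c := by rw [hwu.eq]
      _ = u' * w' := by rw [hu', hw']; group))
  have hx : w' * t * w'⁻¹ * t ∈ (E : Subgroup G) :=
    mul_mem ((mem_normalizer_iff.1 hw'N t).1 htE) htE
  have hxe : w' * t * w'⁻¹ * t = c⁻¹ * (w * (r * w⁻¹ * r)) * c := by rw [hw', htdef]; group
  have hcomm' : Commute w (r * w⁻¹ * r) := by
    rw [show r * w⁻¹ * r = v⁻¹ by rw [hv, mul_inv_rev, mul_inv_rev, hri]; group]
    exact hcomm.inv_right
  have hxp : (w' * t * w'⁻¹ * t) ^ p = 1 := by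
    have h3 : (r * w⁻¹ * r) ^ p = 1 := by
      rw [show r * w⁻¹ * r = r * w⁻¹ * r⁻¹ by rw [hri], conj_pow, inv_pow, hw.2, inv_one, mul_one,
        mul_inv_cancel]
    rw [hxe]
    simpa [hcomm'.mul_pow, hw.2, h3] using
      conj_pow (a := c⁻¹) (b := w * (r * w⁻¹ * r)) (i := p)
  have hx1 := h.isK_eq_one_of_mem hx hxp
  rw [hxe, show c⁻¹ * (w * (r * w⁻¹ * r)) * c = c⁻¹ * (w * (r * w⁻¹ * r)) * c⁻¹⁻¹ by rw [inv_inv],
    conj_eq_one_iff] at hx1
  refine hne ?_
  have h4 : r * w⁻¹ * r = w⁻¹ := eq_inv_of_mul_eq_one_right hx1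
  calc v = (r * w⁻¹ * r)⁻¹ := by rw [hv, mul_inv_rev, mul_inv_rev, inv_inv, hri, mul_assoc]
    _ = w := by rw [h4, inv_inv]

/-- An element of order `p` of `N(E)` centralises an involution of `E` when `|E| = 2ᵖ`. -/
theorem Base.exists_commute (h : Base p E) (hE : Nat.card (E : Subgroup G) = 2 ^ p) {a : G}
    (ha : a ∈ normalizer ((E : Subgroup G) : Set G)) (hap : a ^ p = 1) :
    ∃ t ∈ (E : Subgroup G), t ≠ 1 ∧ Commute a t := by
  have := Fact.mk h.prime
  have hP : IsPGroup p (zpowers a) := by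
    rintro ⟨x, hx⟩
    obtain ⟨k, rfl⟩ := mem_zpowers_iff.1 hx
    refine ⟨1, Subtype.ext ?_⟩
    simp only [pow_one, SubgroupClass.coe_pow, OneMemClass.coe_one]
    rw [← zpow_natCast, ← zpow_mul, mul_comm, zpow_mul, zpow_natCast, hap, one_zpow]
  have hmod := CfsgLib.Small.Mid.card_modEq_inf_centralizer hP (A := (E : Subgroup G))
    (fun t ht x hx => (mem_normalizer_iff.1 (zpowers_le.2 ha ht) x).1 hx)
  rcases Subgroup.bot_or_exists_ne_one
      ((E : Subgroup G) ⊓ centralizer (zpowers a : Set G)) with e | ⟨t, ht, ht1⟩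
  · rw [e, card_bot, hE] at hmod
    have h2 : ((2 ^ p : ℕ) : ZMod p) = ((1 : ℕ) : ZMod p) := (ZMod.natCast_eq_natCast_iff _ _ _).2 hmod
    rw [Nat.cast_pow, ZMod.pow_card, Nat.cast_one] at h2
    push_cast at h2
    exact absurd (by linear_combination h2 : (1 : ZMod p) = 0) one_ne_zero
  · exact ⟨t, ht.1, ht1, mem_centralizer_iff.1 ht.2 a (mem_zpowers a)⟩

/-- For `|E| = 2ᵖ` the hypothesis `Sep` holds. -/
theorem SE.sep_semilinear (h : SE p E) (hE : Nat.card (E : Subgroup G) = 2 ^ p) : Sep p E := by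
  intro w g hw hw1 hwg
  obtain ⟨t, ht, ht1, hc⟩ := h.exists_commute hE hwg (by
    simpa [hw.2] using conj_pow (a := g⁻¹) (b := w) (i := p))
  exact h.sep_of_commute hw hw1 ht ht1 hc

end CfsgLib.OneComposite
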