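import Cfsg.Agent.Lib.OneComposite.Setting
import Cfsg.Agent.Lib.Coprime.Commutator

/-!
Orders prime or `2p`: the Sylow `2`-subgroup `E` centralises the core `W`, so `N(E)` is strongly
embedded. If an element `a` of prime order `r` moves a weight of `E` on a section of `W`, the norm of a
weight vector along the orbit gives an element of order `r p`.
-/

set_option autoImplicit false
set_option linter.unusedSectionVars false

open Subgroup CfsgLib.Involutions
open scoped commutatorElement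

namespace CfsgLib.OneComposite

/-- Vectors with pairwise different weights have a nontrivial product. -/
theorem prod_ne_one_of_weights {V ι κ : Type*} [CommGroup V] (hodd : ∀ v : V, v * v = 1 → v = 1)
    (f : κ → (V →* V)) (w : ι → V) (hne : ∀ i, w i ≠ 1)
    (hw : ∀ i x, f x (w i) = w i ∨ f x (w i) = (w i)⁻¹)
    (hsep : ∀ i j, i ≠ j → ∃ x, f x (w i) = w i ∧ f x (w j) = (w j)⁻¹ ∨
      f x (w i) = (w i)⁻¹ ∧ f x (w j) = w j)
    (S : Finset ι) (hS : S.Nonempty) : ∏ i ∈ S, w i ≠ 1 := by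
  classical
  induction S using Finset.strongInduction with
  | _ S ih =>
    intro h1
    obtain ⟨i, hi⟩ := hS
    rcases eq_or_ne S {i} with rfl | hS1
    · rw [Finset.prod_singleton] at h1
      exact hne i h1
    obtain ⟨j, hj, hji⟩ : ∃ j ∈ S, j ≠ i := by
      by_contra hcon
      push Not at hcon
      exact hS1 (Finset.eq_singleton_iff_unique_mem.2 ⟨hi, hcon⟩)
    obtain ⟨x, hx⟩ := hsep i j hji.symm
    have hfix : ∀ k, f x (w k) = w k → ¬ f x (w k) = (w k)⁻¹ := fun k e e' =>
      hne k (hodd _ (by rw [e] at e'; exact mul_eq_one_iff_eq_inv.2 e'))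
    set A := S.filter fun k => f x (w k) = w k with hA
    set B := S.filter fun k => ¬ f x (w k) = w k with hB
    have hAB : (∏ k ∈ A, w k) * ∏ k ∈ B, w k = 1 := by
      rw [hA, hB, Finset.prod_filter_mul_prod_filter_not, h1]
    have hxA : f x (∏ k ∈ A, w k) = ∏ k ∈ A, w k := by
      rw [map_prod]
      exact Finset.prod_congr rfl fun k hk => (Finset.mem_filter.1 hk).2
    have hxB : f x (∏ k ∈ B, w k) = (∏ k ∈ B, w k)⁻¹ := by
      rw [map_prod, ← Finset.prod_inv_distrib]
      exact Finset.prod_congr rfl fun k hk => (hw k x).resolve_left (Finset.mem_filter.1 hk).2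
    have h2 : (∏ k ∈ A, w k) * (∏ k ∈ B, w k)⁻¹ = 1 := by
      conv_lhs => rw [← hxA, ← hxB, ← map_mul, hAB, map_one]
    have hA1 : ∏ k ∈ A, w k = 1 := by
      refine hodd _ ?_
      rw [mul_inv_eq_one] at h2
      nth_rewrite 2 [h2]
      exact hAB
    obtain ⟨a, haS, ha, b, hbS, hb⟩ :
        ∃ a ∈ S, f x (w a) = w a ∧ ∃ b ∈ S, ¬ f x (w b) = w b := by
      rcases hx with ⟨e1, e2⟩ | ⟨e1, e2⟩
      · exact ⟨i, hi, e1, j, hj, fun e => hfix j e e2⟩
      · exact ⟨j, hj, e2, i, hi, fun e => hfix i e e1⟩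
    exact ih A ((Finset.filter_subset _ _).ssubset_of_ne fun e =>
      hb (Finset.mem_filter.1 ((Finset.ext_iff.1 e b).2 hbS)).2) ⟨a, Finset.mem_filter.2 ⟨haS, ha⟩⟩ hA1

/-- Commuting operators of exponent `2` have a common weight vector. -/
theorem exists_weight {V κ : Type*} [CommGroup V] [Finite κ] (f : κ → (V →* V))
    (hcomm : ∀ x y v, f x (f y v) = f y (f x v)) (hinv : ∀ x v, f x (f x v) = v)
    {e : κ} {u : V} (he : f e u ≠ u) :
    ∃ v : V, v ≠ 1 ∧ f e v = v⁻¹ ∧ ∀ x, f x v = v ∨ f x v = v⁻¹ := by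
  classical
  have := Fintype.ofFinite κ
  suffices key : ∀ S : Finset κ, ∃ v : V, v ≠ 1 ∧ f e v = v⁻¹ ∧ ∀ x ∈ S, f x v = v ∨ f x v = v⁻¹ by
    obtain ⟨v, h1, h2, h3⟩ := key Finset.univ
    exact ⟨v, h1, h2, fun x => h3 x (Finset.mem_univ x)⟩
  intro S
  induction S using Finset.induction with
  | empty =>
    refine ⟨u⁻¹ * f e u, fun h1 => he (inv_mul_eq_one.1 h1).symm, ?_, by simp⟩
    rw [map_mul, map_inv, hinv]
    group
  | @insert y S _ ih =>
    obtain ⟨v, h1, h2, h3⟩ := ih
    by_cases hv : v * f y v = 1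
    · refine ⟨v, h1, h2, fun x hx => ?_⟩
      rcases Finset.mem_insert.1 hx with rfl | hx
      · exact Or.inr (eq_inv_of_mul_eq_one_right hv)
      · exact h3 x hx
    · refine ⟨v * f y v, hv, ?_, fun x hx => ?_⟩
      · rw [map_mul, hcomm, h2, map_inv, mul_inv]
      · rcases Finset.mem_insert.1 hx with rfl | hx
        · left; rw [map_mul, hinv, mul_comm]
        · rcases h3 x hx with e1 | e1
          · left; rw [map_mul, hcomm, e1]
          · right; rw [map_mul, hcomm, e1, map_inv, mul_inv]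

universe u

variable {G : Type u} [Group G]

/-- The action of the normaliser of `U` on the abelianisation of `U`. -/
noncomputable def abAct {U : Subgroup G} {n : G} (hn : n ∈ normalizer (U : Set G)) :
    Abelianization U →* Abelianization U :=
  Abelianization.map
    { toFun := fun u => ⟨n * u * n⁻¹, (mem_normalizer_iff.1 hn _).1 u.2⟩
      map_one' := Subtype.ext (by simp)
      map_mul' := fun a b => Subtype.ext (by simp [mul_assoc]) }

theorem abAct_of {U : Subgroup G} {n : G} (hn : n ∈ normalizer (U : Set G)) (u : U) :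
    abAct hn (Abelianization.of u) =
      Abelianization.of (⟨n * u * n⁻¹, (mem_normalizer_iff.1 hn _).1 u.2⟩ : U) :=
  Abelianization.map_of _ u

theorem abAct_abAct {U : Subgroup G} {m n : G} (hm : m ∈ normalizer (U : Set G))
    (hn : n ∈ normalizer (U : Set G)) (v : Abelianization U) :
    abAct hm (abAct hn v) = abAct (mul_mem hm hn) v := by
  obtain ⟨u, rfl⟩ := QuotientGroup.mk_surjective v
  change abAct hm (abAct hn (Abelianization.of u)) = abAct _ (Abelianization.of u)
  rw [abAct_of, abAct_of, abAct_of]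
  exact congrArg _ (Subtype.ext (by simp [mul_assoc]))

theorem abAct_congr {U : Subgroup G} {m n : G} (hm : m ∈ normalizer (U : Set G))
    (hn : n ∈ normalizer (U : Set G)) (e : m = n) (v : Abelianization U) :
    abAct hm v = abAct hn v := by subst e; rfl

theorem abAct_one {U : Subgroup G} {m : G} (hm : m ∈ normalizer (U : Set G)) (e : m = 1)
    (v : Abelianization U) : abAct hm v = v := by
  obtain ⟨u, rfl⟩ := QuotientGroup.mk_surjective v
  subst e
  change abAct hm (Abelianization.of u) = Abelianization.of u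
  rw [abAct_of]
  exact congrArg _ (Subtype.ext (by simp))

variable [Finite G] {p : ℕ} {E : Sylow 2 G} [IsSimpleGroup G]

theorem Big.core_le_centralizer (h : Big p E) :
    core E ≤ centralizer ((E : Subgroup G) : Set G) := by
  classical
  have : Fact (Nat.Prime 2) := ⟨Nat.prime_two⟩
  have := Fact.mk h.prime
  rw [← commutator_eq_bot_iff_le_centralizer]
  by_contra hU0
  set W := core E with hW
  set U := ⁅W, (E : Subgroup G)⁆ with hU
  set N := normalizer ((E : Subgroup G) : Set G) with hN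
  have hEN : (E : Subgroup G) ≤ N := le_normalizer
  have hUW : U ≤ W := Coprime.commutator_le_of_normalizes h.le_normalizer_core
  have hNU : ∀ n ∈ N, n ∈ normalizer (U : Set G) := by
    intro n hn
    refine (le_normalizer_iff.2 ?_ : N ≤ normalizer (U : Set G)) hn
    intro m hm x hx
    have h1 : U.map (MulAut.conj m).toMonoidHom ≤ U := by
      rw [hU, map_commutator]
      refine commutator_mono ?_ ?_
      · rintro _ ⟨w, hw, rfl⟩; exact conj_mem_centralizer_core hm hw
      · rintro _ ⟨e, he, rfl⟩; exact (mem_normalizer_iff.1 hm _).1 he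
    exact h1 ⟨x, hx, rfl⟩
  have hUp : IsPGroup p U := h.isPGroup_core.to_le hUW
  have hUexp : ∀ x ∈ U, x ^ p = 1 := fun x hx => h.hyp.pow_eq_one h.prime h.odd hUp hx
  have hnt : Nontrivial U := (nontrivial_iff_ne_bot _).2 hU0
  have : Group.IsNilpotent U := hUp.isNilpotent
  have hUU : ⁅U, (E : Subgroup G)⁆ = U := Coprime.commutator_commutator_eq _ _ h.le_normalizer_core
    h.coprime_core (Or.inl (have := h.elem.1
      Group.isSolvable_of_comm fun a b => (IsMulCommutative.is_comm).comm a b))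
  set f : ↥(E : Subgroup G) → (Abelianization U →* Abelianization U) :=
    fun x => abAct (hNU _ (hEN x.2)) with hf
  obtain ⟨e, u0, he⟩ : ∃ e u, f e u ≠ u := by
    by_contra hall
    push Not at hall
    have hle : ⁅U, (E : Subgroup G)⁆ ≤ (_root_.commutator U).map U.subtype := by
      refine commutator_le.2 fun x hx e he => ?_
      have h1 := hall ⟨e, he⟩ (Abelianization.of (⟨x, hx⟩ : U))
      rw [hf] at h1
      simp only at h1
      rw [abAct_of] at h1
      refine ⟨⟨x, hx⟩ * (⟨e * x * e⁻¹, (mem_normalizer_iff.1 (hNU e (hEN he)) _).1 hx⟩ : U)⁻¹, ?_,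
        by simp [commutatorElement_def, mul_assoc]⟩
      rw [← Abelianization.ker_of, SetLike.mem_coe, MonoidHom.mem_ker, map_mul, map_inv, h1, mul_inv_cancel]
    rw [hUU] at hle
    refine (Group.IsSolvable.commutator_lt_top_of_nontrivial U).ne (eq_top_iff.2 fun x _ => ?_)
    obtain ⟨y, hy, hyx⟩ := hle x.2
    rwa [Subtype.ext hyx] at hy
  have hfinv : ∀ (x : ↥(E : Subgroup G)) v, f x (f x v) = v := fun x v => by
    rw [hf]; exact (abAct_abAct _ _ v).trans (abAct_one _ (h.exp x.2) v)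
  have hfcomm : ∀ (x y : ↥(E : Subgroup G)) v, f x (f y v) = f y (f x v) := fun x y v => by
    rw [hf]; simp only
    rw [abAct_abAct, abAct_abAct]
    exact abAct_congr _ _ (h.comm x.2 y.2) v
  obtain ⟨v, hv1, hve, hv⟩ := exists_weight f hfcomm hfinv he
  have hVp : ∀ w : Abelianization U, w ^ p = 1 := fun w => by
    obtain ⟨z, rfl⟩ : ∃ z, Abelianization.of z = w := QuotientGroup.mk_surjective w
    rw [← map_pow, show z ^ p = 1 from Subtype.ext (hUexp z z.2), map_one]
  have hodd : ∀ w : Abelianization U, w * w = 1 → w = 1 := fun w hw =>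
    orderOf_eq_one_iff.1 (Nat.dvd_one.1 (by
      have h1 : orderOf w ∣ 2 := orderOf_dvd_of_pow_eq_one ((pow_two w).trans hw)
      have h2 : orderOf w ∣ p := orderOf_dvd_of_pow_eq_one (hVp w)
      have h3 := Nat.dvd_gcd h1 h2
      rwa [Nat.Coprime.gcd_eq_one ((Nat.coprime_primes Nat.prime_two h.prime).2 (Ne.symm h.odd))] at h3))
  -- the stabiliser of the weight
  let Hm : G → Prop := fun x => ∃ hx : x ∈ (E : Subgroup G), f ⟨x, hx⟩ v = v
  have hmem : ∀ n ∈ N, ∀ x ∈ (E : Subgroup G), n * x * n⁻¹ ∈ (E : Subgroup G) := fun n hn x hx =>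
    (mem_normalizer_iff.1 hn _).1 hx
  let S : Subgroup G :=
    { carrier := {n | n ∈ N ∧ ∀ x ∈ (E : Subgroup G), Hm (n * x * n⁻¹) ↔ Hm x}
      one_mem' := ⟨one_mem N, fun x _ => by simp⟩
      mul_mem' := by
        rintro a b ⟨ha, ha'⟩ ⟨hb, hb'⟩
        refine ⟨mul_mem ha hb, fun x hx => ?_⟩
        rw [← hb' x hx, ← ha' _ (hmem b hb x hx), show a * b * x * (a * b)⁻¹ = a * (b * x * b⁻¹) * a⁻¹ by group]
      inv_mem' := by
        rintro a ⟨ha, ha'⟩
        refine ⟨inv_mem ha, fun x hx => ?_⟩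
        rw [← ha' _ (hmem _ (inv_mem ha) x hx), show a * (a⁻¹ * x * a⁻¹⁻¹) * a⁻¹ = x by group] }
  have heH : ¬ Hm (e : G) := fun ⟨_, h1⟩ => hv1 (hodd v (by
    have h2 : f e v = v := h1
    rw [hve] at h2
    exact mul_eq_one_iff_eq_inv.2 h2.symm))
  have he1 : (e : G) ≠ 1 := fun h1 => heH ⟨e.2, abAct_one _ h1 v⟩
  have := Fintype.ofFinite ↥(E : Subgroup G)
  obtain ⟨x, hx, hx1, hxH⟩ : ∃ x, x ∈ (E : Subgroup G) ∧ x ≠ 1 ∧ Hm x := by
    obtain ⟨y, hy1, hye⟩ : ∃ y : ↥(E : Subgroup G), y ≠ 1 ∧ y ≠ e := by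
      by_contra hcon
      push Not at hcon
      have h1 : (Finset.univ : Finset ↥(E : Subgroup G)) ⊆ {1, e} := fun z _ => by
        rw [Finset.mem_insert, Finset.mem_singleton]
        exact or_iff_not_imp_left.2 (hcon z)
      have h2 := (Finset.card_le_card h1).trans Finset.card_le_two
      rw [Finset.card_univ, ← Nat.card_eq_fintype_card] at h2
      have := h.eight
      omega
    rcases hv y with hy | hy
    · exact ⟨y, y.2, fun h1 => hy1 (Subtype.ext h1), y.2, hy⟩
    · refine ⟨(y : G) * e, mul_mem y.2 e.2, fun h1 => hye (Subtype.ext ?_), mul_mem y.2 e.2, ?_⟩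
      · have h2 := mul_eq_one_iff_eq_inv.1 h1
        rwa [inv_eq_of_mul_eq_one_right (h.exp e.2)] at h2
      · have h2 : f y (f e v) = v := by rw [hve, map_inv, hy, inv_inv]
        rw [hf] at h2 ⊢
        simp only at h2 ⊢
        rwa [abAct_abAct] at h2
  obtain ⟨n, hn, hne⟩ := h.transitive hx hx1 e.2 he1
  have hnS : n ∉ S := fun hS => heH (hne ▸ ((hS.2 x hx).2 hxH))
  -- an element of odd prime order outside `S`
  have hinvS : ∀ a ∈ N, orderOf a = 2 → a ∈ S := by
    intro a ha ha2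
    have haE : a ∈ (E : Subgroup G) := by
      have hP : IsPGroup 2 (zpowers a) := IsPGroup.of_card (n := 1) (by rw [Nat.card_zpowers, ha2, pow_one])
      have h1 : a ∈ zpowers a ⊓ normalizer ((E : Subgroup G) : Set G) := ⟨mem_zpowers a, ha⟩
      exact ((SetLike.ext_iff.1 (hP.inf_normalizer_sylow E) a).1 h1).2
    exact ⟨ha, fun y hy => by rw [(h.comm haE hy).eq, mul_inv_cancel_right]⟩
  obtain ⟨a, r, haN, haS, hr, hr2, har⟩ : ∃ a r, a ∈ N ∧ a ∉ S ∧ Nat.Prime r ∧ r ≠ 2 ∧ orderOf a = r := by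
    rcases h.hyp n (fun e1 => hnS (e1 ▸ S.one_mem)) with hp' | hp'
    · exact ⟨n, orderOf n, hn, hnS, hp', fun e2 => hnS (hinvS n hn e2), rfl⟩
    · refine ⟨n ^ 2, p, pow_mem hn 2, fun h2 => hnS ?_, h.prime, h.odd, ?_⟩
      · have h3 : n ^ p ∈ S := hinvS _ (pow_mem hn p) (by
          rw [orderOf_pow_of_dvd h.prime.ne_zero (hp' ▸ dvd_mul_left p 2), hp',
            Nat.mul_div_cancel _ h.prime.pos])
        obtain ⟨k, hk⟩ := h.prime.odd_of_ne_two h.odd
        have h4 : n = ((n ^ 2) ^ k)⁻¹ * n ^ p := by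
          rw [hk, ← pow_mul, pow_succ, inv_mul_cancel_left]
        exact h4 ▸ mul_mem (inv_mem (pow_mem h2 k)) h3
      · rw [orderOf_pow_of_dvd two_ne_zero (hp' ▸ dvd_mul_right 2 p), hp',
          Nat.mul_div_cancel_left _ two_pos]
  have hpow : ∀ i : ℕ, a ^ i ∈ N := fun i => pow_mem haN i
  set w : Fin r → Abelianization U := fun i => abAct (hNU _ (hpow i)) v with hw
  have hfw : ∀ (i : Fin r) (x : ↥(E : Subgroup G)),
      f x (w i) = abAct (hNU _ (hpow i))
        (f ⟨(a ^ (i : ℕ))⁻¹ * x * (a ^ (i : ℕ)), by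
          simpa using hmem _ (inv_mem (hpow i)) x x.2⟩ v) := by
    intro i x
    rw [hf, hw]
    simp only
    rw [abAct_abAct, abAct_abAct]
    exact abAct_congr _ _ (by group) v
  have hinj : ∀ (i : Fin r) z, abAct (hNU _ (hpow i)) z = 1 → z = 1 := by
    intro i z hz
    have h1 := congrArg (abAct (hNU _ (inv_mem (hpow i)))) hz
    rwa [map_one, abAct_abAct, abAct_one _ (inv_mul_cancel _)] at h1
  have hP : ∏ i, w i ≠ 1 := by
    refine prod_ne_one_of_weights hodd f w (fun i h1 => hv1 (hinj i v h1)) (fun i x => ?_)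
      (fun i j hij => ?_) Finset.univ ⟨⟨0, hr.pos⟩, Finset.mem_univ _⟩
    · rcases hv ⟨(a ^ (i : ℕ))⁻¹ * x * (a ^ (i : ℕ)), by simpa using hmem _ (inv_mem (hpow i)) x x.2⟩
        with e1 | e1
      · left; rw [hfw, e1]
      · right; rw [hfw, e1, map_inv]
    · by_contra hcon
      push Not at hcon
      have hiff : ∀ (i : Fin r) (x : G) (hx : x ∈ (E : Subgroup G)),
          f ⟨x, hx⟩ (w i) = w i ↔ Hm ((a ^ (i : ℕ))⁻¹ * x * a ^ (i : ℕ)) := by
        intro i x hx
        rw [hfw]
        constructor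
        · intro h1
          refine ⟨by simpa using hmem _ (inv_mem (hpow i)) x hx, ?_⟩
          have h2 : abAct (hNU _ (hpow i)) (f ⟨(a ^ (i : ℕ))⁻¹ * x * a ^ (i : ℕ),
              by simpa using hmem _ (inv_mem (hpow i)) x hx⟩ v * v⁻¹) = 1 := by
            rw [map_mul, h1, map_inv, mul_inv_cancel]
          exact mul_inv_eq_one.1 (hinj i _ h2)
        · rintro ⟨hy, h1⟩
          rw [h1]
      have hk : a ^ (i : ℕ) * (a ^ (j : ℕ))⁻¹ ∈ S := by
        refine ⟨mul_mem (hpow i) (inv_mem (hpow j)), fun y hy => ?_⟩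
        set c := a ^ (i : ℕ) with hc
        set d := a ^ (j : ℕ) with hd
        have hcd : Commute c d := (Commute.refl a).pow_pow _ _
        set z := c * y * c⁻¹ with hz
        have hzE : z ∈ (E : Subgroup G) := hmem c (hpow i) y hy
        have key : f ⟨z, hzE⟩ (w i) = w i ↔ f ⟨z, hzE⟩ (w j) = w j := by
          rcases hv ⟨(a ^ (i : ℕ))⁻¹ * z * a ^ (i : ℕ), by simpa using hmem _ (inv_mem (hpow i)) z hzE⟩
            with e1 | e1
          · have e2 : f ⟨z, hzE⟩ (w i) = w i := by rw [hfw, e1]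
            refine iff_of_true e2 ?_
            rcases hv ⟨(a ^ (j : ℕ))⁻¹ * z * a ^ (j : ℕ), by simpa using hmem _ (inv_mem (hpow j)) z hzE⟩
              with e3 | e3
            · rw [hfw, e3]
            · exact absurd (by rw [hfw, e3, map_inv]) ((hcon ⟨z, hzE⟩).1 e2)
          · have e2 : f ⟨z, hzE⟩ (w i) = (w i)⁻¹ := by rw [hfw, e1, map_inv]
            refine iff_of_false (fun e3 => ?_) ((hcon ⟨z, hzE⟩).2 e2)
            exact hv1 (hinj i v (hodd _ (mul_eq_one_iff_eq_inv.2 (e3.symm.trans e2))))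
        rw [hiff, hiff, ← hc, ← hd] at key
        have e1 : c⁻¹ * z * c = y := by rw [hz]; group
        have e2 : d⁻¹ * z * d = c * d⁻¹ * y * (c * d⁻¹)⁻¹ := by
          rw [hz, hcd.inv_right.eq]; group
        rw [e1, e2] at key
        exact key.symm
      refine haS ?_
      set g := a ^ (i : ℕ) * (a ^ (j : ℕ))⁻¹ with hg
      have hgz : g ∈ zpowers a :=
        mul_mem (pow_mem (mem_zpowers a) _) (inv_mem (pow_mem (mem_zpowers a) _))
      have hg1 : g ≠ 1 := fun h1 => hij (Fin.ext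
        (pow_injOn_Iio_orderOf (x := a) (by rw [Set.mem_Iio, har]; exact i.2)
          (by rw [Set.mem_Iio, har]; exact j.2) (mul_inv_eq_one.1 h1)))
      have hor : orderOf g = r := (hr.eq_one_or_self_of_dvd _
        (har ▸ orderOf_dvd_of_mem_zpowers hgz)).resolve_left (mt orderOf_eq_one_iff.1 hg1)
      have hz : zpowers g = zpowers a := eq_of_le_of_card_ge (zpowers_le.2 hgz)
        (by rw [Nat.card_zpowers, Nat.card_zpowers, hor, har])
      exact zpowers_le.2 hk (hz ▸ mem_zpowers a)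
  -- lift the norm
  obtain ⟨u, rfl⟩ : ∃ u, Abelianization.of u = v := QuotientGroup.mk_surjective v
  have hk : ∀ k : ℕ, ∃ z : U, (z : G) = ((u : G) * a) ^ k * (a ^ k)⁻¹ ∧
      Abelianization.of z =
        ∏ i ∈ Finset.range k, abAct (hNU _ (hpow i)) (Abelianization.of u) := by
    intro k
    induction k with
    | zero => exact ⟨1, by simp, by simp⟩
    | succ k ih =>
      obtain ⟨z, hz1, hz2⟩ := ih
      refine ⟨z * ⟨a ^ k * u * (a ^ k)⁻¹, (mem_normalizer_iff.1 (hNU _ (hpow k)) _).1 u.2⟩, ?_, ?_⟩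
      · rw [Subgroup.coe_mul, hz1, pow_succ, pow_succ]; group
      · rw [map_mul, hz2, Finset.prod_range_succ, abAct_of]
  obtain ⟨z, hz1, hz2⟩ := hk r
  have hz0 : z ≠ 1 := by
    rintro rfl
    rw [map_one, ← Fin.prod_univ_eq_prod_range (fun i => abAct (hNU _ (hpow i)) (Abelianization.of u))] at hz2
    exact hP hz2.symm
  have har' : a ^ r = 1 := har ▸ pow_orderOf_eq_one a
  rw [har', inv_one, mul_one] at hz1
  set g := (u : G) * a with hg
  have hgr : g ^ r ≠ 1 := hz1 ▸ fun h1 => hz0 (Subtype.ext h1)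
  have hgrp : g ^ (r * p) = 1 := by rw [pow_mul, ← hz1]; exact hUexp _ z.2
  obtain ⟨d1, d2, hd1, hd2, hd⟩ := exists_dvd_and_dvd_of_dvd_mul (orderOf_dvd_of_pow_eq_one hgrp)
  have hord : orderOf g = r * p := by
    rcases (Nat.dvd_prime hr).1 hd1 with e1 | e1 <;>
      rcases (Nat.dvd_prime h.prime).1 hd2 with e2 | e2 <;> rw [e1, e2] at hd
    · rw [one_mul, orderOf_eq_one_iff] at hd
      exact absurd (by rw [hd, one_pow]) hgr
    · -- `g` has order `p`, so lies in `U`
      rw [one_mul] at hd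
      have hne' : r ≠ p := fun e3 => hgr (by rw [e3, ← hd, pow_orderOf_eq_one])
      have hgU : g ∈ U := by
        have hco : r.Coprime (orderOf g) := by
          rw [hd]; exact (Nat.coprime_primes hr h.prime).2 hne'
        obtain ⟨m, hm⟩ := exists_pow_eq_self_of_coprime hco
        exact hm ▸ pow_mem (hz1 ▸ z.2) m
      have haU : a ∈ U := by
        have h1 := mul_mem (inv_mem u.2) hgU
        rwa [hg, inv_mul_cancel_left] at h1
      exact absurd ((Nat.prime_dvd_prime_iff_eq hr h.prime).1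
        (har ▸ orderOf_dvd_of_pow_eq_one (hUexp a haU))) hne'
    · rw [mul_one] at hd
      exact absurd (hd ▸ pow_orderOf_eq_one g) hgr
    · exact hd
  have h2p := h.hyp.order_eq hord (hr.one_lt.trans_le (Nat.le_mul_of_pos_right r h.prime.pos))
    (Nat.not_prime_mul hr.ne_one h.prime.ne_one)
  exact hr2 (Nat.eq_of_mul_eq_mul_right h.prime.pos h2p)

theorem Big.sup_eq (h : Big p E) :
    core E ⊔ normalizer ((E : Subgroup G) : Set G) = normalizer ((E : Subgroup G) : Set G) :=
  sup_eq_right.2 (h.core_le_centralizer.trans (centralizer_le_normalizer _))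

/-- `N(E)` is strongly embedded. -/
theorem Big.stronglyEmbedded (h : Big p E) :
    Cfsg.IsStronglyEmbedded (normalizer ((E : Subgroup G) : Set G)) :=
  h.sup_eq ▸ h.isStronglyEmbedded

end CfsgLib.OneComposite
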