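import Cfsg.Agent.Lib.OneComposite.Regular
import Cfsg.Agent.Lib.OneComposite.Weights

/-!
Orders prime or `2p`, Sylow `2`-subgroup `E` of order `4`: fusion, weights and complements.
-/

set_option autoImplicit false
set_option linter.unusedSectionVars false

open Subgroup CfsgLib.Involutions
open scoped commutatorElement

namespace CfsgLib.OneComposite

universe u

/-- A four-group as Sylow `2`-subgroup. -/
structure Four {G : Type u} [Group G] (p : ℕ) (E : Sylow 2 G) : Prop extends Base p E where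
  four : Nat.card (E : Subgroup G) = 4

variable {G : Type u} [Group G] [Finite G] {p : ℕ} {E : Sylow 2 G}

theorem Base.le_centralizer (h : Base p E) :
    (E : Subgroup G) ≤ centralizer ((E : Subgroup G) : Set G) :=
  fun _ hx => mem_centralizer_iff.2 fun _ hy => (h.comm hy hx).eq

/-- An element moving `E` has a power of odd prime order moving `E`. -/
theorem Base.exists_prime (h : Base p E) {n : G} (hn : n ∈ normalizer ((E : Subgroup G) : Set G))
    (hnc : n ∉ centralizer ((E : Subgroup G) : Set G)) :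
    ∃ a ∈ zpowers n, a ∉ centralizer ((E : Subgroup G) : Set G) ∧ (orderOf a).Prime ∧
      orderOf a ≠ 2 := by
  have hinv : ∀ x ∈ normalizer ((E : Subgroup G) : Set G), orderOf x = 2 →
      x ∈ centralizer ((E : Subgroup G) : Set G) := fun x hx h2 =>
    h.le_centralizer (mem_E_of_normalizes hx (mul_self_eq_one h2))
  rcases h.hyp n (fun e => hnc (e ▸ one_mem _)) with hp | hp
  · exact ⟨n, mem_zpowers n, hnc, hp, fun e => hnc (hinv n hn e)⟩
  · refine ⟨n ^ 2, pow_mem (mem_zpowers n) 2, fun h2 => hnc ?_, ?_⟩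
    · have h3 := hinv _ (pow_mem hn p) (by
        rw [orderOf_pow_of_dvd h.prime.ne_zero (hp ▸ dvd_mul_left p 2), hp,
          Nat.mul_div_cancel _ h.prime.pos])
      obtain ⟨k, hk⟩ := h.prime.odd_of_ne_two h.odd
      have h4 : n = ((n ^ 2) ^ k)⁻¹ * n ^ p := by
        rw [hk, ← pow_mul, pow_succ, inv_mul_cancel_left]
      exact h4 ▸ mul_mem (inv_mem (pow_mem h2 k)) h3
    · rw [orderOf_pow_of_dvd two_ne_zero (hp ▸ dvd_mul_right 2 p), hp,
        Nat.mul_div_cancel_left _ two_pos]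
      exact ⟨h.prime, h.odd⟩

/-- A subgroup over `E` without fusion in `E` has a normal `p`-subgroup complementing `E`. -/
theorem Base.exists_O (h : Base p E) {H : Subgroup G} (hEH : (E : Subgroup G) ≤ H)
    (hfus : ∀ n ∈ H, n ∈ normalizer ((E : Subgroup G) : Set G) →
      n ∈ centralizer ((E : Subgroup G) : Set G)) :
    ∃ O : Subgroup G, O ≤ H ∧ IsPGroup p O ∧ (∀ x ∈ H, x ^ p = 1 → x ∈ O) ∧
      (∀ x ∈ H, ∀ o ∈ O, x * o * x⁻¹ ∈ O) ∧
      ∀ x ∈ H, ∃ o ∈ O, ∃ e ∈ (E : Subgroup G), x = o * e := by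
  have : Fact (Nat.Prime 2) := ⟨Nat.prime_two⟩
  set E' : Sylow 2 H := E.subtype hEH with hE'
  have hP : normalizer ((E' : Subgroup H) : Set H) ≤ centralizer ((E' : Subgroup H) : Set H) := by
    intro n hn
    have hnE : (n : G) ∈ normalizer ((E : Subgroup G) : Set G) := mem_normalizer_iff.2 fun x => by
      constructor
      · intro hx
        exact (mem_normalizer_iff.1 hn ⟨x, hEH hx⟩).1 hx
      · intro hx
        have hxH : x ∈ H := by
          have := mul_mem (mul_mem (inv_mem n.2) (hEH hx)) n.2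
          simpa [mul_assoc] using this
        exact (mem_normalizer_iff.1 hn ⟨x, hxH⟩).2 hx
    exact mem_centralizer_iff.2 fun y hy =>
      Subtype.ext (mem_centralizer_iff.1 (hfus n n.2 hnE) (y : G) hy)
  obtain ⟨K, hKn, hKodd, hKc⟩ : ∃ K : Subgroup H, K.Normal ∧ ¬ 2 ∣ Nat.card K ∧
      IsComplement' K (E' : Subgroup H) :=
    ⟨_, MonoidHom.normal_ker (MonoidHom.transferSylow E' hP),
      MonoidHom.not_dvd_card_ker_transferSylow E' hP,
      MonoidHom.ker_transferSylow_isComplement' E' hP⟩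
  set O := K.map H.subtype with hO
  have hOH : O ≤ H := map_subtype_le _
  have hconj : ∀ x ∈ H, ∀ o ∈ O, x * o * x⁻¹ ∈ O := by
    rintro x hx _ ⟨o, ho, rfl⟩
    exact ⟨⟨x, hx⟩ * o * ⟨x, hx⟩⁻¹, hKn.conj_mem o ho _, rfl⟩
  have hodd : ¬ 2 ∣ Nat.card O := by
    rw [hO, card_subtype]
    exact hKodd
  have hdec : ∀ x ∈ H, ∃ o ∈ O, ∃ e ∈ (E : Subgroup G), x = o * e := by
    intro x hx
    obtain ⟨⟨⟨o, ho⟩, ⟨e, he⟩⟩, hoe, -⟩ :=
      hKc.existsUnique ⟨x, hx⟩
    exact ⟨o, ⟨o, ho, rfl⟩, e, he, (congrArg Subtype.val hoe).symm⟩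
  refine ⟨O, hOH, h.isPGroup_of_invariant (le_normalizer_iff.2 fun e he o ho =>
    hconj e (hEH he) o ho) hodd, fun x hx hxp => ?_, hconj, hdec⟩
  obtain ⟨o, ho, e, he, rfl⟩ := hdec x hx
  obtain ⟨k, hk⟩ := h.prime.odd_of_ne_two h.odd
  have key : ∀ m : ℕ, ∃ o' ∈ O, (o * e) ^ m = o' * e ^ m := by
    intro m
    induction m with
    | zero => exact ⟨1, one_mem _, by simp⟩
    | succ m ih =>
      obtain ⟨o', ho', hm⟩ := ih
      refine ⟨o' * (e ^ m * o * (e ^ m)⁻¹), mul_mem ho' (hconj _ (hEH (pow_mem he m)) o ho), ?_⟩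
      rw [pow_succ, hm, pow_succ]; group
  obtain ⟨o', ho', hp'⟩ := key p
  rw [hxp, hk, pow_succ, pow_mul, pow_two, h.exp he, one_pow, one_mul] at hp'
  have he' : e ∈ O := by
    rw [eq_inv_of_mul_eq_one_right hp'.symm]
    exact inv_mem ho'
  exact mul_mem ho he'

theorem Four.cases (h : Four p E) {x x' : G} (hx : x ∈ (E : Subgroup G)) (hx' : x' ∈ (E : Subgroup G))
    (h1 : x ≠ 1) (h1' : x' ≠ 1) (hne : x ≠ x') {y : G} (hy : y ∈ (E : Subgroup G)) :
    y = 1 ∨ y = x ∨ y = x' ∨ y = x * x' := by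
  classical
  by_contra hcon
  push Not at hcon
  obtain ⟨hy1, hyx, hyx', hyxx⟩ := hcon
  have hm : x * x' ≠ 1 := fun e => hne
    ((eq_inv_of_mul_eq_one_left e).trans (inv_eq_of_mul_eq_one_right (h.exp hx')))
  have hmx : x * x' ≠ x := fun e => h1' (mul_eq_left.1 e)
  have hmx' : x * x' ≠ x' := fun e => h1 (mul_eq_right.1 e)
  have hs : ({1, x, x', x * x', y} : Finset G).card = 5 := by
    rw [Finset.card_insert_of_notMem, Finset.card_insert_of_notMem, Finset.card_insert_of_notMem,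
      Finset.card_insert_of_notMem, Finset.card_singleton] <;> simp [Ne.symm h1, Ne.symm h1', hne,
      Ne.symm hm, Ne.symm hy1, Ne.symm hyx, Ne.symm hyx', Ne.symm hyxx, Ne.symm hmx, Ne.symm hmx']
  have hle : ↑({1, x, x', x * x', y} : Finset G) ⊆ ((E : Subgroup G) : Set G) := by
    intro z hz
    simp only [Finset.coe_insert, Finset.coe_singleton, Set.mem_insert_iff, Set.mem_singleton_iff] at hz
    rcases hz with rfl | rfl | rfl | rfl | rfl
    · exact one_mem _
    · exact hx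
    · exact hx'
    · exact mul_mem hx hx'
    · exact hy
  have := Set.ncard_le_ncard hle (Set.toFinite _)
  rw [Set.ncard_coe_finset, hs, ← Nat.card_coe_set_eq] at this
  have h9 : Nat.card ((E : Subgroup G) : Set G) = Nat.card (E : Subgroup G) := rfl
  have := h.four
  omega

theorem Four.exists_other (h : Four p E) {x : G} :
    ∃ y ∈ (E : Subgroup G), y ≠ 1 ∧ y ≠ x := by
  by_contra hcon
  push Not at hcon
  have hsub : ((E : Subgroup G) : Set G) ⊆ {1, x} := fun z hz => by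
    rcases eq_or_ne z 1 with e | e
    · exact Or.inl e
    · exact Or.inr (hcon z hz e)
  have := (Set.ncard_le_ncard hsub (Set.toFinite _)).trans (Set.ncard_insert_le _ _)
  rw [Set.ncard_singleton, ← Nat.card_coe_set_eq] at this
  have h9 : Nat.card ((E : Subgroup G) : Set G) = Nat.card (E : Subgroup G) := rfl
  have := h.four
  omega

/-- An element moving `E` has a power of order `3` moving `E`. -/
theorem Four.exists_three (h : Four p E) {n : G} (hn : n ∈ normalizer ((E : Subgroup G) : Set G))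
    (hnc : n ∉ centralizer ((E : Subgroup G) : Set G)) :
    ∃ a ∈ zpowers n, a ∈ normalizer ((E : Subgroup G) : Set G) ∧
      a ∉ centralizer ((E : Subgroup G) : Set G) ∧ orderOf a = 3 := by
  classical
  obtain ⟨a, haz, hac, hp, hp2⟩ := h.exists_prime hn hnc
  have haN : a ∈ normalizer ((E : Subgroup G) : Set G) := zpowers_le.2 hn haz
  refine ⟨a, haz, haN, hac, ?_⟩
  obtain ⟨e, he, hea⟩ : ∃ e ∈ (E : Subgroup G), e * a ≠ a * e := by
    by_contra hcon
    push Not at hcon
    exact hac (mem_centralizer_iff.2 hcon)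
  have he1 : e ≠ 1 := fun e1 => hea (by rw [e1, one_mul, mul_one])
  let f : Fin (orderOf a) → {x : ↥(E : Subgroup G) // x ≠ 1} := fun i =>
    ⟨⟨a ^ (i : ℕ) * e * (a ^ (i : ℕ))⁻¹, (mem_normalizer_iff.1 (pow_mem haN _) e).1 he⟩,
      fun e' => he1 (conj_eq_one_iff.1 (congrArg Subtype.val e'))⟩
  have hf : Function.Injective f := by
    intro i j hij
    have h1 : a ^ (i : ℕ) * e * (a ^ (i : ℕ))⁻¹ = a ^ (j : ℕ) * e * (a ^ (j : ℕ))⁻¹ :=
      congrArg (fun z : {x : ↥(E : Subgroup G) // x ≠ 1} => ((z.1 : G))) hij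
    by_contra hne
    set g := (a ^ (j : ℕ))⁻¹ * a ^ (i : ℕ) with hg
    have hge : g ∈ centralizer ({e} : Set G) := mem_centralizer_singleton_iff.2 (by
      calc g * e = (a ^ (j : ℕ))⁻¹ * (a ^ (i : ℕ) * e * (a ^ (i : ℕ))⁻¹) * a ^ (i : ℕ) := by
            rw [hg]; group
        _ = (a ^ (j : ℕ))⁻¹ * (a ^ (j : ℕ) * e * (a ^ (j : ℕ))⁻¹) * a ^ (i : ℕ) := by rw [h1]
        _ = e * g := by rw [hg]; group)
    have hgz : g ∈ zpowers a :=
      mul_mem (inv_mem (pow_mem (mem_zpowers a) _)) (pow_mem (mem_zpowers a) _)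
    have hg1 : g ≠ 1 := fun e' => hne (Fin.ext (pow_injOn_Iio_orderOf (x := a)
      (by rw [Set.mem_Iio]; exact i.2) (by rw [Set.mem_Iio]; exact j.2) (inv_mul_eq_one.1 e').symm))
    have hor : orderOf g = orderOf a := (hp.eq_one_or_self_of_dvd _
      (orderOf_dvd_of_mem_zpowers hgz)).resolve_left (mt orderOf_eq_one_iff.1 hg1)
    have hz : zpowers g = zpowers a := eq_of_le_of_card_ge (zpowers_le.2 hgz)
      (by rw [Nat.card_zpowers, Nat.card_zpowers, hor])
    exact hea (mem_centralizer_singleton_iff.1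
      ((zpowers_le.2 hge) (hz ▸ mem_zpowers a))).symm
  have := Nat.card_le_card_of_injective f hf
  rw [Nat.card_fin] at this
  have h3 : Nat.card {x : ↥(E : Subgroup G) // x ≠ 1} = 3 := by
    have := Fintype.ofFinite ↥(E : Subgroup G)
    rw [Nat.card_eq_fintype_card, Fintype.card_subtype_compl, Fintype.card_subtype_eq,
      ← Nat.card_eq_fintype_card, h.four]
  rw [h3] at this
  obtain ⟨k, hk⟩ := hp.odd_of_ne_two hp2
  have := hp.two_le
  omega

theorem Four.no_fix (h : Four p E) {a e : G} (haN : a ∈ normalizer ((E : Subgroup G) : Set G))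
    (hac : a ∉ centralizer ((E : Subgroup G) : Set G)) (ha : orderOf a = 3)
    (he : e ∈ (E : Subgroup G)) (hfix : a * e * a⁻¹ = e) : e = 1 := by
  by_contra he1
  obtain ⟨x, hx, hx1, hxe⟩ := h.exists_other (x := e)
  have hax : a * x * a⁻¹ = x := by
    rcases h.cases he hx he1 hx1 hxe.symm ((mem_normalizer_iff.1 haN x).1 hx) with e' | e' | e' | e'
    · exact absurd (conj_eq_one_iff.1 e') hx1
    · refine absurd ?_ hxe
      calc x = a⁻¹ * (a * x * a⁻¹) * a := by group
        _ = a⁻¹ * (a * e * a⁻¹) * a := by rw [e', hfix]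
        _ = e := by group
    · exact e'
    · have h2 : a * (a * x * a⁻¹) * a⁻¹ = x := by
        calc a * (a * x * a⁻¹) * a⁻¹ = a * (e * x) * a⁻¹ := by rw [e']
          _ = (a * e * a⁻¹) * (a * x * a⁻¹) := by group
          _ = x := by rw [hfix, e', ← mul_assoc, h.exp he, one_mul]
      have h3 : a ^ 3 = 1 := ha ▸ pow_orderOf_eq_one a
      calc a * x * a⁻¹ = a * (a * (a * x * a⁻¹) * a⁻¹) * a⁻¹ := by rw [h2]
        _ = a ^ 3 * x * (a ^ 3)⁻¹ := by simp only [pow_succ, pow_zero, one_mul]; group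
        _ = x := by rw [h3]; group
  refine hac (mem_centralizer_iff.2 fun y hy => ?_)
  have hy' : a * y * a⁻¹ = y := by
    rcases h.cases he hx he1 hx1 hxe.symm hy with rfl | rfl | rfl | rfl
    · group
    · exact hfix
    · exact hax
    · rw [← conj_mul, hfix, hax]
  exact (mul_inv_eq_iff_eq_mul.1 hy').symm

/-- In `N(E)`, the centraliser of an involution of `E` is `C(E)`. -/
theorem Four.centralizer_inf (h : Four p E) {n t : G}
    (hn : n ∈ normalizer ((E : Subgroup G) : Set G)) (ht : t ∈ (E : Subgroup G)) (ht1 : t ≠ 1)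
    (hc : Commute n t) : n ∈ centralizer ((E : Subgroup G) : Set G) := by
  by_contra hnc
  obtain ⟨a, haz, haN, hac, ha⟩ := h.exists_three hn hnc
  have hat : a ∈ centralizer ({t} : Set G) :=
    zpowers_le.2 (mem_centralizer_singleton_iff.2 hc.eq) haz
  exact ht1 (h.no_fix haN hac ha ht
    (mul_inv_eq_iff_eq_mul.2 (mem_centralizer_singleton_iff.1 hat)))

/-- A `p`-subgroup normalised by `E` and by an element moving `E` is centralised by `E`. -/
theorem Four.weights (h : Four p E) {n : G} (hn : n ∈ normalizer ((E : Subgroup G) : Set G))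
    (hnc : n ∉ centralizer ((E : Subgroup G) : Set G)) {P : Subgroup G} (hP : IsPGroup p P)
    (hEP : (E : Subgroup G) ≤ normalizer (P : Set G)) (hnP : n ∈ normalizer (P : Set G)) :
    P ≤ centralizer ((E : Subgroup G) : Set G) := by
  classical
  have : Fact (Nat.Prime 2) := ⟨Nat.prime_two⟩
  have := Fact.mk h.prime
  obtain ⟨a, haz, haN, hac, ha⟩ := h.exists_three hn hnc
  have haP : a ∈ normalizer (P : Set G) := zpowers_le.2 hnP haz
  rw [← commutator_eq_bot_iff_le_centralizer]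
  by_contra hU0
  set U := ⁅P, (E : Subgroup G)⁆ with hU
  have hUP : U ≤ P := Coprime.commutator_le_of_normalizes hEP
  have hUn : ∀ g, g ∈ normalizer ((E : Subgroup G) : Set G) ⊓ normalizer (P : Set G) →
      g ∈ normalizer (U : Set G) := by
    refine fun g hg => (le_normalizer_iff.2 ?_ : normalizer ((E : Subgroup G) : Set G) ⊓
      normalizer (P : Set G) ≤ normalizer (U : Set G)) hg
    intro m hm x hx
    have h1 : U.map (MulAut.conj m).toMonoidHom ≤ U := by
      rw [hU, map_commutator]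
      refine commutator_mono ?_ ?_
      · rintro _ ⟨w, hw, rfl⟩; exact (mem_normalizer_iff.1 hm.2 _).1 hw
      · rintro _ ⟨e, he, rfl⟩; exact (mem_normalizer_iff.1 hm.1 _).1 he
    exact h1 ⟨x, hx, rfl⟩
  have hcop : (Nat.card (E : Subgroup G)).Coprime (Nat.card P) := by
    obtain ⟨i, hi⟩ := E.isPGroup'.exists_card_eq
    obtain ⟨j, hj⟩ := hP.exists_card_eq
    rw [hi, hj]
    exact Nat.Coprime.pow _ _ ((Nat.coprime_primes Nat.prime_two h.prime).2 (Ne.symm h.odd))
  have hUp : IsPGroup p U := hP.to_le hUP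
  have hUexp : ∀ x ∈ U, x ^ p = 1 := fun x hx => h.hyp.pow_eq_one h.prime h.odd hUp hx
  have hnt : Nontrivial U := (nontrivial_iff_ne_bot _).2 hU0
  have : Group.IsNilpotent U := hUp.isNilpotent
  have hUU : ⁅U, (E : Subgroup G)⁆ = U := Coprime.commutator_commutator_eq _ _ hEP hcop
    (Or.inl (have := h.elem.1
      Group.isSolvable_of_comm fun a b => (IsMulCommutative.is_comm).comm a b))
  have hEU : ∀ x ∈ (E : Subgroup G), x ∈ normalizer (U : Set G) := fun x hx =>
    hUn x ⟨le_normalizer hx, hEP hx⟩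
  have haU : ∀ i : ℕ, a ^ i ∈ normalizer (U : Set G) := fun i =>
    hUn _ ⟨pow_mem haN i, pow_mem haP i⟩
  have hmem : ∀ (i : ℕ), ∀ x ∈ (E : Subgroup G), (a ^ i)⁻¹ * x * a ^ i ∈ (E : Subgroup G) :=
    fun i x hx => (mem_normalizer_iff''.1 (pow_mem haN i) x).1 hx
  set f : ↥(E : Subgroup G) → (Abelianization U →* Abelianization U) :=
    fun x => abAct (hEU _ x.2) with hf
  obtain ⟨e, u0, he⟩ : ∃ e u, f e u ≠ u := by
    by_contra hall
    push Not at hall
    have hle : ⁅U, (E : Subgroup G)⁆ ≤ (_root_.commutator U).map U.subtype := by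
      refine commutator_le.2 fun x hx e he => ?_
      have h1 := hall ⟨e, he⟩ (Abelianization.of (⟨x, hx⟩ : U))
      rw [hf] at h1
      simp only at h1
      rw [abAct_of] at h1
      refine ⟨⟨x, hx⟩ * (⟨e * x * e⁻¹, (mem_normalizer_iff.1 (hEU _ he) _).1 hx⟩ : U)⁻¹, ?_,
        by simp [commutatorElement_def, mul_assoc]⟩
      rw [← Abelianization.ker_of, SetLike.mem_coe, MonoidHom.mem_ker, map_mul, map_inv, h1, mul_inv_cancel]
    rw [hUU] at hle
    refine (Group.IsSolvable.commutator_lt_top_of_nontrivial U).ne (eq_top_iff.2 fun x _ => ?_)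
    obtain ⟨y, hy, hyx⟩ := hle x.2
    rwa [Subtype.ext hyx] at hy
  have hfinv : ∀ (x : ↥(E : Subgroup G)) v, f x (f x v) = v := fun x v => by
    rw [hf]; exact (abAct_abAct _ _ v).trans (abAct_one _ (h.exp x.2) v)
  have hfcomm : ∀ (x y : ↥(E : Subgroup G)) v, f x (f y v) = f y (f x v) := fun x y v => by
    rw [hf]; simp only
    rw [abAct_abAct, abAct_abAct]
    exact abAct_congr _ _ (h.comm x.2 y.2) v
  obtain ⟨v, hv1, hve, hv⟩ := exists_weight f hfcomm hfinv he
  have hodd : ∀ w : Abelianization U, w * w = 1 → w = 1 := fun w hw => by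
    obtain ⟨z, rfl⟩ : ∃ z, Abelianization.of z = w := QuotientGroup.mk_surjective w
    obtain ⟨k, hk⟩ := h.prime.odd_of_ne_two h.odd
    have h1 : Abelianization.of z ^ p = 1 := by
      rw [← map_pow, show z ^ p = 1 from Subtype.ext (hUexp z z.2), map_one]
    rwa [hk, pow_succ, pow_mul, pow_two, hw, one_pow, one_mul] at h1
  have hne_e : f e v ≠ v := fun e1 => hv1 (hodd v (by
    rw [hve] at e1; exact mul_eq_one_iff_eq_inv.2 e1.symm))
  -- the kernel of the weight is `{1, x}`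
  have hfmul : ∀ (y z : G) (hy : y ∈ (E : Subgroup G)) (hz : z ∈ (E : Subgroup G)),
      f ⟨y * z, mul_mem hy hz⟩ v = f ⟨y, hy⟩ (f ⟨z, hz⟩ v) := fun y z hy hz => by
    rw [hf]; exact (abAct_abAct _ _ v).symm
  have he1 : (e : G) ≠ 1 := fun h1 => hne_e (abAct_one _ h1 v)
  obtain ⟨x, hx, hx1, hxv⟩ : ∃ x, ∃ hx : x ∈ (E : Subgroup G), x ≠ 1 ∧ f ⟨x, hx⟩ v = v := by
    obtain ⟨y, hy, hy1, hye⟩ := h.exists_other (x := (e : G))
    rcases hv ⟨y, hy⟩ with h1 | h1
    · exact ⟨y, hy, hy1, h1⟩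
    · refine ⟨y * e, mul_mem hy e.2, fun h2 => hye ?_, ?_⟩
      · exact (eq_inv_of_mul_eq_one_left h2).trans (inv_eq_of_mul_eq_one_right (h.exp e.2))
      · rw [hfmul y e hy e.2, hve, map_inv, h1, inv_inv]
  have huniq : ∀ (y : G) (hy : y ∈ (E : Subgroup G)), f ⟨y, hy⟩ v = v → y = 1 ∨ y = x := by
    intro y hy h1
    by_contra hcon
    push Not at hcon
    refine hne_e ?_
    rcases h.cases hx hy hx1 hcon.1 (Ne.symm hcon.2) e.2 with e' | e' | e' | e'
    · exact absurd e' he1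
    · exact (congrArg (fun z => f z v) (Subtype.ext e' : e = ⟨x, hx⟩)).trans hxv
    · exact (congrArg (fun z => f z v) (Subtype.ext e' : e = ⟨y, hy⟩)).trans h1
    · refine (congrArg (fun z => f z v) (Subtype.ext e' : e = ⟨x * y, mul_mem hx hy⟩)).trans ?_
      rw [hfmul x y hx hy, h1, hxv]
  set w : Fin 3 → Abelianization U := fun i => abAct (haU i) v with hw
  have hfw : ∀ (i : Fin 3) (y : ↥(E : Subgroup G)),
      f y (w i) = abAct (haU i) (f ⟨(a ^ (i : ℕ))⁻¹ * y * a ^ (i : ℕ), hmem i y y.2⟩ v) := by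
    intro i y
    rw [hf, hw]
    simp only
    rw [abAct_abAct, abAct_abAct]
    exact abAct_congr _ _ (by group) v
  have hinj : ∀ (i : ℕ) z, abAct (haU i) z = 1 → z = 1 := by
    intro i z hz
    have h1 := congrArg (abAct (inv_mem (haU i))) hz
    rwa [map_one, abAct_abAct, abAct_one _ (inv_mul_cancel _)] at h1
  have hP' : ∏ i, w i ≠ 1 := by
    refine prod_ne_one_of_weights hodd f w (fun i h1 => hv1 (hinj i v h1)) (fun i y => ?_)
      (fun i j hij => ?_) Finset.univ ⟨0, Finset.mem_univ _⟩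
    · rcases hv ⟨(a ^ (i : ℕ))⁻¹ * y * a ^ (i : ℕ), hmem i y y.2⟩ with e1 | e1
      · left; rw [hfw, e1]
      · right; rw [hfw, e1, map_inv]
    · set z := a ^ (i : ℕ) * x * (a ^ (i : ℕ))⁻¹ with hz
      have hzE : z ∈ (E : Subgroup G) := (mem_normalizer_iff.1 (pow_mem haN _) x).1 hx
      have hzi : f ⟨z, hzE⟩ (w i) = w i := by
        rw [hfw]
        have : (⟨(a ^ (i : ℕ))⁻¹ * z * a ^ (i : ℕ), hmem i z hzE⟩ : ↥(E : Subgroup G)) = ⟨x, hx⟩ :=
          Subtype.ext (show (a ^ (i : ℕ))⁻¹ * z * a ^ (i : ℕ) = x by rw [hz]; group)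
        rw [this, hxv]
      refine ⟨⟨z, hzE⟩, Or.inl ⟨hzi, ?_⟩⟩
      rcases hv ⟨(a ^ (j : ℕ))⁻¹ * z * a ^ (j : ℕ), hmem j z hzE⟩ with e1 | e1
      · exfalso
        rcases huniq _ _ e1 with e2 | e2
        · refine hx1 ?_
          calc x = (a ^ (i : ℕ))⁻¹ * (a ^ (j : ℕ) * ((a ^ (j : ℕ))⁻¹ * z * a ^ (j : ℕ)) *
                (a ^ (j : ℕ))⁻¹) * a ^ (i : ℕ) := by rw [hz]; group
            _ = 1 := by rw [e2]; group
        · set g := (a ^ (j : ℕ))⁻¹ * a ^ (i : ℕ) with hg
          have hgx : g * x * g⁻¹ = x := by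
            calc g * x * g⁻¹ = (a ^ (j : ℕ))⁻¹ * z * a ^ (j : ℕ) := by rw [hg, hz]; group
              _ = x := e2
          have hgz : g ∈ zpowers a :=
            mul_mem (inv_mem (pow_mem (mem_zpowers a) _)) (pow_mem (mem_zpowers a) _)
          have hg1 : g ≠ 1 := fun e' => hij (Fin.ext (pow_injOn_Iio_orderOf (x := a)
            (by rw [Set.mem_Iio, ha]; exact i.2) (by rw [Set.mem_Iio, ha]; exact j.2)
            (inv_mul_eq_one.1 e').symm))
          have hgo : orderOf g = 3 := (Nat.prime_three.eq_one_or_self_of_dvd _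
            (ha ▸ orderOf_dvd_of_mem_zpowers hgz)).resolve_left (mt orderOf_eq_one_iff.1 hg1)
          have hgz' : zpowers g = zpowers a := eq_of_le_of_card_ge (zpowers_le.2 hgz)
            (by rw [Nat.card_zpowers, Nat.card_zpowers, hgo, ha])
          refine hx1 (h.no_fix (zpowers_le.2 haN hgz) (fun hgc => hac ?_) hgo hx hgx)
          exact zpowers_le.2 hgc (hgz' ▸ mem_zpowers a)
      · rw [hfw, e1, map_inv]
  -- lift the norm
  obtain ⟨u, rfl⟩ : ∃ u, Abelianization.of u = v := QuotientGroup.mk_surjective v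
  have hk : ∀ k : ℕ, ∃ z : U, (z : G) = ((u : G) * a) ^ k * (a ^ k)⁻¹ ∧
      Abelianization.of z = ∏ i ∈ Finset.range k, abAct (haU i) (Abelianization.of u) := by
    intro k
    induction k with
    | zero => exact ⟨1, by simp, by simp⟩
    | succ k ih =>
      obtain ⟨z, hz1, hz2⟩ := ih
      refine ⟨z * ⟨a ^ k * u * (a ^ k)⁻¹, (mem_normalizer_iff.1 (haU k) _).1 u.2⟩, ?_, ?_⟩
      · rw [Subgroup.coe_mul, hz1, pow_succ, pow_succ]; group
      · rw [map_mul, hz2, Finset.prod_range_succ, abAct_of]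
  obtain ⟨z, hz1, hz2⟩ := hk 3
  have hz0 : z ≠ 1 := by
    rintro rfl
    rw [map_one, ← Fin.prod_univ_eq_prod_range (fun i => abAct (haU i) (Abelianization.of u))] at hz2
    exact hP' hz2.symm
  have har' : a ^ 3 = 1 := ha ▸ pow_orderOf_eq_one a
  rw [har', inv_one, mul_one] at hz1
  set g := (u : G) * a with hg
  have hgr : g ^ 3 ≠ 1 := hz1 ▸ fun h1 => hz0 (Subtype.ext h1)
  have hgrp : g ^ (3 * p) = 1 := by rw [pow_mul, ← hz1]; exact hUexp _ z.2
  obtain ⟨d1, d2, hd1, hd2, hd⟩ := exists_dvd_and_dvd_of_dvd_mul (orderOf_dvd_of_pow_eq_one hgrp)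
  have hord : orderOf g = 3 * p := by
    rcases (Nat.dvd_prime Nat.prime_three).1 hd1 with e1 | e1 <;>
      rcases (Nat.dvd_prime h.prime).1 hd2 with e2 | e2 <;> rw [e1, e2] at hd
    · rw [one_mul, orderOf_eq_one_iff] at hd
      exact absurd (by rw [hd, one_pow]) hgr
    · rw [one_mul] at hd
      have hne' : 3 ≠ p := fun e3 => hgr (by rw [e3, ← hd, pow_orderOf_eq_one])
      have hgU : g ∈ U := by
        have hco : Nat.Coprime 3 (orderOf g) := by
          rw [hd]; exact (Nat.coprime_primes Nat.prime_three h.prime).2 hne'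
        obtain ⟨m, hm⟩ := exists_pow_eq_self_of_coprime hco
        exact hm ▸ pow_mem (hz1 ▸ z.2) m
      have haU' : a ∈ U := by
        have h1 := mul_mem (inv_mem u.2) hgU
        rwa [hg, inv_mul_cancel_left] at h1
      exact absurd ((Nat.prime_dvd_prime_iff_eq Nat.prime_three h.prime).1
        (ha ▸ orderOf_dvd_of_pow_eq_one (hUexp a haU'))) hne'
    · rw [mul_one] at hd
      exact absurd (hd ▸ pow_orderOf_eq_one g) hgr
    · exact hd
  have h2p := h.hyp.order_eq hord (by have := h.prime.two_le; omega)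
    (Nat.not_prime_mul (by norm_num) h.prime.ne_one)
  have := h.prime.two_le
  omega

variable [IsSimpleGroup G]

theorem Base.exists_moving (h : Base p E) :
    ∃ n ∈ normalizer ((E : Subgroup G) : Set G), n ∉ centralizer ((E : Subgroup G) : Set G) := by
  by_contra hcon
  push Not at hcon
  have : Fact (Nat.Prime 2) := ⟨Nat.prime_two⟩
  have hP : normalizer ((E : Subgroup G) : Set G) ≤ centralizer ((E : Subgroup G) : Set G) := hcon
  rcases (MonoidHom.normal_ker (MonoidHom.transferSylow E hP)).eq_bot_or_eq_top with e | e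
  · refine h.noncomm ⟨⟨fun a b => ?_⟩⟩
    refine (MonoidHom.ker_eq_bot_iff _).1 e (Subtype.ext ?_)
    rw [map_mul, map_mul]
    exact (h.comm (MonoidHom.transferSylow E hP a).2 (MonoidHom.transferSylow E hP b).2).eq
  · have h1 := MonoidHom.not_dvd_card_ker_transferSylow E hP
    rw [e, card_top] at h1
    exact h1 (even_card h.noncomm).two_dvd

/-- `N(E)` is transitive on the involutions of `E`. -/
theorem Four.exists_conj (h : Four p E) {x y : G} (hx : x ∈ (E : Subgroup G)) (hx1 : x ≠ 1)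
    (hy : y ∈ (E : Subgroup G)) (hy1 : y ≠ 1) :
    ∃ n ∈ normalizer ((E : Subgroup G) : Set G), n * x * n⁻¹ = y := by
  obtain ⟨n, hn, hnc⟩ := h.exists_moving
  obtain ⟨a, -, haN, hac, ha⟩ := h.exists_three hn hnc
  rcases eq_or_ne x y with rfl | hne
  · exact ⟨1, one_mem _, by simp⟩
  have h1 : a * x * a⁻¹ ≠ x := fun e => hx1 (h.no_fix haN hac ha hx e)
  have h1' : a⁻¹ * x * a ≠ x := fun e => h1 (by
    calc a * x * a⁻¹ = a * (a⁻¹ * x * a) * a⁻¹ := by rw [e]
      _ = x := by group)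
  have h2 : a * x * a⁻¹ ≠ a⁻¹ * x * a := by
    intro e
    refine h1' ?_
    have h3 : a ^ 3 = 1 := ha ▸ pow_orderOf_eq_one a
    have hi : a⁻¹ = a * a := inv_eq_of_mul_eq_one_right (by rw [← pow_two, ← pow_succ']; exact h3)
    calc a⁻¹ * x * a = a⁻¹ * x * a⁻¹⁻¹ := by rw [inv_inv]
      _ = a * a * x * (a * a)⁻¹ := by rw [hi]
      _ = a * (a * x * a⁻¹) * a⁻¹ := by group
      _ = a * (a⁻¹ * x * a) * a⁻¹ := by rw [e]
      _ = x := by group
  have m1 : a * x * a⁻¹ ∈ (E : Subgroup G) := (mem_normalizer_iff.1 haN x).1 hx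
  have m2 : a⁻¹ * x * a ∈ (E : Subgroup G) := (mem_normalizer_iff''.1 haN x).1 hx
  have n1 : a * x * a⁻¹ ≠ 1 := fun e => hx1 (conj_eq_one_iff.1 e)
  have n2 : a⁻¹ * x * a ≠ 1 := fun e => hx1 (by
    calc x = a * (a⁻¹ * x * a) * a⁻¹ := by group
      _ = 1 := by rw [e]; group)
  rcases h.cases hx m1 hx1 n1 h1.symm hy with e | e | e | e
  · exact absurd e hy1
  · exact absurd e.symm hne
  · exact ⟨a, haN, e.symm⟩
  · refine ⟨a⁻¹, inv_mem haN, ?_⟩
    rw [inv_inv, e]
    rcases h.cases hx m1 hx1 n1 h1.symm m2 with f | f | f | f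
    · exact absurd f n2
    · exact absurd f h1'
    · exact absurd f.symm h2
    · exact f

theorem Four.isConj (h : Four p E) {x y : G} (hx : orderOf x = 2) (hy : orderOf y = 2) :
    IsConj x y := by
  have : Fact (Nat.Prime 2) := ⟨Nat.prime_two⟩
  have key : ∀ z : G, orderOf z = 2 → ∃ e ∈ (E : Subgroup G), e ≠ 1 ∧ IsConj z e := by
    intro z hz
    obtain ⟨P, hP⟩ := (IsPGroup.of_card (n := 1)
      (by rw [Nat.card_zpowers, hz, pow_one]) : IsPGroup 2 (zpowers z)).exists_le_sylow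
    obtain ⟨g, hg⟩ := MulAction.exists_smul_eq G P E
    refine ⟨g * z * g⁻¹, ?_, fun e => ?_, isConj_iff.2 ⟨g, rfl⟩⟩
    · rw [← hg]; exact ⟨z, hP (mem_zpowers _), rfl⟩
    · rw [conj_eq_one_iff] at e
      rw [e, orderOf_one] at hz
      omega
  obtain ⟨e, he, he1, hxe⟩ := key x hx
  obtain ⟨f, hf, hf1, hyf⟩ := key y hy
  obtain ⟨n, -, hn⟩ := h.exists_conj he he1 hf hf1
  exact hxe.trans ((isConj_iff.2 ⟨n, hn⟩).trans hyf.symm)

end CfsgLib.OneComposite
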