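import Cfsg.Agent.Lib.OneComposite.Klein
import Cfsg.Agent.Lib.BSW.Main

/-!
Orders prime or `2p`, Sylow `2`-subgroup a four-group `E`: either `C(E)` is a `2`-group and the
involution centralisers are generalised dihedral with abelian TI core, or there is a contradiction.
-/

set_option autoImplicit false
set_option linter.unusedSectionVars false

open Subgroup CfsgLib.Involutions

namespace CfsgLib.OneComposite

universe u

variable {G : Type u} [Group G] [Finite G] {p : ℕ} {E : Sylow 2 G}

/-- Conjugation by `n ∈ N(H)` fixes the odd core of `H`. -/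
theorem conj_mem_core {H : Subgroup G} {n : G} (hn : n ∈ normalizer (H : Set G)) {y : G}
    (hy : y ∈ (Cfsg.pPrimeCore 2 H).map H.subtype) :
    n * y * n⁻¹ ∈ (Cfsg.pPrimeCore 2 H).map H.subtype := by
  obtain ⟨z, hz, rfl⟩ := hy
  let φ : H ≃* H :=
    { toFun := fun x => ⟨n * x * n⁻¹, (mem_normalizer_iff.1 hn _).1 x.2⟩
      invFun := fun x => ⟨n⁻¹ * x * n, (mem_normalizer_iff''.1 hn _).1 x.2⟩
      left_inv := fun _ => Subtype.ext (by group)
      right_inv := fun _ => Subtype.ext (by group)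
      map_mul' := fun a b => Subtype.ext (by simp [mul_assoc]) }
  have h1 : φ z ∈ (Cfsg.pPrimeCore 2 H).map φ.toMonoidHom := mem_map_of_mem φ.toMonoidHom hz
  rw [(Subgroup.characteristic_iff_map_eq.1 inferInstance φ)] at h1
  exact ⟨φ z, h1, rfl⟩

theorem Four.exists_U (h : Four p E) {t : G} (ht : t ∈ (E : Subgroup G)) (ht1 : t ≠ 1) :
    ∃ U : Subgroup G, U ≤ centralizer ({t} : Set G) ∧ IsPGroup p U ∧
      (∀ x ∈ centralizer ({t} : Set G), x ^ p = 1 → x ∈ U) ∧
      (∀ x ∈ centralizer ({t} : Set G), ∀ o ∈ U, x * o * x⁻¹ ∈ U) ∧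
      ∀ x ∈ centralizer ({t} : Set G), ∃ o ∈ U, ∃ e ∈ (E : Subgroup G), x = o * e :=
  h.exists_O (fun x hx => mem_centralizer_singleton_iff.2 (h.comm hx ht).eq)
    fun _ hn hnN => h.centralizer_inf hnN ht ht1 (mem_centralizer_singleton_iff.1 hn)

variable [IsSimpleGroup G]

/-- Not both: involutions centralise elements of order `p` and four-groups do. -/
theorem Four.isK_eq_one (h : Four p E) {w : G} (hw : IsK p E w) : w = 1 := by
  by_contra hw1
  have : Fact (Nat.Prime 2) := ⟨Nat.prime_two⟩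
  have := Fact.mk h.prime
  have := h.elem.1
  set N := normalizer ((E : Subgroup G) : Set G) with hN
  set D := centralizer ((E : Subgroup G) : Set G) with hD
  obtain ⟨n0, hn0, hn0c⟩ := h.exists_moving
  obtain ⟨a, -, haN, hac, ha⟩ := h.exists_three hn0 hn0c
  obtain ⟨K, hK, hKdec⟩ := h.exists_complement
  have hKp : IsPGroup p K := fun x => ⟨1, Subtype.ext (by simpa using ((hK x).1 x.2).2)⟩
  have hNK : ∀ n ∈ N, n ∈ normalizer (K : Set G) := fun n hn =>
    (le_normalizer_iff.2 fun m hm x hx => (hK _).2 (IsK.conj ((hK x).1 hx) hm) :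
      N ≤ normalizer (K : Set G)) hn
  set C := centralizer (K : Set G) with hC
  have hEC : (E : Subgroup G) ≤ C := fun x hx => mem_centralizer_iff.2 fun y hy =>
    (mem_centralizer_iff.1 ((hK y).1 hy).1 x hx).symm
  have hCN : C ≤ N := by
    have : Group.IsSolvable C := FewOrders.isSolvable_of_two_primes Nat.prime_two h.prime
      fun r hr hd => by
        have := Fact.mk hr
        obtain ⟨c, hc⟩ := exists_prime_orderOf_dvd_card' r hd
        exact h.prime_commute hw.2 hw1 hr (by rw [Subgroup.orderOf_coe]; exact hc)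
          (mem_centralizer_iff.1 c.2 w ((hK w).2 hw)).symm
    have htop := FTCons.pPrimeCore_sup_normalizer_eq_top (E.subtype hEC)
      fun x hx y hy => Subtype.ext (h.comm hx hy).eq
    set O := (Cfsg.pPrimeCore 2 C).map C.subtype with hO
    have hmap : C = O ⊔
        (normalizer (((E.subtype hEC : Sylow 2 C) : Subgroup C) : Set C)).map C.subtype := by
      rw [hO, ← Subgroup.map_sup, htop, ← MonoidHom.range_eq_map, range_subtype]
    have hEO : (E : Subgroup G) ≤ normalizer (O : Set G) := le_normalizer_iff.2 fun e he y hy =>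
      conj_mem_core (le_normalizer (hEC he)) hy
    have hodd : ¬ 2 ∣ Nat.card O := by
      rw [hO, card_subtype]
      exact Nat.prime_two.coprime_iff_not_dvd.1 CfsgLib.PCore.pPrimeCore_coprime.symm
    have haO : a ∈ normalizer (O : Set G) :=
      (le_normalizer_iff.2 fun m hm y hy =>
        conj_mem_core ((normalizer_le_normalizer_centralizer K) hm) hy :
        normalizer (K : Set G) ≤ normalizer (O : Set G)) (hNK a haN)
    rw [hmap]
    refine sup_le ?_ ((le_normalizer_map _).trans (le_of_eq ?_))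
    · exact (h.weights haN hac (h.isPGroup_of_invariant hEO hodd) hEO haO).trans
        (centralizer_le_normalizer _)
    · rw [Sylow.coe_subtype, map_subgroupOf_eq_of_le hEC]
  have hCt : ∀ t ∈ (E : Subgroup G), t ≠ 1 → centralizer ({t} : Set G) = D := by
    intro t ht ht1
    refine le_antisymm ?_ fun x hx => mem_centralizer_singleton_iff.2
      (mem_centralizer_iff.1 hx t ht).symm
    obtain ⟨U, hUC, hUp, hUall, hUn, hUdec⟩ := h.exists_U ht ht1
    obtain ⟨s, hs, hs1, hst⟩ := h.exists_other (x := t)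
    have hKU : K ≤ U := fun x hx => hUall x (mem_centralizer_singleton_iff.2
      (mem_centralizer_iff.1 ((hK x).1 hx).1 t ht).symm) ((hK x).1 hx).2
    have hUK : U ≤ K := by
      by_contra hle
      have hne : K.subgroupOf U ≠ ⊤ := fun e => hle (subgroupOf_eq_top.1 e)
      have : Group.IsNilpotent U := hUp.isNilpotent
      obtain ⟨⟨v, hvU⟩, hv, hvK⟩ := SetLike.exists_of_lt
        (Group.normalizerCondition_of_isNilpotent (K.subgroupOf U) hne.lt_top)
      refine hvK ?_
      show v ∈ K
      have hvn : ∀ x ∈ K, v * x * v⁻¹ ∈ K := fun x hx =>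
        (mem_normalizer_iff.1 hv ⟨x, hKU hx⟩).1 hx
      have hss : s⁻¹ = s := inv_eq_of_mul_eq_one_right (h.exp hs)
      have hsC : s ∈ centralizer ({t} : Set G) :=
        mem_centralizer_singleton_iff.2 (h.comm hs ht).eq
      set y := v⁻¹ * s * v * s with hy
      have hyU : y ∈ U := by
        have := mul_mem (inv_mem hvU) (hUn s hsC v hvU)
        rwa [hss, show v⁻¹ * (s * v * s) = y by rw [hy]; group] at this
      have hyC : y ∈ C := mem_centralizer_iff.2 fun x hx => by
        have h1 := mem_centralizer_iff.1 ((hK _).1 (hvn x hx)).1 s hs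
        have h2 := mem_centralizer_iff.1 ((hK x).1 hx).1 s hs
        calc x * y = v⁻¹ * ((v * x * v⁻¹) * s) * v * s := by rw [hy]; group
          _ = v⁻¹ * (s * (v * x * v⁻¹)) * v * s := by rw [h1]
          _ = v⁻¹ * s * v * (x * s) := by group
          _ = v⁻¹ * s * v * (s * x) := by rw [h2]
          _ = y * x := by rw [hy]; group
      have hyK : IsK p E y := ⟨h.centralizer_inf (hCN hyC) ht ht1
        (mem_centralizer_singleton_iff.1 (hUC hyU)), h.hyp.pow_eq_one h.prime h.odd hUp hyU⟩
      have hy1 : y = 1 := by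
        refine h.eq_one_of_sq ?_ hyK.2
        have h1 : s * y = y * s := mem_centralizer_iff.1 hyK.1 s hs
        have h2 : y * s = v⁻¹ * s * v := by rw [hy, mul_assoc, h.exp hs, mul_one]
        calc y * y = y * (y * (s * s)) := by rw [h.exp hs, mul_one]
          _ = y * ((y * s) * s) := by rw [mul_assoc y s s]
          _ = y * ((s * y) * s) := by rw [h1]
          _ = (y * s) * (y * s) := by group
          _ = v⁻¹ * (s * s) * v := by rw [h2]; group
          _ = 1 := by rw [h.exp hs]; group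
      have hsv : s * v = v * s := by
        have h2 : v⁻¹ * s * v = y * s := by rw [hy, mul_assoc _ s s, h.exp hs, mul_one]
        rw [hy1, one_mul] at h2
        calc s * v = v * (v⁻¹ * s * v) := by group
          _ = v * s := by rw [h2]
      have htv : t * v = v * t := (mem_centralizer_singleton_iff.1 (hUC hvU)).symm
      refine (hK v).2 ⟨mem_centralizer_iff.2 fun e he => ?_, h.hyp.pow_eq_one h.prime h.odd hUp hvU⟩
      rcases h.cases ht hs ht1 hs1 hst.symm he with rfl | rfl | rfl | rfl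
      · rw [one_mul, mul_one]
      · exact htv
      · exact hsv
      · rw [mul_assoc, hsv, ← mul_assoc, htv, mul_assoc]
    intro x hx
    obtain ⟨o, ho, e, he, rfl⟩ := hUdec x hx
    exact mul_mem ((hK o).1 (hUK ho)).1 (h.le_centralizer he)
  have hse : Cfsg.IsStronglyEmbedded N := by
    obtain ⟨t, ht, ht1⟩ := h.exists_ne_one
    refine (isStronglyEmbedded_iff_fusion (fun e => not_normal_sylow h.noncomm E
      (normalizer_eq_top_iff.1 e)) (even_card_of_involution_mem (le_normalizer ht) (h.inv ht ht1))).2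
      ⟨fun x hx hx2 => ?_, fun x hx y hy hx2 hy2 _ => ?_⟩
    · rw [hCt x (mem_E_of_normalizes hx (mul_self_eq_one hx2))
        (ne_one_of_involution hx2)]
      exact centralizer_le_normalizer _
    · exact h.exists_conj (mem_E_of_normalizes hx (mul_self_eq_one hx2)) (ne_one_of_involution hx2)
        (mem_E_of_normalizes hy (mul_self_eq_one hy2)) (ne_one_of_involution hy2)
  obtain ⟨t, ht, ht1⟩ := h.exists_ne_one
  have hidx : D.relIndex N = 3 := by
    have hsur : ∀ n ∈ N, ∃ i : Fin 3, (a ^ (i : ℕ))⁻¹ * n ∈ D := by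
      intro n hn
      have hi : ∃ i : Fin 3, a ^ (i : ℕ) * t * (a ^ (i : ℕ))⁻¹ = n * t * n⁻¹ := by
        have h3 : a ^ 3 = 1 := ha ▸ pow_orderOf_eq_one a
        have n1 : ∀ g ∈ N, g * t * g⁻¹ ∈ (E : Subgroup G) ∧ g * t * g⁻¹ ≠ 1 := fun g hg =>
          ⟨(mem_normalizer_iff.1 hg t).1 ht, fun e => ht1 (conj_eq_one_iff.1 e)⟩
        obtain ⟨m1, o1⟩ := n1 a haN
        obtain ⟨m2, o2⟩ := n1 (a ^ 2) (pow_mem haN 2)
        have d1 : a * t * a⁻¹ ≠ t := fun e => ht1 (h.no_fix haN hac ha ht e)
        have d2 : a ^ 2 * t * (a ^ 2)⁻¹ ≠ t := fun e => d1 (by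
          calc a * t * a⁻¹ = a * (a ^ 2 * t * (a ^ 2)⁻¹) * a⁻¹ := by rw [e]
            _ = a ^ 3 * t * (a ^ 3)⁻¹ := by simp only [pow_succ, pow_zero, one_mul]; group
            _ = t := by rw [h3]; group)
        have d3 : a ^ 2 * t * (a ^ 2)⁻¹ ≠ a * t * a⁻¹ := fun e => d1 (by
          calc a * t * a⁻¹ = a⁻¹ * (a ^ 2 * t * (a ^ 2)⁻¹) * a := by
                simp only [pow_succ, pow_zero, one_mul]; group
            _ = a⁻¹ * (a * t * a⁻¹) * a := by rw [e]
            _ = t := by group)
        obtain ⟨mn, on⟩ := n1 n hn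
        rcases h.cases ht m1 ht1 o1 d1.symm mn with e | e | e | e
        · exact absurd e on
        · exact ⟨0, by simp [e]⟩
        · exact ⟨1, by simp [e]⟩
        · rcases h.cases ht m1 ht1 o1 d1.symm m2 with f | f | f | f
          · exact absurd f o2
          · exact absurd f d2
          · exact absurd f d3
          · exact ⟨2, by simp only [Fin.val_two]; rw [e, f]⟩
      obtain ⟨i, hi⟩ := hi
      refine ⟨i, h.centralizer_inf (mul_mem (inv_mem (pow_mem haN _)) hn) ht ht1 ?_⟩
      show (a ^ (i : ℕ))⁻¹ * n * t = t * ((a ^ (i : ℕ))⁻¹ * n)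
      calc (a ^ (i : ℕ))⁻¹ * n * t = (a ^ (i : ℕ))⁻¹ * (n * t * n⁻¹) * n := by group
        _ = (a ^ (i : ℕ))⁻¹ * (a ^ (i : ℕ) * t * (a ^ (i : ℕ))⁻¹) * n := by rw [hi]
        _ = t * ((a ^ (i : ℕ))⁻¹ * n) := by group
    let f : Fin 3 → N ⧸ D.subgroupOf N := fun i =>
      ((⟨a ^ (i : ℕ), pow_mem haN _⟩ : N) : N ⧸ D.subgroupOf N)
    have hfb : Function.Bijective f := by
      refine ⟨fun i j hij => ?_, fun x => ?_⟩
      · have h1 : (a ^ (i : ℕ))⁻¹ * a ^ (j : ℕ) ∈ D :=
          (QuotientGroup.eq (s := D.subgroupOf N)).1 hij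
        by_contra hne
        set g := (a ^ (i : ℕ))⁻¹ * a ^ (j : ℕ) with hg
        have hgz : g ∈ zpowers a :=
          mul_mem (inv_mem (pow_mem (mem_zpowers a) _)) (pow_mem (mem_zpowers a) _)
        have hg1 : g ≠ 1 := fun e' => hne (Fin.ext (pow_injOn_Iio_orderOf (x := a)
          (by rw [Set.mem_Iio, ha]; exact i.2) (by rw [Set.mem_Iio, ha]; exact j.2)
          (inv_mul_eq_one.1 e')))
        have hgo : orderOf g = 3 := (Nat.prime_three.eq_one_or_self_of_dvd _
          (ha ▸ orderOf_dvd_of_mem_zpowers hgz)).resolve_left (mt orderOf_eq_one_iff.1 hg1)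
        have hgz' : zpowers g = zpowers a := eq_of_le_of_card_ge (zpowers_le.2 hgz)
          (by rw [Nat.card_zpowers, Nat.card_zpowers, hgo, ha])
        exact hac (zpowers_le.2 h1 (hgz' ▸ mem_zpowers a))
      · obtain ⟨⟨n, hn⟩, rfl⟩ := QuotientGroup.mk_surjective x
        obtain ⟨i, hi⟩ := hsur n hn
        exact ⟨i, QuotientGroup.eq.2 hi⟩
    rw [relIndex, index, ← Nat.card_eq_of_bijective f hfb, Nat.card_fin]
  exact SE.regular_false { h.toBase with se := hse }
    ⟨t, w, h.inv ht ht1, h.orderOf_p hw.2 hw1, (mem_centralizer_iff.1 hw.1 t ht).symm⟩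
    Nat.prime_three (by norm_num) hidx hCt

/-- A normalised nontrivial `p`-subgroup has a normaliser without fusion. -/
theorem Four.exists_normalizer_O (h : Four p E) {Q : Subgroup G} (hQ : IsPGroup p Q) (hQ1 : Q ≠ ⊥)
    (hEQ : (E : Subgroup G) ≤ normalizer (Q : Set G)) :
    ∃ O : Subgroup G, O ≤ normalizer (Q : Set G) ∧ IsPGroup p O ∧
      (∀ x ∈ normalizer (Q : Set G), x ^ p = 1 → x ∈ O) ∧
      (∀ x ∈ normalizer (Q : Set G), ∀ o ∈ O, x * o * x⁻¹ ∈ O) ∧
      ∀ x ∈ normalizer (Q : Set G), ∃ o ∈ O, ∃ e ∈ (E : Subgroup G), x = o * e := by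
  refine h.exists_O hEQ fun n hn hnN => ?_
  by_contra hnc
  refine hQ1 ((eq_bot_iff_forall _).2 fun x hx => ?_)
  exact h.isK_eq_one ⟨h.weights hnN hnc hQ hEQ hn hx, h.hyp.pow_eq_one h.prime h.odd hQ hx⟩

/-- An `E`-invariant `p`-subgroup. -/
def Inv (p : ℕ) (E : Sylow 2 G) (P : Subgroup G) : Prop :=
  IsPGroup p P ∧ (E : Subgroup G) ≤ normalizer (P : Set G)

theorem Four.inv_of_O (h : Four p E) {Q O : Subgroup G} (hEQ : (E : Subgroup G) ≤ normalizer (Q : Set G))
    (hO : IsPGroup p O) (hn : ∀ x ∈ normalizer (Q : Set G), ∀ o ∈ O, x * o * x⁻¹ ∈ O) : Inv p E O :=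
  ⟨hO, le_normalizer_iff.2 fun e he o ho => hn e (hEQ he) o ho⟩

/-- Maximal invariant `p`-subgroups with nontrivial intersection coincide. -/
theorem Four.maximal_eq (h : Four p E) {P₁ P₂ : Subgroup G} (h1 : Maximal (Inv p E) P₁)
    (h2 : Maximal (Inv p E) P₂) (hne : P₁ ⊓ P₂ ≠ ⊥) : P₁ = P₂ := by
  suffices key : ∀ D : Subgroup G, ∀ P₁ P₂ : Subgroup G, Maximal (Inv p E) P₁ →
      Maximal (Inv p E) P₂ → P₁ ⊓ P₂ = D → D ≠ ⊥ → P₁ = P₂ from key _ P₁ P₂ h1 h2 rfl hne
  intro D
  induction D using WellFoundedGT.induction with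
  | _ D ih =>
    intro P₁ P₂ h1 h2 hD hne
    by_contra hP
    have := Fact.mk h.prime
    have hDp : IsPGroup p D := h1.prop.1.to_le (hD ▸ inf_le_left)
    have hED : (E : Subgroup G) ≤ normalizer (D : Set G) := le_normalizer_iff.2 fun e he x hx => by
      rw [← hD] at hx ⊢
      exact ⟨(mem_normalizer_iff.1 (h1.prop.2 he) x).1 hx.1,
        (mem_normalizer_iff.1 (h2.prop.2 he) x).1 hx.2⟩
    obtain ⟨O, -, hOp, hOall, hOn, -⟩ := h.exists_normalizer_O hDp hne hED
    obtain ⟨P₃, hOP, hP₃⟩ := Finite.exists_le_maximal (p := Inv p E) (h.inv_of_O hED hOp hOn)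
    have hDO : D ≤ O := fun x hx => hOall x (le_normalizer hx)
      (h.hyp.pow_eq_one h.prime h.odd hDp hx)
    have key : ∀ P : Subgroup G, Maximal (Inv p E) P → D < P → P = P₃ := by
      intro P hPm hlt
      have : Group.IsNilpotent P := hPm.prop.1.isNilpotent
      obtain ⟨⟨v, hvP⟩, hv, hvD⟩ := SetLike.exists_of_lt
        (Group.normalizerCondition_of_isNilpotent (D.subgroupOf P)
          (lt_top_iff_ne_top.2 fun e => hlt.not_ge (subgroupOf_eq_top.1 e)))
      have hvN : v ∈ normalizer (D : Set G) := mem_normalizer_iff.2 fun x => by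
        constructor
        · intro hx
          exact (mem_normalizer_iff.1 hv ⟨x, hlt.le hx⟩).1 hx
        · intro hx
          have hxP : x ∈ P := by
            have := mul_mem (mul_mem (inv_mem hvP) (hlt.le hx)) hvP
            simpa [mul_assoc] using this
          exact (mem_normalizer_iff.1 hv ⟨x, hxP⟩).2 hx
      have hvO : v ∈ P₃ := hOP (hOall v hvN (h.hyp.pow_eq_one h.prime h.odd hPm.prop.1 hvP))
      have hlt' : D < P ⊓ P₃ := lt_of_le_not_ge (le_inf hlt.le (hDO.trans hOP))
        fun hle => hvD (hle ⟨hvP, hvO⟩)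
      exact ih _ hlt' P P₃ hPm hP₃ rfl fun e => hne (le_bot_iff.1 (e ▸ hlt'.le))
    have l1 : D < P₁ := lt_of_le_of_ne (hD ▸ inf_le_left) fun e =>
      hP (h1.eq_of_le h2.prop (by rw [← e, ← hD]; exact inf_le_right))
    have l2 : D < P₂ := lt_of_le_of_ne (hD ▸ inf_le_right) fun e =>
      hP (h2.eq_of_le h1.prop (by rw [← e, ← hD]; exact inf_le_left)).symm
    exact hP ((key P₁ h1 l1).trans (key P₂ h2 l2).symm)

/-- The Brauer–Suzuki–Wall configuration. -/
theorem Four.exists_setup (h : Four p E) :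
    ∃ (K : Subgroup G) (t s : G), BSW.Setup K t s := by
  have : Fact (Nat.Prime 2) := ⟨Nat.prime_two⟩
  have := Fact.mk h.prime
  obtain ⟨t, ht, ht1⟩ := h.exists_ne_one
  obtain ⟨s, hs, hs1, hst⟩ := h.exists_other (x := t)
  obtain ⟨U, hUC, hUp, hUall, hUn, hUdec⟩ := h.exists_U ht ht1
  set C := centralizer ({t} : Set G) with hC
  have hUexp : ∀ x ∈ U, x ^ p = 1 := fun x hx => h.hyp.pow_eq_one h.prime h.odd hUp hx
  have hsC : s ∈ C := mem_centralizer_singleton_iff.2 (h.comm hs ht).eq
  have hss : s⁻¹ = s := inv_eq_of_mul_eq_one_right (h.exp hs)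
  have htt : t * t = 1 := h.exp ht
  have hUt : ∀ x ∈ U, x * t = t * x := fun x hx => mem_centralizer_singleton_iff.1 (hUC hx)
  have hEU : (E : Subgroup G) ≤ normalizer (U : Set G) := le_normalizer_iff.2 fun e he o ho =>
    hUn e (mem_centralizer_singleton_iff.2 (h.comm he ht).eq) o ho
  -- only the identity of `U` commutes with `s`
  have hfix : ∀ x ∈ U, x * s = s * x → x = 1 := by
    intro x hx hxs
    refine h.isK_eq_one ⟨mem_centralizer_iff.2 fun e he => ?_, hUexp x hx⟩
    rcases h.cases ht hs ht1 hs1 hst.symm he with rfl | rfl | rfl | rfl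
    · rw [one_mul, mul_one]
    · exact (hUt x hx).symm
    · exact hxs.symm
    · rw [mul_assoc, ← hxs, ← mul_assoc, ← hUt x hx, mul_assoc]
  let φ : U →* U :=
    { toFun := fun x => ⟨s * x * s⁻¹, hUn s hsC x x.2⟩
      map_one' := Subtype.ext (by simp)
      map_mul' := fun a b => Subtype.ext (by simp [mul_assoc]) }
  have hφ : MonoidHom.FixedPointFree φ := fun x hx =>
    Subtype.ext (hfix x x.2 (mul_inv_eq_iff_eq_mul.1 (congrArg Subtype.val hx)).symm)
  have hφ2 : Function.Involutive φ := fun x => Subtype.ext (by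
    show s * (s * (x : G) * s⁻¹) * s⁻¹ = x
    calc s * (s * (x : G) * s⁻¹) * s⁻¹ = (s * s) * x * (s * s)⁻¹ := by group
      _ = x := by rw [h.exp hs]; group)
  have hinv : ∀ x ∈ U, s * x * s⁻¹ = x⁻¹ := fun x hx =>
    congrArg Subtype.val (congrFun (hφ.coe_eq_inv_of_involutive hφ2) ⟨x, hx⟩)
  have hcomm : ∀ x ∈ U, ∀ y ∈ U, x * y = y * x := fun x hx y hy =>
    congrArg Subtype.val (hφ.commute_all_of_involutive hφ2 ⟨x, hx⟩ ⟨y, hy⟩).eq
  -- invariant subgroups over `U` stay in `U`
  have hmax : U ≠ ⊥ → ∀ P, Inv p E P → U ≤ P → P ≤ U := by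
    intro hU1 P hP hUP
    obtain ⟨M, hPM, hM⟩ := Finite.exists_le_maximal (p := Inv p E) hP
    refine hPM.trans ?_
    have hcop : (Nat.card (E : Subgroup G)).Coprime (Nat.card M) := by
      obtain ⟨i, hi⟩ := E.isPGroup'.exists_card_eq
      obtain ⟨j, hj⟩ := hM.prop.1.exists_card_eq
      rw [hi, hj]
      exact Nat.Coprime.pow _ _ ((Nat.coprime_primes Nat.prime_two h.prime).2 (Ne.symm h.odd))
    have := h.elem.1
    rw [← CfsgLib.CoprimeGeneration.iSup_centralizer_eq (E : Subgroup G) M h.noncyclic hM.prop.2 hcop]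
    refine iSup₂_le fun e ⟨he, he1⟩ x hx => ?_
    have hxp := h.hyp.pow_eq_one h.prime h.odd hM.prop.1 hx.1
    rcases eq_or_ne e t with rfl | het
    · exact hUall x hx.2 hxp
    by_contra hxU
    obtain ⟨a, haN, hae⟩ := h.exists_conj ht ht1 he he1
    have hac : a ∉ centralizer ((E : Subgroup G) : Set G) := fun hc => het (by
      rw [← hae, mul_inv_eq_iff_eq_mul]; exact (mem_centralizer_iff.1 hc t ht).symm)
    set M' := M.map (MulAut.conj a).toMonoidHom with hM'
    have hM'i : Inv p E M' := by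
      refine ⟨hM.prop.1.map _, le_normalizer_iff.2 ?_⟩
      rintro f hf _ ⟨y, hy, rfl⟩
      refine ⟨(a⁻¹ * f * a) * y * (a⁻¹ * f * a)⁻¹,
        (mem_normalizer_iff.1 (hM.prop.2 ((mem_normalizer_iff''.1 haN f).1 hf)) y).1 hy, ?_⟩
      simp only [MulEquiv.coe_toMonoidHom, MulAut.conj_apply]
      group
    -- the conjugate of `U` lying in `C(e)` is in both
    have hM'm : Maximal (Inv p E) M' := by
      refine ⟨hM'i, fun R hR hle => ?_⟩
      have hR' : Inv p E (R.map (MulAut.conj a⁻¹).toMonoidHom) := by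
        refine ⟨hR.1.map _, le_normalizer_iff.2 ?_⟩
        rintro f hf _ ⟨y, hy, rfl⟩
        refine ⟨(a * f * a⁻¹) * y * (a * f * a⁻¹)⁻¹,
          (mem_normalizer_iff.1 (hR.2 ((mem_normalizer_iff.1 haN f).1 hf)) y).1 hy, ?_⟩
        simp only [MulEquiv.coe_toMonoidHom, MulAut.conj_apply]
        group
      have hMR : M ≤ R.map (MulAut.conj a⁻¹).toMonoidHom := fun y hy =>
        ⟨a * y * a⁻¹, hle ⟨y, hy, rfl⟩, by
          simp only [MulEquiv.coe_toMonoidHom, MulAut.conj_apply]; group⟩
      intro y hy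
      exact ⟨a⁻¹ * y * a, hM.2 hR' hMR ⟨y, hy, by simp⟩, by
        simp only [MulEquiv.coe_toMonoidHom, MulAut.conj_apply]; group⟩
    have hxM' : x ∈ M' := by
      refine ⟨a⁻¹ * x * a, hUP.trans hPM (hUall _ (mem_centralizer_singleton_iff.2 ?_) ?_), by
        simp only [MulEquiv.coe_toMonoidHom, MulAut.conj_apply]; group⟩
      · have h1 := mem_centralizer_singleton_iff.1 hx.2
        rw [← hae] at h1
        calc a⁻¹ * x * a * t = a⁻¹ * (x * (a * t * a⁻¹)) * a := by group
          _ = a⁻¹ * (a * t * a⁻¹ * x) * a := by rw [h1]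
          _ = t * (a⁻¹ * x * a) := by group
      · simpa [hxp] using conj_pow (a := a⁻¹) (b := x) (i := p)
    have hx1 : x ≠ 1 := fun e' => hxU (e' ▸ one_mem U)
    have hEq : M = M' := h.maximal_eq hM hM'm fun e' => hx1 (mem_bot.1 (e' ▸ ⟨hx.1, hxM'⟩))
    have hanM : a ∈ normalizer (M : Set G) := mem_normalizer_iff.2 fun y => by
      constructor
      · intro hy
        rw [hEq, hM']
        exact ⟨y, hy, rfl⟩
      · intro hy
        rw [hEq, hM'] at hy
        obtain ⟨z, hz, hze⟩ := hy
        rwa [show y = z from (MulAut.conj a).injective hze.symm]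
    exact hx1 (h.isK_eq_one ⟨h.weights haN hac hM.prop.1 hM.prop.2 hanM hx.1, hxp⟩)
  -- `t` is the only involution commuting with an element of `U`
  have honly : ∀ u ∈ U, u ≠ 1 → ∀ z : G, orderOf z = 2 → z * u = u * z → z = t := by
    intro u hu hu1 z hz hzu
    have hQp : IsPGroup p (zpowers u) := hUp.to_le (zpowers_le.2 hu)
    have hEQ : (E : Subgroup G) ≤ normalizer (zpowers u : Set G) := by
      refine le_normalizer_iff.2 fun e he y hy => ?_
      obtain ⟨k, rfl⟩ := mem_zpowers_iff.1 hy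
      rw [← conj_zpow]
      rcases h.cases ht hs ht1 hs1 hst.symm he with rfl | rfl | rfl | rfl
      · rw [one_mul, inv_one, mul_one]; exact zpow_mem (mem_zpowers u) k
      · rw [← hUt u hu, mul_inv_cancel_right]; exact zpow_mem (mem_zpowers u) k
      · rw [hinv u hu]; exact zpow_mem (inv_mem (mem_zpowers u)) k
      · rw [show t * s * u * (t * s)⁻¹ = t * (s * u * s⁻¹) * t⁻¹ by group, hinv u hu,
          ← hUt _ (inv_mem hu), mul_inv_cancel_right]
        exact zpow_mem (inv_mem (mem_zpowers u)) k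
    obtain ⟨O, -, hOp, hOall, hOn, hOdec⟩ := h.exists_normalizer_O hQp
      (fun e => hu1 (mem_bot.1 (e ▸ mem_zpowers u))) hEQ
    have hUN : U ≤ normalizer (zpowers u : Set G) := fun x hx => by
      refine (le_normalizer_iff.2 ?_ : U ≤ normalizer (zpowers u : Set G)) hx
      intro m hm y hy
      rw [hcomm m hm y (zpowers_le.2 hu hy), mul_inv_cancel_right]
      exact hy
    have hU1 : U ≠ ⊥ := fun e => hu1 (mem_bot.1 (e ▸ hu))
    have hOU := hmax hU1 O (h.inv_of_O hEQ hOp hOn) fun x hx => hOall x (hUN hx) (hUexp x hx)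
    have hzN : z ∈ normalizer (zpowers u : Set G) :=
      centralizer_le_normalizer _ (mem_centralizer_iff.2 fun y hy => by
        obtain ⟨k, rfl⟩ := mem_zpowers_iff.1 hy
        exact ((show Commute u z from hzu.symm).zpow_left k).eq)
    obtain ⟨o, ho, e, he, rfl⟩ := hOdec z hzN
    have hoU := hOU ho
    have heu : e * u = u * e := by
      calc e * u = o⁻¹ * (o * e * u) := by group
        _ = o⁻¹ * (u * (o * e)) := by rw [hzu]
        _ = o⁻¹ * (u * o) * e := by group
        _ = u * e := by rw [hcomm u hu o hoU]; group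
    have hz2 : o * e * (o * e) = 1 := mul_self_eq_one hz
    rcases h.cases ht hs ht1 hs1 hst.symm he with rfl | rfl | rfl | rfl
    · simp only [mul_one] at hz2 hz
      rw [h.eq_one_of_sq hz2 (hUexp o hoU), orderOf_one] at hz
      omega
    · have ho1 : o = 1 := h.eq_one_of_sq (by
        calc o * o = o * (o * e) * e := by rw [mul_assoc, mul_assoc o e e, h.exp ht, mul_one]
          _ = o * (e * o) * e := by rw [hUt o hoU]
          _ = o * e * (o * e) := by group
          _ = 1 := hz2) (hUexp o hoU)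
      rw [ho1, one_mul]
    · exact absurd (hfix u hu heu.symm) hu1
    · refine absurd (hfix u hu ?_) hu1
      calc u * s = t * (t * (u * s)) := by rw [← mul_assoc, htt, one_mul]
        _ = t * ((t * u) * s) := by group
        _ = t * (u * (t * s)) := by rw [← hUt u hu]; group
        _ = t * (t * s * u) := by rw [heu]
        _ = s * u := by rw [mul_assoc t s u, ← mul_assoc, htt, one_mul]
  have hUtU : ∀ x, x * t ∈ U → x * t = t * x := fun x hx => by
    have h1 := hUt _ hx
    calc x * t = x * t * t * t := by rw [mul_assoc (x * t), htt, mul_one]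
      _ = t * (x * t) * t := by rw [h1]
      _ = t * x := by rw [mul_assoc, mul_assoc x t t, htt, mul_one]
  let K : Subgroup G :=
    { carrier := {x | x ∈ U ∨ x * t ∈ U}
      one_mem' := Or.inl (one_mem U)
      mul_mem' := by
        rintro a b (ha | ha) (hb | hb)
        · exact Or.inl (mul_mem ha hb)
        · exact Or.inr (by rw [mul_assoc]; exact mul_mem ha hb)
        · refine Or.inr ?_
          rw [show a * b * t = (a * t) * (t⁻¹ * b * t) by group, mul_assoc t⁻¹, hUt b hb,
            inv_mul_cancel_left]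
          exact mul_mem ha hb
        · refine Or.inl ?_
          have h1 : (a * t) * (b * t) = a * b := by
            rw [hUtU b hb, ← mul_assoc, mul_assoc a t t, htt, mul_one]
          exact h1 ▸ mul_mem ha hb
      inv_mem' := by
        rintro a (ha | ha)
        · exact Or.inl (inv_mem ha)
        · refine Or.inr ?_
          have h1 := inv_mem ha
          rw [hUtU a ha, mul_inv_rev, inv_eq_of_mul_eq_one_right htt] at h1
          exact h1 }
  have hKC : K ≤ C := by
    rintro x (hx | hx)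
    · exact hUC hx
    · exact mem_centralizer_singleton_iff.2 (hUtU x hx)
  have hKp : ∀ x ∈ K, x ^ p = 1 ∨ x ^ p = t := by
    rintro x (hx | hx)
    · exact Or.inl (hUexp x hx)
    · refine Or.inr ?_
      have h1 := hUexp _ hx
      rw [(show Commute x t from hUtU x hx).mul_pow] at h1
      obtain ⟨k, hk⟩ := h.prime.odd_of_ne_two h.odd
      have h2 : t ^ p = t := by rw [hk, pow_succ, pow_mul, pow_two, htt, one_pow, one_mul]
      rw [h2] at h1
      rw [eq_inv_of_mul_eq_one_left h1, inv_eq_of_mul_eq_one_right htt]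
  have hKU : ∀ x ∈ K, x ^ p = 1 → x ∈ U := fun x hx hxp => hUall x (hKC hx) hxp
  refine ⟨K, t, s,
    { ht := h.inv ht ht1
      hs := h.inv hs hs1
      htK := Or.inr (by rw [htt]; exact one_mem U)
      hsK := ?_
      comm := ?_
      inv := ?_
      cent := ?_
      fix := ?_
      hti := ?_
      hconj := fun x y hx hy => h.isConj hx hy }⟩
  · rintro (hx | hx)
    · exact hs1 (h.eq_one_of_sq (h.exp hs) (hUexp s hx))
    · refine hst (?_ : s = t)
      have h1 := h.eq_one_of_sq (h.exp (mul_mem hs ht)) (hUexp _ hx)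
      rw [eq_inv_of_mul_eq_one_left h1, inv_eq_of_mul_eq_one_right htt]
  · intro x hx y hy
    have key : ∀ z ∈ K, ∀ v ∈ U, z * v = v * z := by
      rintro z (hz | hz) v hv
      · exact hcomm z hz v hv
      · calc z * v = (z * t) * v * t := by
              rw [mul_assoc, hUt v hv, mul_assoc z t, ← mul_assoc t t v, htt, one_mul]
          _ = v * (z * t) * t := by rw [hcomm _ hz v hv]
          _ = v * z := by rw [mul_assoc, mul_assoc z t t, htt, mul_one]
    rcases (show y ∈ U ∨ y * t ∈ U from hy) with hy' | hy'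
    · exact key x hx y hy'
    · have h1 := key x hx _ hy'
      have h2 : x * t = t * x := mem_centralizer_singleton_iff.1 (hKC hx)
      calc x * y = x * (y * t) * t := by rw [mul_assoc, mul_assoc y t t, htt, mul_one]
        _ = y * t * (x * t) := by rw [h1, mul_assoc]
        _ = y * (t * t) * x := by rw [h2]; group
        _ = y * x := by rw [htt, mul_one]
  · rintro x (hx | hx)
    · exact hinv x hx
    · have h1 := hinv _ hx
      have h2 : s * t * s⁻¹ = t := mul_inv_eq_iff_eq_mul.2 (h.comm hs ht).eq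
      calc s * x * s⁻¹ = s * (x * t) * s⁻¹ * (s * t * s⁻¹)⁻¹ := by group
        _ = (x * t)⁻¹ * t⁻¹ := by rw [h1, h2]
        _ = x⁻¹ := by rw [hUtU x hx, mul_inv_rev, mul_assoc, ← mul_inv_rev, htt, inv_one, mul_one]
  · refine le_antisymm (fun x hx => ?_) (sup_le hKC (zpowers_le.2 hsC))
    obtain ⟨o, ho, e, he, rfl⟩ := hUdec x hx
    have hoK : o ∈ K := Or.inl ho
    have htK : t ∈ K := Or.inr (by rw [htt]; exact one_mem U)
    refine mul_mem (mem_sup_left hoK) ?_
    rcases h.cases ht hs ht1 hs1 hst.symm he with rfl | rfl | rfl | rfl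
    · exact one_mem _
    · exact mem_sup_left htK
    · exact mem_sup_right (mem_zpowers e)
    · exact mul_mem (mem_sup_left htK) (mem_sup_right (mem_zpowers s))
  · rintro x (hx | hx) hxs
    · exact Or.inl (hfix x hx hxs)
    · refine Or.inr ?_
      have h1 := hfix _ hx (by
        rw [mul_assoc, (h.comm ht hs).eq, ← mul_assoc, hxs, mul_assoc])
      rw [eq_inv_of_mul_eq_one_left h1, inv_eq_of_mul_eq_one_right htt]
  · intro g x hg hx hgx
    by_contra hx1
    rcases hKp x hx with hxp | hxp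
    · refine hg (mem_centralizer_singleton_iff.2 ?_)
      have hxU := hKU x hx hxp
      have hgU := hKU _ hgx (by rw [conj_pow, hxp, mul_one, mul_inv_cancel])
      have h1 := honly _ hgU (fun e => hx1 (conj_eq_one_iff.1 e)) (g * t * g⁻¹)
        (by rw [orderOf_conj_eq]; exact h.inv ht ht1) (by
          rw [conj_mul, conj_mul, hUt x hxU])
      calc g * t = g * t * g⁻¹ * g := by group
        _ = t * g := by rw [h1]
    · refine hg (mem_centralizer_singleton_iff.2 ?_)
      have h1 : (g * x * g⁻¹) ^ p = g * t * g⁻¹ := by rw [conj_pow, hxp]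
      rcases hKp _ hgx with h2 | h2
      · exact absurd (conj_eq_one_iff.1 (h1.symm.trans h2)) ht1
      · calc g * t = g * t * g⁻¹ * g := by group
          _ = t * g := by rw [← h1, h2]

end CfsgLib.OneComposite
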