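import Cfsg.Agent.Lib.OneComposite.KleinCases
import Cfsg.Agent.Lib.BSW.Recog
import Cfsg.Agent.Lib.OneComposite.EvenBranch
import Cfsg.Agent.Lib.ClassicalGroups.SmallIso

/-!
Orders prime or `2p`, Sylow `2`-subgroup a four-group: `PSL₂(q)` with the admissible `q`.
-/

set_option autoImplicit false

open Subgroup

namespace CfsgLib.OneComposite

theorem three_pow_mod (j : ℕ) : 3 ^ (2 * j + 1) % 4 = 3 ∧ 3 ^ (2 * j) % 4 = 1 := by
  induction j with
  | zero => decide
  | succ j ih =>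
    have h2 : 3 ^ (2 * (j + 1)) = 3 ^ (2 * j) * 9 := by
      rw [show 2 * (j + 1) = 2 * j + 2 by ring, pow_add]; norm_num
    have h1 : 3 ^ (2 * (j + 1) + 1) = 3 ^ (2 * (j + 1)) * 3 := pow_succ 3 _
    omega

/-- The odd `q` for which `(q ± 1) / 2` have at most one composite divisor, namely `2p`. -/
theorem odd_cases {q p : ℕ} (hp : p.Prime) (hp2 : p ≠ 2) (hq : q % 2 = 1) (h5 : 5 ≤ q)
    (hpow : 3 ∣ q → ∃ n, q = 3 ^ n)
    (h1 : ∀ d, d ∣ (q - 1) / 2 → 1 < d → d.Prime ∨ d = 2 * p)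
    (h2 : ∀ d, d ∣ (q + 1) / 2 → 1 < d → d.Prime ∨ d = 2 * p) :
    q = 5 ∨ q = 11 ∨ q = 13 ∨
      ∃ n r s, r.Prime ∧ s.Prime ∧ 3 ^ n - 1 = 2 * r ∧ 3 ^ n + 1 = 4 * s ∧ q = 3 ^ n := by
  have hpo : p % 2 = 1 := Nat.odd_iff.1 (hp.odd_of_ne_two hp2)
  have hp3 : 3 ≤ p := by have := hp.two_le; omega
  rcases (show q % 4 = 1 ∨ q % 4 = 3 by omega) with h4 | h4
  · set A := (q - 1) / 2 with hA
    set B := (q + 1) / 2 with hB
    rcases (h1 A dvd_rfl (by omega)) with hAp | hAp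
    · have := (Nat.prime_dvd_prime_iff_eq Nat.prime_two hAp).1 (by omega : 2 ∣ A)
      omega
    have hBp : B.Prime := (h2 B dvd_rfl (by omega)).resolve_right (by omega)
    by_cases h3 : 3 ∣ q
    · obtain ⟨n, rfl⟩ := hpow h3
      obtain ⟨k, rfl | rfl⟩ := Nat.even_or_odd' n
      swap
      · have := (three_pow_mod k).1
        omega
      exfalso
      set a := 3 ^ k with ha
      have hsq : 3 ^ (2 * k) = a * a := by rw [ha, ← pow_add, two_mul]
      have hodd : a % 2 = 1 := by rw [ha, Nat.pow_mod]; norm_num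
      obtain ⟨c, hc⟩ : ∃ c, a = 2 * c + 1 := ⟨a / 2, by omega⟩
      have hcp : c * (c + 1) = p := by
        have h0 : a * a = 4 * p + 1 := by omega
        rw [hc] at h0
        linarith [show (2 * c + 1) * (2 * c + 1) = 4 * (c * (c + 1)) + 1 by ring]
      rcases (Nat.dvd_prime hp).1 ⟨c + 1, hcp.symm⟩ with e | e
      · subst e
        omega
      · rw [e] at hcp
        nlinarith
    · rcases (show q % 3 = 1 ∨ q % 3 = 2 by omega) with h | h
      · have := (Nat.prime_dvd_prime_iff_eq Nat.prime_three hp).1 (by omega : 3 ∣ p)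
        omega
      · have := (Nat.prime_dvd_prime_iff_eq Nat.prime_three hBp).1 (by omega : 3 ∣ B)
        omega
  · set A := (q - 1) / 2 with hA
    set B := (q + 1) / 2 with hB
    rcases (h2 B dvd_rfl (by omega)) with hBp | hBp
    · have := (Nat.prime_dvd_prime_iff_eq Nat.prime_two hBp).1 (by omega : 2 ∣ B)
      omega
    have hAp : A.Prime := (h1 A dvd_rfl (by omega)).resolve_right (by omega)
    by_cases h3 : 3 ∣ q
    · obtain ⟨n, rfl⟩ := hpow h3
      exact Or.inr (Or.inr (Or.inr ⟨n, A, p, hAp, hp, by omega, by omega, rfl⟩))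
    · rcases (show q % 3 = 1 ∨ q % 3 = 2 by omega) with h | h
      · have := (Nat.prime_dvd_prime_iff_eq Nat.prime_three hAp).1 (by omega : 3 ∣ A)
        omega
      · have := (Nat.prime_dvd_prime_iff_eq Nat.prime_three hp).1 (by omega : 3 ∣ p)
        omega

variable {G : Type*} [Group G] [Finite G] [IsSimpleGroup G] {p : ℕ} {E : Sylow 2 G}

theorem Four.target (h : Four p E)
    (hex : ∃ t c : G, orderOf t = 2 ∧ orderOf c = p ∧ Commute c t) : Target G := by
  classical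
  have : Fact (Nat.Prime 2) := ⟨Nat.prime_two⟩
  obtain ⟨K, t, s, hS⟩ := h.exists_setup
  obtain ⟨F, iF, iFt, hodd, ⟨e⟩⟩ := BSW.psl_of_concl (BSW.concl_of_setup hS)
  set q := Fintype.card F with hqdef
  have hq2 : q % 2 = 1 := Nat.odd_iff.1 hodd
  have hq1 : 1 < q := Fintype.one_lt_card
  obtain ⟨⟨x, hx⟩, ⟨y, hy⟩⟩ := exists_torus_orders F
  have hgcd : Nat.gcd 2 (q - 1) = 2 := Nat.gcd_eq_left (by omega)
  rw [hgcd] at hx hy
  have hP := h.hyp.of_equiv e
  obtain ⟨c', hc'⟩ := CharP.exists F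
  obtain ⟨j, hcp, hj⟩ := FiniteField.card F c'
  have hq5 : 5 ≤ q := by
    by_contra hlt
    have hq3 : q = 3 := by omega
    have h12 : Nat.card G = 12 := by
      have h1 := CfsgLib.ClassicalGroups.card_psl_two_gcd (K := F)
      rw [← hqdef, hgcd, hq3, ← Nat.card_congr e.toEquiv] at h1
      omega
    obtain ⟨t0, c0, ht0, hc0, hcomm⟩ := hex
    obtain ⟨S, hS'⟩ := (IsPGroup.of_card (n := 1)
      (by rw [Nat.card_zpowers, ht0, pow_one]) : IsPGroup 2 (zpowers t0)).exists_le_sylow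
    have hSc : (S : Subgroup G) ≤ centralizer ({t0} : Set G) := fun z hz =>
      mem_centralizer_singleton_iff.2
        (two_comm h.toBase.four S.isPGroup' hz (hS' (mem_zpowers t0))).eq
    have h4 : 4 ∣ Nat.card (centralizer ({t0} : Set G)) := by
      rw [← h.four, Nat.card_congr (E.equiv S).toEquiv]
      exact card_dvd_of_le hSc
    have hp : p ∣ Nat.card (centralizer ({t0} : Set G)) :=
      hc0 ▸ Subgroup.orderOf_dvd_natCard _ (mem_centralizer_singleton_iff.2 hcomm.eq)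
    have hd := card_subgroup_dvd_card (centralizer ({t0} : Set G))
    have hp3 : p = 3 := by
      have h1 : p ∣ 4 * 3 := by
        have := hp.trans hd
        rwa [h12] at this
      rcases (Nat.Prime.dvd_mul h.prime).1 h1 with h2 | h2
      · exact absurd ((Nat.prime_dvd_prime_iff_eq h.prime Nat.prime_two).1
          (h.prime.dvd_of_dvd_pow (n := 2) h2)) h.odd
      · exact (Nat.prime_dvd_prime_iff_eq h.prime Nat.prime_three).1 h2
    have h12' : 4 * 3 ∣ Nat.card (centralizer ({t0} : Set G)) :=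
      Nat.Coprime.mul_dvd_of_dvd_of_dvd (by decide) h4 (hp3 ▸ hp)
    have htop : centralizer ({t0} : Set G) = ⊤ := by
      refine eq_top_of_card_eq _ (Nat.dvd_antisymm hd ?_)
      rw [h12]; exact h12'
    have hcen : t0 ∈ center G := mem_center_iff.2 fun g =>
      mem_centralizer_singleton_iff.1 (htop ▸ mem_top g)
    rw [CfsgLib.SelfCentralSimple.center_eq_bot h.noncomm, mem_bot] at hcen
    rw [hcen, orderOf_one] at ht0
    omega
  have hpow : 3 ∣ q → ∃ n, q = 3 ^ n := fun h3 => by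
    rw [← hqdef] at hj
    rw [hj] at h3 ⊢
    have := (Nat.prime_dvd_prime_iff_eq Nat.prime_three hcp).1 (Nat.prime_three.dvd_of_dvd_pow h3)
    exact ⟨j, by rw [← this]⟩
  have key := odd_cases h.prime h.odd hq2 hq5 hpow (fun d hd => hP.dvd_cases (hx ▸ hd))
    (fun d hd => hP.dvd_cases (hy ▸ hd))
  rcases key with e5 | e11 | e13 | ⟨n, r, s', hr, hs', e1, e2, e3⟩
  · exact Or.inr (Or.inl ⟨F, iF, iFt, Or.inl e5, ⟨e⟩⟩)
  · exact Or.inr (Or.inl ⟨F, iF, iFt, by simp [← hqdef, e11], ⟨e⟩⟩)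
  · exact Or.inr (Or.inl ⟨F, iF, iFt, by simp [← hqdef, e13], ⟨e⟩⟩)
  · exact Or.inr (Or.inr (Or.inr (Or.inr (Or.inl
      ⟨F, iF, iFt, n, r, s', hr, hs', e1, e2, e3, ⟨e⟩⟩))))

end CfsgLib.OneComposite
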