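import Cfsg.Agent.Lib.OneComposite.EvenBranch
import Cfsg.Agent.Lib.ClassicalGroups.SmallIso
import Cfsg.Agent.Lib.SuzukiGroup.SubgroupBasic
import Cfsg.Agent.S2497

/-!
At most one composite element order and an element of order `4`: the groups with all element orders
prime powers, without `PSL₂(17)` and `Sz(32)`.
-/

set_option autoImplicit false

open Subgroup Cfsg.Lie

namespace CfsgLib.OneComposite

theorem sz_thirty_two' {F : Type} [Field F] [Fintype F] (hF : Fintype.card F = 32) :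
    ∃ g : ↥(Sz F (2 ^ (2 + 1))), orderOf g = 25 := by
  have hF' : Fintype.card F = 2 ^ (2 * 2 + 1) := by rw [hF]; norm_num
  obtain ⟨hchar, ⟨P⟩⟩ := CfsgLib.SuzukiGroup.exists_params hF'
  have : CharP F 2 := hchar
  have : Fact (Nat.Prime 5) := ⟨by norm_num⟩
  have h25 : 5 ^ 2 ∣ Nat.card ↥(Sz F (2 ^ (2 + 1))) := by
    rw [CfsgLib.SuzukiGroup.card_sz P, hF]; norm_num
  obtain ⟨H, hH⟩ := Sylow.exists_subgroup_card_pow_prime 5 h25
  set M : Subgroup ↥(Sz F (2 ^ (2 + 1))) := ⊤ with hM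
  have hH' : IsPGroup 5 (H.subgroupOf M) := by
    refine IsPGroup.of_card (n := 2) ?_
    rw [Nat.card_congr (subgroupOfEquivOfLe (le_top : H ≤ M)).toEquiv, hH]
  obtain ⟨S, hS⟩ := hH'.exists_le_sylow
  have hcyc := CfsgLib.SuzukiGroup.sylow_odd_isCyclic P hF' (by norm_num) M (by norm_num) S
  have : IsCyclic (H.subgroupOf M) :=
    isCyclic_of_injective (Subgroup.inclusion hS) (Subgroup.inclusion_injective hS)
  obtain ⟨g, hg⟩ := IsCyclic.exists_generator (α := H.subgroupOf M)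
  refine ⟨((g : M) : ↥(Sz F (2 ^ (2 + 1)))), ?_⟩
  rw [Subgroup.orderOf_coe, Subgroup.orderOf_coe, orderOf_eq_card_of_forall_mem_zpowers hg,
    Nat.card_congr (subgroupOfEquivOfLe (le_top : H ≤ M)).toEquiv, hH]
  norm_num

theorem sz_thirty_two {F : Type} [Field F] [Fintype F] (hF : Fintype.card F = 32) :
    ∃ g : ↥(Sz F 8), orderOf g = 25 := by
  have key : ∀ e : ℕ, e = 2 ^ (2 + 1) → ∃ g : ↥(Sz F e), orderOf g = 25 := by
    rintro e rfl
    exact sz_thirty_two' hF
  exact key 8 (by norm_num)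

variable {G : Type*} [Group G] [Finite G] [IsSimpleGroup G] {n : ℕ}

theorem four_branch (h : Hyp G n) (hna : ¬ IsMulCommutative G) {x : G} (hx : orderOf x = 4) :
    Target G := by
  have hn : 4 = n := h.order_eq hx (by norm_num) (by decide)
  rcases Cfsg.Agent.S2497.result hna (h.isPrimePow_of_four hx) with
    ⟨⟨e⟩⟩ | ⟨F, iF, iFt, hq, ⟨e⟩⟩ | ⟨F, iF, iFt, hq, he⟩ | ⟨F, iF, iFt, ⟨hq, he⟩ | ⟨hq, ⟨e⟩⟩⟩
  · classical
    have : Fact (Nat.Prime 3) := ⟨Nat.prime_three⟩
    have iK : Fintype (GaloisField 3 2) := Fintype.ofFinite _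
    have hK : Fintype.card (GaloisField 3 2) = 9 := by
      rw [← Nat.card_eq_fintype_card, GaloisField.card 3 2 two_ne_zero]; norm_num
    obtain ⟨e'⟩ := CfsgLib.ClassicalGroups.psl_two_nine_alternating hK
    exact Or.inr (Or.inl ⟨GaloisField 3 2, inferInstance, iK, by simp [hK], ⟨e.trans e'.symm⟩⟩)
  · simp only [Finset.mem_insert, Finset.mem_singleton] at hq
    rcases hq with hq | hq | hq | hq
    · have : Fact (Nat.Prime 5) := ⟨by norm_num⟩
      classical
      have hcard : Nat.card G = 60 := by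
        have h1 := CfsgLib.ClassicalGroups.card_psl_two_gcd (K := F)
        rw [hq, ← Nat.card_congr e.toEquiv] at h1
        norm_num at h1
        exact h1
      exact Or.inr (Or.inl ⟨ZMod 5, inferInstance, inferInstance, Or.inl (by simp),
        CfsgLib.Small.nonempty_mulEquiv_psl_five hcard⟩)
    · exact Or.inr (Or.inl ⟨F, iF, iFt, by simp [hq], ⟨e⟩⟩)
    · exact Or.inr (Or.inl ⟨F, iF, iFt, by simp [hq], ⟨e⟩⟩)
    · exfalso
      obtain ⟨⟨y, hy⟩, -⟩ := exists_torus_orders F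
      rw [hq] at hy
      norm_num at hy
      have := (h.of_equiv e).order_eq hy (by norm_num) (by norm_num)
      omega
  · exact Or.inr (Or.inr (Or.inl ⟨F, iF, iFt, hq, he⟩))
  · exact Or.inr (Or.inr (Or.inr (Or.inl ⟨F, iF, iFt, hq, he⟩)))
  · exfalso
    obtain ⟨g, hg⟩ := sz_thirty_two hq
    have := (h.of_equiv e).order_eq hg (by norm_num) (by norm_num)
    omega

end CfsgLib.OneComposite
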