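import Cfsg.Agent.Lib.OneComposite.Big
import Cfsg.Agent.Lib.OneComposite.KleinPSL
import Cfsg.Agent.Lib.OneComposite.PrimePower

/-!
Finite simple groups with at most one composite element order.
-/

set_option autoImplicit false

open Subgroup

namespace CfsgLib.OneComposite

variable {G : Type*} [Group G] [Finite G] [IsSimpleGroup G] {n : ℕ}

theorem prime_card_of_comm (hc : IsMulCommutative G) : (Nat.card G).Prime := by
  let : CommGroup G := { (inferInstance : Group G) with mul_comm := fun a b => hc.is_comm.comm a b }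
  exact IsSimpleGroup.prime_card

theorem target (h : Hyp G n) (hna : ¬ IsMulCommutative G) : Target G := by
  have : Fact (Nat.Prime 2) := ⟨Nat.prime_two⟩
  by_cases h4 : ∃ x : G, orderOf x = 4
  · obtain ⟨x, hx⟩ := h4
    exact four_branch h hna hx
  push Not at h4
  by_cases h2 : ∀ t : G, orderOf t = 2 → IsPGroup 2 (centralizer ({t} : Set G))
  · exact even_branch h hna h4 h2
  push Not at h2
  obtain ⟨t, ht, hnp⟩ := h2
  obtain ⟨p, hp, hd, hp2⟩ : ∃ p : ℕ, p.Prime ∧ p ∣ Nat.card (centralizer ({t} : Set G)) ∧ p ≠ 2 := by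
    by_contra hcon
    push Not at hcon
    exact hnp (IsPGroup.of_card (Nat.eq_prime_pow_of_unique_prime_dvd Nat.card_pos.ne'
      fun {r} hr hd => hcon r hr hd))
  have := Fact.mk hp
  obtain ⟨⟨c, hc⟩, hco⟩ := exists_prime_orderOf_dvd_card' p hd
  rw [Subgroup.orderOf_mk] at hco
  have hcomm : Commute c t := mem_centralizer_singleton_iff.1 hc
  have hn : 2 * p = n := h.prime_mul_eq Nat.prime_two hp (Ne.symm hp2) ht hco hcomm.symm
  subst hn
  obtain ⟨E⟩ : Nonempty (Sylow 2 G) := inferInstance
  have hb : Base p E :=
    { prime := hp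
      odd := hp2
      hyp := h
      noncomm := hna
      four_le := four_le E
        (SelfCentralSimple.not_isCyclic_sylow hna (SelfCentralSimple.minFac_eq_two hna) E) }
  have hex : ∃ t c : G, orderOf t = 2 ∧ orderOf c = p ∧ Commute c t := ⟨t, c, ht, hco, hcomm⟩
  by_cases h4E : Nat.card (E : Subgroup G) = 4
  · exact Four.target { hb with four := h4E } hex
  · obtain ⟨k, hk⟩ := E.isPGroup'.exists_card_eq
    have h8 : 8 ≤ Nat.card (E : Subgroup G) := by
      have := hb.four_le
      rw [hk] at this h4E ⊢
      rcases k with _ | _ | _ | k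
      · norm_num at this
      · norm_num at this
      · norm_num at h4E
      · calc 8 = 2 ^ 3 := by norm_num
          _ ≤ _ := Nat.pow_le_pow_right two_pos (by omega)
    exact (Big.false { hb with eight := h8 } hex).elim

end CfsgLib.OneComposite
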