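import Cfsg.Agent.Lib.OneComposite.Fixed

/-!
Orders prime or `2p`: `N(E) / C(E)` cannot act regularly on the involutions of `E`.
-/

set_option autoImplicit false
set_option linter.unusedSectionVars false
set_option linter.style.haveILetI false

open Subgroup CfsgLib.Involutions CfsgLib.StrongEmbedding

namespace CfsgLib.OneComposite

universe u

variable {G : Type u} [Group G] [Finite G] {p : ℕ} {E : Sylow 2 G}

theorem normalizer_le_normalizer_centralizer (H : Subgroup G) :
    normalizer (H : Set G) ≤ normalizer ((centralizer (H : Set G) : Subgroup G) : Set G) := by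
  refine le_normalizer_iff.2 fun n hn x hx => mem_centralizer_iff.2 fun y hy => ?_
  have h1 := mem_centralizer_iff.1 hx _ ((mem_normalizer_iff''.1 hn y).1 hy)
  calc y * (n * x * n⁻¹) = n * ((n⁻¹ * y * n) * x) * n⁻¹ := by group
    _ = n * (x * (n⁻¹ * y * n)) * n⁻¹ := by rw [h1]
    _ = n * x * n⁻¹ * y := by group

variable [IsSimpleGroup G]

/-- An element of order `p` of `N(E)` centralises some element `≠ 1` of `K`. -/
theorem Base.exists_isK_commute (h : Base p E) {w a : G} (hw : IsK p E w) (hw1 : w ≠ 1)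
    (ha : a ∈ normalizer ((E : Subgroup G) : Set G)) (hap : a ^ p = 1) :
    ∃ v, IsK p E v ∧ v ≠ 1 ∧ Commute a v := by
  have := Fact.mk h.prime
  obtain ⟨K, hK, -⟩ := h.exists_complement
  have hKp : IsPGroup p K := fun x => ⟨1, Subtype.ext (by simpa using ((hK x).1 x.2).2)⟩
  have hP : IsPGroup p (zpowers a) := by
    rintro ⟨x, hx⟩
    obtain ⟨k, rfl⟩ := mem_zpowers_iff.1 hx
    refine ⟨1, Subtype.ext ?_⟩
    simp only [pow_one, SubgroupClass.coe_pow, OneMemClass.coe_one]
    rw [← zpow_natCast, ← zpow_mul, mul_comm, zpow_mul, zpow_natCast, hap, one_zpow]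
  have hmod := CfsgLib.Small.Mid.card_modEq_inf_centralizer hP (A := K) fun t ht x hx =>
    (hK _).2 (IsK.conj ((hK x).1 hx) (zpowers_le.2 ha ht))
  rcases Subgroup.bot_or_exists_ne_one (K ⊓ centralizer (zpowers a : Set G)) with e | ⟨t, ht, ht1⟩
  · rw [e, card_bot] at hmod
    obtain ⟨k, hk⟩ := hKp.exists_card_eq
    rcases k with _ | k
    · have hb := (Subgroup.card_eq_one).1 (hk.trans (pow_zero p))
      exact absurd (Subgroup.mem_bot.1 (hb ▸ (hK w).2 hw)) hw1
    · rw [hk, pow_succ] at hmod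
      have h1 := hmod.symm.trans ((Nat.modEq_zero_iff_dvd).2 (dvd_mul_left p _))
      exact absurd ((Nat.modEq_zero_iff_dvd).1 h1) h.prime.not_dvd_one
  · exact ⟨t, (hK t).1 ht.1, ht1, mem_centralizer_iff.1 ht.2 a (mem_zpowers a)⟩

/-- If the elements of order `p` commuting with `a` lie in a `p`-group centralising `a`, then `a`
fixes at most one point. -/
theorem Base.fix_subsingleton (h : Base p E) (sep : Sep p E) {w a : G} (hw : IsK p E w) (hw1 : w ≠ 1)
    (hap : a ^ p = 1) {R : Subgroup G} (hR : IsPGroup p R) (hRc : ∀ c ∈ R, Commute c a)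
    (hRall : ∀ c, Commute c a → c ^ p = 1 → c ∈ R)
    {y z : G ⧸ normalizer ((E : Subgroup G) : Set G)} (hy : a • y = y) (hz : a • z = z) : y = z := by
  have := Fact.mk h.prime
  let F := {x : G ⧸ normalizer ((E : Subgroup G) : Set G) // a • x = x}
  letI : MulAction R F :=
    { smul := fun c x => ⟨(c : G) • x.1, by rw [← mul_smul, ← (hRc c c.2).eq, mul_smul, x.2]⟩
      one_smul := fun x => Subtype.ext (one_smul G _)
      mul_smul := fun c d x => Subtype.ext (mul_smul (c : G) d _) }
  have hsmul : ∀ (c : R) (x : F), ((c • x : F) : G ⧸ _) = (c : G) • x.1 := fun _ _ => rfl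
  -- an element of `R` fixing exactly `x`
  have key : ∀ x : F, ∃ c : R, c • x = x ∧ ∀ x' : F, c • x' = x' → x' = x := by
    rintro ⟨x, hx⟩
    obtain ⟨g, rfl⟩ := QuotientGroup.mk_surjective x
    obtain ⟨v, hv, hv1, hcv⟩ := h.exists_isK_commute hw hw1 (a := g⁻¹ * a * g) (smul_mk_iff.1 hx)
      (by simpa [hap] using conj_pow (a := g⁻¹) (b := a) (i := p))
    have hca : Commute (g * v * g⁻¹) a := by
      show g * v * g⁻¹ * a = a * (g * v * g⁻¹)
      calc g * v * g⁻¹ * a = g * (v * (g⁻¹ * a * g)) * g⁻¹ := by group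
        _ = g * (g⁻¹ * a * g * v) * g⁻¹ := by rw [hcv.eq]
        _ = a * (g * v * g⁻¹) := by group
    refine ⟨⟨g * v * g⁻¹, hRall _ hca (by rw [conj_pow, hv.2, mul_one, mul_inv_cancel])⟩,
      Subtype.ext ((hsmul _ _).trans ?_), ?_⟩
    · rw [smul_mk_iff, show g⁻¹ * (g * v * g⁻¹) * g = v by group]
      exact centralizer_le_normalizer _ hv.1
    · rintro ⟨x', hx'⟩ hfix
      have h1 := congrArg Subtype.val hfix
      rw [hsmul] at h1
      obtain ⟨g', rfl⟩ := QuotientGroup.mk_surjective x'
      have h2 := sep v (g⁻¹ * g') hv hv1 (by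
        have := smul_mk_iff.1 h1
        rwa [show (g⁻¹ * g')⁻¹ * v * (g⁻¹ * g') = g'⁻¹ * (g * v * g⁻¹) * g' by group])
      exact Subtype.ext ((QuotientGroup.eq.2 h2).symm)
  by_contra hne
  have hfp : IsEmpty (MulAction.fixedPoints R F) := by
    refine ⟨fun ⟨x, hx⟩ => ?_⟩
    obtain ⟨x', hx'⟩ : ∃ x' : F, x' ≠ x := by
      by_cases e : (⟨y, hy⟩ : F) = x
      · exact ⟨⟨z, hz⟩, fun e' => hne (congrArg Subtype.val (e.trans e'.symm))⟩
      · exact ⟨_, e⟩
    obtain ⟨c, -, hc⟩ := key x'
    exact hx' (hc x (hx c)).symm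
  have h0 : Nat.card F ≡ 0 [MOD p] := by
    have := hR.card_modEq_card_fixedPoints F
    rwa [Nat.card_of_isEmpty (α := MulAction.fixedPoints R F)] at this
  obtain ⟨c, hc, hc'⟩ := key ⟨y, hy⟩
  have h1 : Nat.card F ≡ 1 [MOD p] := by
    have hcP := (hR.to_le (zpowers_le.2 c.2 : zpowers (c : G) ≤ R))
    letI : MulAction (zpowers (c : G)) F :=
      MulAction.compHom F (inclusion (zpowers_le.2 c.2 : zpowers (c : G) ≤ R))
    have h2 := hcP.card_modEq_card_fixedPoints F
    have h3 : MulAction.fixedPoints (zpowers (c : G)) F = {⟨y, hy⟩} := by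
      ext x
      constructor
      · intro hx
        exact hc' x (hx ⟨c, mem_zpowers _⟩)
      · intro hx g
        rw [Set.mem_singleton_iff] at hx
        subst hx
        obtain ⟨k, hk⟩ := mem_zpowers_iff.1 g.2
        have hg : inclusion (zpowers_le.2 c.2 : zpowers (c : G) ≤ R) g = c ^ k :=
          Subtype.ext (by simp [hk])
        show inclusion (zpowers_le.2 c.2 : zpowers (c : G) ≤ R) g • (⟨y, hy⟩ : F) = ⟨y, hy⟩
        rw [hg]
        exact MulAction.mem_stabilizer_iff.1 (zpow_mem (MulAction.mem_stabilizer_iff.2 hc) k)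
    rw [h3] at h2
    simpa using h2
  exact h.prime.not_dvd_one ((Nat.modEq_zero_iff_dvd).1 (h1.symm.trans h0))

/-- `N(E) / C(E)` is not regular on the involutions of `E`. -/
theorem SE.regular_false (h : SE p E)
    (hex : ∃ t c : G, orderOf t = 2 ∧ orderOf c = p ∧ Commute c t) {ℓ : ℕ} (hℓ : ℓ.Prime)
    (hℓ2 : ℓ ≠ 2)
    (hidx : (centralizer ((E : Subgroup G) : Set G)).relIndex (normalizer ((E : Subgroup G) : Set G)) = ℓ)
    (hC : ∀ t ∈ (E : Subgroup G), t ≠ 1 →
      centralizer ({t} : Set G) = centralizer ((E : Subgroup G) : Set G)) : False := by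
  classical
  have : Fact (Nat.Prime 2) := ⟨Nat.prime_two⟩
  have := Fact.mk h.prime
  set N := normalizer ((E : Subgroup G) : Set G) with hN
  set D := centralizer ((E : Subgroup G) : Set G) with hD
  have hED : (E : Subgroup G) ≤ D := fun x hx => mem_centralizer_iff.2 fun y hy => (h.comm hy hx).eq
  have hDN : D ≤ N := centralizer_le_normalizer _
  have sep := h.sep_regular hC
  obtain ⟨t0, ht0, ht01⟩ := h.exists_ne_one
  have hDexp : ∀ d ∈ D, d ^ (2 * p) = 1 := fun d hd =>
    h.pow_two_mul (h.inv ht0 ht01) (mem_centralizer_iff.1 hd t0 ht0).symm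
  obtain ⟨w, hw, hw1⟩ : ∃ w, IsK p E w ∧ w ≠ 1 := by
    obtain ⟨t, c, ht, hc, hct⟩ := hex
    obtain ⟨g, hg⟩ := isConj_iff.1 (isConj_involutions h.se ht (h.inv ht0 ht01))
    refine ⟨g * c * g⁻¹, ⟨?_, ?_⟩, ?_⟩
    · show g * c * g⁻¹ ∈ D
      rw [← hC t0 ht0 ht01, mem_centralizer_singleton_iff, ← hg]
      calc g * c * g⁻¹ * (g * t * g⁻¹) = g * (c * t) * g⁻¹ := by group
        _ = g * (t * c) * g⁻¹ := by rw [hct.eq]
        _ = g * t * g⁻¹ * (g * c * g⁻¹) := by group
    · rw [conj_pow, ← hc, pow_orderOf_eq_one, mul_one, mul_inv_cancel]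
    · rw [Ne, conj_eq_one_iff]
      intro e
      rw [e, orderOf_one] at hc
      exact h.prime.ne_one hc.symm
  have hDE : ∀ d ∈ D, d ^ p ∈ (E : Subgroup G) := fun d hd =>
    mem_E_of_normalizes (hDN (pow_mem hd p)) (by rw [← pow_add, ← two_mul]; exact hDexp d hd)
  have hnormal : (D.subgroupOf N).Normal :=
    normal_subgroupOf_of_le_normalizer (normalizer_le_normalizer_centralizer _)
  have hpow : ∀ c ∈ N, c ^ ℓ ∈ D := fun c hc => by
    have h1 := (D.subgroupOf N).pow_index_mem ⟨c, hc⟩
    rw [show (D.subgroupOf N).index = ℓ from hidx] at h1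
    exact h1
  have hcop : ∀ c ∈ N, ℓ.Coprime (orderOf c) → c ∈ D := fun c hc hco => by
    obtain ⟨k, hk⟩ := exists_pow_eq_self_of_coprime hco
    rw [← hk]
    exact pow_mem (hpow c hc) k
  obtain ⟨e0, he0, he01, he0t⟩ : ∃ e ∈ (E : Subgroup G), e ≠ 1 ∧ e ≠ t0 := by
    by_contra hcon
    push Not at hcon
    have hsub : ((E : Subgroup G) : Set G) ⊆ {1, t0} := fun x hx => by
      rcases eq_or_ne x 1 with e | e
      · exact Or.inl e
      · exact Or.inr (hcon x hx e)
    have := Set.ncard_le_ncard hsub (Set.toFinite _)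
    rw [Set.ncard_pair (Ne.symm ht01)] at this
    have h8 := h.four_le
    rw [← Nat.card_coe_set_eq] at this
    have h9 : Nat.card ((E : Subgroup G) : Set G) = Nat.card (E : Subgroup G) := rfl
    omega
  by_cases hℓp : ℓ = p
  swap
  · -- `C(E)` is trivial-intersection and nilpotent
    have hT : CIT.TI.Hyp N D :=
      { se := h.se
        le := hDN
        normal := normalizer_le_normalizer_centralizer _
        nilp := by
          obtain ⟨K, hK, hdec⟩ := h.exists_complement
          have hKp : IsPGroup p K := fun x => ⟨1, Subtype.ext (by simpa using ((hK x).1 x.2).2)⟩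
          have := hKp.isNilpotent
          have := E.isPGroup'.isNilpotent
          let f : Prod ↥(E : Subgroup G) ↥K →* D :=
            { toFun := fun x => ⟨x.1 * x.2, mul_mem (hED x.1.2) ((hK _).1 x.2.2).1⟩
              map_one' := Subtype.ext (by simp)
              map_mul' := fun x y => Subtype.ext (by
                show (x.1 : G) * y.1 * ((x.2 : G) * y.2) = x.1 * x.2 * (y.1 * y.2)
                have h1 : (y.1 : G) * x.2 = x.2 * y.1 :=
                  mem_centralizer_iff.1 ((hK _).1 x.2.2).1 _ y.1.2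
                simp only [mul_assoc]
                congr 1
                rw [← mul_assoc, h1, mul_assoc]) }
          refine Group.nilpotent_of_surjective f ?_
          rintro ⟨d, hd⟩
          obtain ⟨e, he, k, hk, rfl⟩ := hdec d hd
          exact ⟨(⟨e, he⟩, ⟨k, hk⟩), rfl⟩
        two := fun x hx hx2 => hED (mem_E_of_normalizes hx (mul_self_eq_one hx2))
        ti := fun g x hx hx1 hgx => by
          rcases eq_or_ne (x ^ p) 1 with e | e
          · exact sep x g ⟨hx, e⟩ hx1 (hDN hgx)
          · refine se_mem_of_conj_mem h.se (le_normalizer (hDE x hx))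
              (h.inv (hDE x hx) e) ?_
            have h1 := hDN (pow_mem hgx p)
            rwa [show (g⁻¹ * x * g) ^ p = g⁻¹ * x ^ p * g by
              simpa using conj_pow (a := g⁻¹) (b := x) (i := p)] at h1
        cent := fun x hx hx1 c hc => by
          rcases eq_or_ne (x ^ p) 1 with e | e
          · refine hcop c (h.centralizer_le_of_isK ⟨hx, e⟩ hx1 (mem_centralizer_singleton_iff.2 hc.eq))
              (Nat.Coprime.coprime_dvd_right (orderOf_dvd_of_pow_eq_one (h.pow_of_commute e hx1 hc)) ?_)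
            exact Nat.Coprime.mul_right ((Nat.coprime_primes hℓ Nat.prime_two).2 hℓ2)
              ((Nat.coprime_primes hℓ h.prime).2 hℓp)
          · show c ∈ D
            rw [← hC _ (hDE x hx) e, mem_centralizer_singleton_iff]
            exact (hc.pow_right p).eq
        many := ⟨t0, e0, le_normalizer ht0, le_normalizer he0, h.inv ht0 ht01, h.inv he0 he01,
          he0t.symm⟩ }
    obtain ⟨-, h2, -, -⟩ := CIT.TI.main hT
    obtain ⟨k, hk⟩ := h2 ⟨w, hw.1⟩
    have h3 : orderOf w ∣ 2 ^ k := orderOf_dvd_of_pow_eq_one (congrArg Subtype.val hk)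
    rw [h.orderOf_p hw.2 hw1] at h3
    exact h.odd ((Nat.prime_dvd_prime_iff_eq h.prime Nat.prime_two).1 (h.prime.dvd_of_dvd_pow h3))
  -- `ℓ = p`: the fixed points of an element of a two-point stabiliser
  rw [hℓp] at hcop
  obtain ⟨y, hy⟩ : ∃ y : G ⧸ N, y ≠ base E := by
    obtain ⟨u, -, huN⟩ := exists_involution_notMem h.se
    exact ⟨u, mt mk_eq_base_iff.1 huN⟩
  obtain ⟨⟨r, hr, hry⟩, ⟨r', hr', hr'y⟩, hrr⟩ :
      ∃ a b : {i : G // orderOf i = 2 ∧ i • base E = y}, a ≠ b := by
    have hcard := card_swapping h.se hy.symm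
    have h2 : 1 < Nat.card {t : G // orderOf t = 2 ∧ t ∈ N} := by
      rw [Finite.one_lt_card_iff_nontrivial]
      exact ⟨⟨t0, h.inv ht0 ht01, le_normalizer ht0⟩, ⟨e0, h.inv he0 he01, le_normalizer he0⟩,
        fun e => he0t (congrArg Subtype.val e).symm⟩
    rw [← hcard, Finite.one_lt_card_iff_nontrivial] at h2
    exact h2.exists_pair_ne
  set a := r * r' with ha
  have hay0 : a • base E = base E := by
    rw [ha, mul_smul, hr'y, ← hry, smul_self_of_involution hr]
  have hay : a • y = y := by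
    have h1 : r' • y = base E := by rw [← hr'y, smul_self_of_involution hr']
    rw [ha, mul_smul, h1, hry]
  have haN : a ∈ N := smul_base_iff.1 hay0
  have ha1 : a ≠ 1 := fun e => hrr (Subtype.ext
    ((eq_inv_of_mul_eq_one_left e).trans (inv_eq_self_of_involution hr')))
  have hfixE : ∀ e ∈ (E : Subgroup G), e • y = y → e = 1 := fun e he hey => by
    by_contra he1
    exact hy (fixed_unique h.se (h.inv he he1) hey (smul_base_iff.2 (le_normalizer he)))
  have hsmulp : ∀ k : ℕ, a ^ k • y = y := fun k =>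
    MulAction.mem_stabilizer_iff.1 (pow_mem (MulAction.mem_stabilizer_iff.2 hay) k)
  have haD : a ∉ D := fun haD => hy (sep.eq_base ⟨haD, hfixE _ (hDE a haD) (hsmulp _)⟩ ha1 hay)
  have hap : a ^ p = 1 := by
    rcases h.hyp a ha1 with hr0 | hr0
    · have : orderOf a = p := by
        by_contra hne
        exact haD (hcop a haN ((Nat.coprime_primes h.prime hr0).2 (Ne.symm hne)))
      exact this ▸ pow_orderOf_eq_one a
    · refine hfixE _ (mem_E_of_normalizes (pow_mem haN p) ?_) (hsmulp p)
      rw [← pow_add, ← two_mul, ← hr0, pow_orderOf_eq_one]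
  -- `C(a)` is a `p`-group
  have hodd : ∀ c, Commute c a → c ^ p = 1 := by
    intro c hc
    by_contra hcp
    have hs2 : orderOf (c ^ p) = 2 := orderOf_eq_prime
      (by rw [← pow_mul, mul_comm]; exact h.pow_of_commute hap ha1 hc) hcp
    set s := c ^ p with hs
    have hsa : Commute s a := hc.pow_left p
    obtain ⟨z, hz⟩ := exists_fixed h.se hs2
    obtain ⟨g, rfl⟩ := QuotientGroup.mk_surjective z
    have htE : g⁻¹ * s * g ∈ (E : Subgroup G) := mem_E_of_normalizes (smul_mk_iff.1 hz)
      (mul_self_eq_one (by simpa using (orderOf_conj_eq g⁻¹ s).trans hs2))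
    have ht1 : g⁻¹ * s * g ≠ 1 := fun e => by
      have : orderOf (g⁻¹ * s * g) = 2 := by simpa using (orderOf_conj_eq g⁻¹ s).trans hs2
      rw [e, orderOf_one] at this
      omega
    have haK : IsK p E (g⁻¹ * a * g) := by
      refine ⟨?_, by simpa [hap] using conj_pow (a := g⁻¹) (b := a) (i := p)⟩
      show g⁻¹ * a * g ∈ D
      rw [← hC _ htE ht1, mem_centralizer_singleton_iff]
      calc g⁻¹ * a * g * (g⁻¹ * s * g) = g⁻¹ * (a * s) * g := by group
        _ = g⁻¹ * (s * a) * g := by rw [hsa.eq]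
        _ = g⁻¹ * s * g * (g⁻¹ * a * g) := by group
    have ha'1 : g⁻¹ * a * g ≠ 1 := fun e => ha1 (by
      calc a = g * (g⁻¹ * a * g) * g⁻¹ := by group
        _ = 1 := by rw [e]; simp)
    have hg := sep _ g⁻¹ haK ha'1 (by rw [show g⁻¹⁻¹ * (g⁻¹ * a * g) * g⁻¹ = a by group]; exact haN)
    have h5 := haK.conj (inv_mem_iff.1 hg)
    rw [show g * (g⁻¹ * a * g) * g⁻¹ = a by group] at h5
    exact haD h5.1
  refine hy (h.fix_subsingleton sep hw hw1 hap (R := centralizer ({a} : Set G))
    (fun x => ⟨1, Subtype.ext (by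
      simpa using hodd x (mem_centralizer_singleton_iff.1 x.2))⟩)
    (fun c hc => mem_centralizer_singleton_iff.1 hc)
    (fun c hc _ => mem_centralizer_singleton_iff.2 hc.eq) hay hay0)

end CfsgLib.OneComposite
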