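import Cfsg.Agent.Lib.OneComposite.Regular

/-!
Orders prime or `2p` and `N(E) / C(E)` of order `ℓ p`, `ℓ = 2ᵖ - 1`: the elements of order `p` of
`N(E)` outside the normal subgroup `M₀` of index `p`, their centralisers and fixed points.
-/

set_option autoImplicit false
set_option linter.unusedSectionVars false
set_option linter.style.haveILetI false

open Subgroup CfsgLib.Involutions CfsgLib.StrongEmbedding

namespace CfsgLib.OneComposite

universe u

variable {G : Type u} [Group G] [Finite G] {p : ℕ} {E : Sylow 2 G}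

/-- An element of order `p` of a subgroup that fixes only the base coset survives the transfer. -/
theorem transfer_false [IsSimpleGroup G] (hna : ¬ IsMulCommutative G) {q : ℕ} [hq : Fact q.Prime]
    {N : Subgroup G} {A : Type*} [CommGroup A] (φ : N →* A) {y : G} (hy : y ∈ N) (hyq : y ^ q = 1)
    (hφ : φ ⟨y, hy⟩ ≠ 1) (hfix : ∀ z : G ⧸ N, y • z = z → z = ((1 : G) : G ⧸ N)) : False := by
  classical
  have := Fintype.ofFinite (Quotient (MulAction.orbitRel (zpowers y) (G ⧸ N)))
  have hy0 : y • ((1 : G) : G ⧸ N) = ((1 : G) : G ⧸ N) := mem_iff_smul_base.1 hy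
  have htr : MonoidHom.transfer φ y = φ ⟨y, hy⟩ := by
    rw [MonoidHom.transfer_eq_prod_quotient_orbitRel_zpowers_quot,
      Fintype.prod_eq_single (Quotient.mk'' ((1 : G) : G ⧸ N))]
    · have hout : (Quotient.out (Quotient.mk'' ((1 : G) : G ⧸ N) :
          Quotient (MulAction.orbitRel (zpowers y) (G ⧸ N)))) = ((1 : G) : G ⧸ N) := by
        have h1 := Quotient.mk_out (s := MulAction.orbitRel (zpowers y) (G ⧸ N)) ((1 : G) : G ⧸ N)
        rw [MulAction.orbitRel_apply] at h1
        obtain ⟨⟨g, hg⟩, hg'⟩ := h1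
        refine hg'.symm.trans ?_
        show g • ((1 : G) : G ⧸ N) = ((1 : G) : G ⧸ N)
        exact mem_iff_smul_base.1 (zpowers_le.2 hy hg)
      simp only [hout]
      have hper : Function.minimalPeriod (y • ·) ((1 : G) : G ⧸ N) = 1 :=
        Function.minimalPeriod_eq_one_iff_isFixedPt.2 hy0
      have ho : (Quotient.out ((1 : G) : G ⧸ N) : G) ∈ N := by
        have h1 := QuotientGroup.out_eq' ((1 : G) : G ⧸ N)
        rwa [QuotientGroup.eq, mul_one, inv_mem_iff] at h1
      simp only [hper, pow_one]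
      refine (congrArg φ (show _ = (⟨_, ho⟩ : N)⁻¹ * ⟨y, hy⟩ * ⟨_, ho⟩ from Subtype.ext rfl)).trans ?_
      rw [map_mul, map_mul, map_inv, mul_comm, mul_inv_cancel_left]
    · intro o ho
      have hne : o.out ≠ ((1 : G) : G ⧸ N) := fun e => ho (by rw [← e, Quotient.out_eq'])
      have hnfix : ¬ Function.IsFixedPt (y • ·) o.out := fun e => hne (hfix _ e)
      have hper : Function.minimalPeriod (y • ·) o.out = q := by
        refine Function.minimalPeriod_eq_prime ?_ hnfix
        show (y • ·)^[q] o.out = o.out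
        rw [smul_iterate, hyq]
        exact one_smul G o.out
      refine (congrArg φ (Subtype.ext ?_)).trans (map_one φ)
      show _ * y ^ Function.minimalPeriod (y • ·) o.out * _ = 1
      rw [hper, hyq, mul_one, inv_mul_cancel]
  rcases (MonoidHom.normal_ker (MonoidHom.transfer φ)).eq_bot_or_eq_top with e | e
  · refine hna ⟨⟨fun a b => ?_⟩⟩
    refine (MonoidHom.ker_eq_bot_iff _).1 e ?_
    rw [map_mul, map_mul, mul_comm]
  · have h1 : y ∈ (MonoidHom.transfer φ).ker := e ▸ mem_top y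
    rw [MonoidHom.mem_ker, htr] at h1
    exact hφ h1

/-- The subgroup of index `p` of `N(E)`. -/
structure IsM (p : ℕ) (E : Sylow 2 G) (M : Subgroup G) : Prop where
  le : M ≤ normalizer ((E : Subgroup G) : Set G)
  centralizer_le : centralizer ((E : Subgroup G) : Set G) ≤ M
  normal : (M.subgroupOf (normalizer ((E : Subgroup G) : Set G))).Normal
  index : M.relIndex (normalizer ((E : Subgroup G) : Set G)) = p
  pow_mem : ∀ m ∈ M, m ^ (2 ^ p - 1) ∈ centralizer ((E : Subgroup G) : Set G)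
  ne : ¬ M ≤ centralizer ((E : Subgroup G) : Set G)

theorem lt_mersenne (h : 3 ≤ p) : p < 2 ^ p - 1 := by
  have := Nat.lt_two_pow_self (n := p - 1)
  have : 2 ^ p = 2 * 2 ^ (p - 1) := by rw [← pow_succ', Nat.sub_add_cancel (by omega)]
  omega

theorem Big.three_le (h : Big p E) : 3 ≤ p := by
  have := h.prime.two_le
  have := h.odd
  omega

theorem Big.exists_isM (h : Big p E) (hℓ : (2 ^ p - 1).Prime)
    (hidx : (centralizer ((E : Subgroup G) : Set G)).relIndex (normalizer ((E : Subgroup G) : Set G)) =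
      (2 ^ p - 1) * p) : ∃ M : Subgroup G, IsM p E M := by
  set N := normalizer ((E : Subgroup G) : Set G) with hN
  set D := centralizer ((E : Subgroup G) : Set G) with hD
  set ℓ := 2 ^ p - 1 with hℓdef
  have hpℓ : p < ℓ := lt_mersenne h.three_le
  have := Fact.mk hℓ
  have : (D.subgroupOf N).Normal :=
    normal_subgroupOf_of_le_normalizer (normalizer_le_normalizer_centralizer _)
  have hQ : Nat.card (N ⧸ D.subgroupOf N) = ℓ * p := hidx
  obtain ⟨P⟩ : Nonempty (Sylow ℓ (N ⧸ D.subgroupOf N)) := inferInstance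
  have hcop : ¬ ℓ ∣ p := fun e => by
    have := Nat.le_of_dvd h.prime.pos e
    omega
  have hP : Nat.card P = ℓ := by
    rw [P.card_eq_multiplicity, hQ, Nat.factorization_mul hℓ.pos.ne' h.prime.pos.ne']
    simp [hℓ.factorization_self, Nat.factorization_eq_zero_of_not_dvd hcop]
  have hPi : (P : Subgroup (N ⧸ D.subgroupOf N)).index = p := by
    have h1 := (P : Subgroup (N ⧸ D.subgroupOf N)).card_mul_index
    rw [hP, hQ] at h1
    exact Nat.eq_of_mul_eq_mul_left hℓ.pos h1
  have hc1 : Nat.card (Sylow ℓ (N ⧸ D.subgroupOf N)) = 1 := by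
    have h1 := card_sylow_modEq_one ℓ (N ⧸ D.subgroupOf N)
    have h2 := P.card_dvd_index
    rw [hPi] at h2
    have h3 := Nat.le_of_dvd h.prime.pos h2
    exact (h1.eq_of_lt_of_lt (by omega) hℓ.one_lt)
  have hPn : (P : Subgroup (N ⧸ D.subgroupOf N)).Normal := by
    have : Subsingleton (Sylow ℓ (N ⧸ D.subgroupOf N)) := (Nat.card_eq_one_iff_unique.1 hc1).1
    exact P.normal_of_subsingleton
  set f := QuotientGroup.mk' (D.subgroupOf N)
  refine ⟨((P : Subgroup (N ⧸ D.subgroupOf N)).comap f).map N.subtype, map_subtype_le _, ?_, ?_, ?_, ?_, ?_⟩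
  · intro d hd
    have hdN : d ∈ N := centralizer_le_normalizer _ hd
    refine ⟨⟨d, hdN⟩, ?_, rfl⟩
    rw [SetLike.mem_coe, mem_comap,
      show f ⟨d, hdN⟩ = 1 from (QuotientGroup.eq_one_iff _).2 hd]
    exact one_mem _
  · rw [subgroupOf, comap_map_eq_self_of_injective N.subtype_injective]
    exact hPn.comap f
  · rw [relIndex, subgroupOf, comap_map_eq_self_of_injective N.subtype_injective,
      index_comap_of_surjective _ (QuotientGroup.mk'_surjective _), hPi]
  · rintro _ ⟨m, hm, rfl⟩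
    have h1 : f (m ^ ℓ) = 1 := by
      rw [map_pow, ← orderOf_dvd_iff_pow_eq_one, ← hP]
      exact Subgroup.orderOf_dvd_natCard _ (mem_comap.1 hm)
    exact mem_subgroupOf.1 ((QuotientGroup.eq_one_iff _).1 h1)
  · intro hle
    have h1 : (P : Subgroup (N ⧸ D.subgroupOf N)) = ⊥ := by
      rw [eq_bot_iff]
      intro x hx
      obtain ⟨m, rfl⟩ := QuotientGroup.mk'_surjective (D.subgroupOf N) x
      exact mem_bot.2 ((QuotientGroup.eq_one_iff _).2 (hle ⟨m, hx, rfl⟩))
    rw [h1, card_bot] at hP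
    exact hℓ.ne_one hP.symm

theorem IsM.pow_p_mem {M : Subgroup G} (hM : IsM p E M) {n : G}
    (hn : n ∈ normalizer ((E : Subgroup G) : Set G)) : n ^ p ∈ M := by
  have := hM.normal
  have h1 := (M.subgroupOf (normalizer ((E : Subgroup G) : Set G))).pow_index_mem ⟨n, hn⟩
  rw [show (M.subgroupOf (normalizer ((E : Subgroup G) : Set G))).index = p from hM.index] at h1
  exact h1

theorem IsM.mem_of_pow {M : Subgroup G} (hM : IsM p E M) {n : G}
    (hn : n ∈ normalizer ((E : Subgroup G) : Set G)) {k : ℕ} (hk : n ^ k ∈ M) (hco : k.Coprime p) :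
    n ∈ M := by
  obtain ⟨a, b, hab⟩ := (Int.isCoprime_iff_gcd_eq_one.2 hco : IsCoprime (k : ℤ) (p : ℤ))
  have : n = (n ^ k) ^ a * (n ^ p) ^ b := by
    rw [← zpow_natCast, ← zpow_natCast, ← zpow_mul, ← zpow_mul, ← zpow_add,
      show (k : ℤ) * a + (p : ℤ) * b = 1 by linarith, zpow_one]
  exact this ▸ mul_mem (zpow_mem hk a) (zpow_mem (hM.pow_p_mem hn) b)

variable {M : Subgroup G} [IsSimpleGroup G]

/-- An element of order `p` in `N(E)` outside `M`. -/
theorem Big.exists_outside (h : Big p E) (hM : IsM p E M) :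
    ∃ y, y ∈ normalizer ((E : Subgroup G) : Set G) ∧ y ^ p = 1 ∧ y ∉ M := by
  obtain ⟨c, hc, hcM⟩ : ∃ c, c ∈ normalizer ((E : Subgroup G) : Set G) ∧ c ∉ M := by
    by_contra hcon
    push Not at hcon
    have h1 := hM.index
    rw [relIndex_eq_one.2 hcon] at h1
    exact h.prime.ne_one h1.symm
  have hc1 : c ≠ 1 := fun e => hcM (e ▸ one_mem M)
  rcases h.hyp c hc1 with hr | hr
  · by_cases e : orderOf c = p
    · exact ⟨c, hc, e ▸ pow_orderOf_eq_one c, hcM⟩
    · exact absurd (hM.mem_of_pow hc (k := orderOf c) (by rw [pow_orderOf_eq_one]; exact one_mem M)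
        ((Nat.coprime_primes hr h.prime).2 e)) hcM
  · exact ⟨c ^ 2, pow_mem hc 2, by rw [← pow_mul, ← hr, pow_orderOf_eq_one], fun e =>
      hcM (hM.mem_of_pow hc e ((Nat.coprime_primes Nat.prime_two h.prime).2 (Ne.symm h.odd)))⟩

/-- Elements of `M` centralising an involution of `E` centralise `E`. -/
theorem Big.mem_centralizer_of_commute (h : Big p E) (hM : IsM p E M) (hℓ : (2 ^ p - 1).Prime)
    {m t : G} (hm : m ∈ M) (ht : t ∈ (E : Subgroup G)) (ht1 : t ≠ 1) (hc : Commute m t) :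
    m ∈ centralizer ((E : Subgroup G) : Set G) := by
  have := Fact.mk hℓ
  set D := centralizer ((E : Subgroup G) : Set G) with hD
  by_contra hmD
  have hnM : (D.subgroupOf M).Normal :=
    normal_subgroupOf_of_le_normalizer (hM.le.trans (normalizer_le_normalizer_centralizer _))
  have hcyc : ∀ x ∈ M, ∃ d ∈ D, ∃ k : ℤ, x = d * m ^ k := by
    intro x hx
    set Q := M ⧸ D.subgroupOf M
    -- all of `M` is generated by `D` and `m`
    have hQp : IsPGroup (2 ^ p - 1) Q := fun z => by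
      obtain ⟨z, rfl⟩ := QuotientGroup.mk_surjective z
      exact ⟨1, by rw [pow_one, ← QuotientGroup.mk_pow, QuotientGroup.eq_one_iff]; exact hM.pow_mem _ z.2⟩
    obtain ⟨j, hj⟩ := hQp.exists_card_eq
    have hj1 : Nat.card Q ∣ (2 ^ p - 1) * p := by
      have h1 : (D.relIndex M) * M.relIndex (normalizer ((E : Subgroup G) : Set G)) =
          D.relIndex (normalizer ((E : Subgroup G) : Set G)) := relIndex_mul_relIndex D M _ hM.centralizer_le hM.le
      have h2 : D.relIndex (normalizer ((E : Subgroup G) : Set G)) ∣ (2 ^ p - 1) * p := by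
        obtain ⟨m', hm', -, -, hE', hcase⟩ := h.cases
        rcases hcase with ⟨e1, hC⟩ | ⟨-, e1⟩
        · exfalso
          refine hmD ?_
          show m ∈ D
          rw [hD, ← hC t ht ht1, mem_centralizer_singleton_iff]
          exact hc.eq
        · rw [e1]
      exact (Dvd.intro _ h1).trans h2
    have hj2 : j ≤ 1 := by
      by_contra hlt
      have h3 : (2 ^ p - 1) ^ 2 ∣ (2 ^ p - 1) * p :=
        ((pow_dvd_pow _ (show 2 ≤ j by omega)).trans (hj ▸ dvd_rfl)).trans hj1
      rw [pow_two] at h3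
      have := Nat.le_of_dvd h.prime.pos ((Nat.mul_dvd_mul_iff_left hℓ.pos).1 h3)
      have := lt_mersenne h.three_le
      omega
    have hmne : (QuotientGroup.mk ⟨m, hm⟩ : Q) ≠ 1 := fun e => hmD (mem_subgroupOf.1 ((QuotientGroup.eq_one_iff _).1 e))
    have hzero : j = 1 := by
      rcases Nat.le_one_iff_eq_zero_or_eq_one.1 hj2 with e | e
      · rw [e, pow_zero, Nat.card_eq_one_iff_unique] at hj
        exact absurd (hj.1.elim _ _) hmne
      · exact e
    rw [hzero, pow_one] at hj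
    obtain ⟨k, hk⟩ := mem_zpowers_iff.1 (mem_zpowers_of_prime_card hj hmne
      (g' := (QuotientGroup.mk ⟨x, hx⟩ : Q)))
    refine ⟨x * (m ^ k)⁻¹, ?_, k, by group⟩
    rw [← QuotientGroup.mk_zpow, eq_comm, QuotientGroup.eq] at hk
    have h3 : x⁻¹ * m ^ k ∈ D := by simpa [mem_subgroupOf] using hk
    have h4 := (mem_normalizer_iff.1
      (normalizer_le_normalizer_centralizer (E : Subgroup G) (hM.le hx)) _).1 (inv_mem h3)
    rwa [show x * (x⁻¹ * m ^ k)⁻¹ * x⁻¹ = x * (m ^ k)⁻¹ by group] at h4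
  have hfix : ∀ x ∈ M, Commute x t := by
    intro x hx
    obtain ⟨d, hd, k, rfl⟩ := hcyc x hx
    exact (Commute.symm (mem_centralizer_iff.1 hd t ht)).mul_left (hc.zpow_left k)
  refine hM.ne fun x hx => mem_centralizer_iff.2 fun e he => ?_
  rcases eq_or_ne e 1 with rfl | he1
  · simp
  obtain ⟨n, hn, rfl⟩ := h.transitive ht ht1 he he1
  have := hM.normal
  have h1 : n⁻¹ * x * n ∈ M := by
    have := this.conj_mem ⟨x, hM.le hx⟩ hx ⟨n, hn⟩⁻¹
    simpa [mem_subgroupOf] using this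
  have h2 := (hfix _ h1).eq
  calc n * t * n⁻¹ * x = n * (t * (n⁻¹ * x * n)) * n⁻¹ := by group
    _ = n * (n⁻¹ * x * n * t) * n⁻¹ := by rw [h2]
    _ = x * (n * t * n⁻¹) := by group

/-- `N(E) = M ⟨y⟩`. -/
theorem Big.exists_mul (h : Big p E) (hM : IsM p E M) {y : G}
    (hy : y ∈ normalizer ((E : Subgroup G) : Set G)) (hyM : y ∉ M) {n : G}
    (hn : n ∈ normalizer ((E : Subgroup G) : Set G)) : ∃ m ∈ M, ∃ k : ℤ, n = m * y ^ k := by
  have := Fact.mk h.prime
  have := hM.normal
  set N := normalizer ((E : Subgroup G) : Set G)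
  obtain ⟨k, hk⟩ := mem_zpowers_iff.1 (mem_zpowers_of_prime_card
    (show Nat.card (N ⧸ M.subgroupOf N) = p from hM.index)
    (g := (QuotientGroup.mk ⟨y, hy⟩ : N ⧸ M.subgroupOf N))
    (fun e => hyM (mem_subgroupOf.1 ((QuotientGroup.eq_one_iff _).1 e)))
    (g' := (QuotientGroup.mk ⟨n, hn⟩ : N ⧸ M.subgroupOf N)))
  refine ⟨n * (y ^ k)⁻¹, ?_, k, by group⟩
  rw [← QuotientGroup.mk_zpow, eq_comm, QuotientGroup.eq] at hk
  have h3 := this.conj_mem _ hk ⟨n, hn⟩
  have h4 : n * (n⁻¹ * y ^ k) * n⁻¹ ∈ M := by simpa [mem_subgroupOf] using h3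
  rw [show n * (n⁻¹ * y ^ k) * n⁻¹ = y ^ k * n⁻¹ by group] at h4
  simpa using inv_mem h4

/-- An element outside `M` centralises at most one involution of `E`. -/
theorem Big.unique_commute (h : Big p E) (hM : IsM p E M) (hℓ : (2 ^ p - 1).Prime)
    (hE : Nat.card (E : Subgroup G) = 2 ^ p) {y s t : G}
    (hy : y ∈ normalizer ((E : Subgroup G) : Set G)) (hyM : y ∉ M)
    (ht : t ∈ (E : Subgroup G)) (ht1 : t ≠ 1) (hs : s ∈ (E : Subgroup G)) (hs1 : s ≠ 1)
    (hyt : Commute y t) (hys : Commute y s) : s = t := by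
  classical
  by_contra hne
  set N := normalizer ((E : Subgroup G) : Set G) with hN
  set D := centralizer ((E : Subgroup G) : Set G) with hD
  set ℓ := 2 ^ p - 1 with hℓdef
  obtain ⟨n, hn, hns⟩ := h.transitive ht ht1 hs hs1
  obtain ⟨m, hm, k, rfl⟩ := h.exists_mul hM hy hyM hn
  have hms : m * t * m⁻¹ = s := by
    rw [← hns]
    calc m * t * m⁻¹ = m * (t * y ^ k) * (y ^ k)⁻¹ * m⁻¹ := by group
      _ = m * (y ^ k * t) * (y ^ k)⁻¹ * m⁻¹ := by rw [(hyt.zpow_left k).eq]
      _ = _ := by group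
  have hmD : m ∉ D := fun e => hne (by
    rw [← hms, ← mem_centralizer_iff.1 e t ht, mul_inv_cancel_right])
  -- `y` fixes `m ^ i t m ^ -i` for every `i`
  set c := y⁻¹ * m⁻¹ * y * m with hcdef
  have hcM : c ∈ M := by
    have := hM.normal.conj_mem ⟨m⁻¹, hM.le (inv_mem hm)⟩ (inv_mem hm) (⟨y, hy⟩ : N)⁻¹
    have h2 : y⁻¹ * m⁻¹ * y ∈ M := by simpa [mem_subgroupOf] using this
    exact mul_mem h2 hm
  have hct : Commute c t := by
    have h1 : m⁻¹ * y * m * t = t * (m⁻¹ * y * m) := by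
      calc m⁻¹ * y * m * t = m⁻¹ * (y * s) * m := by rw [← hms]; group
        _ = m⁻¹ * (s * y) * m := by rw [hys.eq]
        _ = t * (m⁻¹ * y * m) := by rw [← hms]; group
    show c * t = t * c
    calc c * t = y⁻¹ * (m⁻¹ * y * m * t) := by rw [hcdef]; group
      _ = y⁻¹ * (t * (m⁻¹ * y * m)) := by rw [h1]
      _ = (y⁻¹ * t) * (m⁻¹ * y * m) := by group
      _ = (t * y⁻¹) * (m⁻¹ * y * m) := by rw [hyt.inv_left.eq]
      _ = t * c := by rw [hcdef]; group
  have hcD : c ∈ D := h.mem_centralizer_of_commute hM hℓ hcM ht ht1 hct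
  have hfix : ∀ i : ℕ, Commute y (m ^ i * t * (m ^ i)⁻¹) := by
    intro i
    induction i with
    | zero => simpa using hyt
    | succ i ih =>
      set u := m ^ i * t * (m ^ i)⁻¹ with hu
      have huE : u ∈ (E : Subgroup G) := (mem_normalizer_iff.1 (pow_mem (hM.le hm) i) t).1 ht
      have h1 : u * c = c * u := mem_centralizer_iff.1 hcD u huE
      show y * (m ^ (i + 1) * t * (m ^ (i + 1))⁻¹) = m ^ (i + 1) * t * (m ^ (i + 1))⁻¹ * y
      have h2 : m ^ (i + 1) * t * (m ^ (i + 1))⁻¹ = m * u * m⁻¹ := by rw [hu, pow_succ']; group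
      rw [h2]
      calc y * (m * u * m⁻¹) = m * (y * (c * u) * m⁻¹) := by rw [hcdef]; group
        _ = m * (y * (u * c) * m⁻¹) := by rw [h1]
        _ = m * ((y * u) * c * m⁻¹) := by group
        _ = m * ((u * y) * c * m⁻¹) := by rw [ih.eq]
        _ = m * u * m⁻¹ * y := by rw [hcdef]; group
  have hinj : Function.Injective (fun i : Fin ℓ => (⟨⟨m ^ (i : ℕ) * t * (m ^ (i : ℕ))⁻¹,
      (mem_normalizer_iff.1 (pow_mem (hM.le hm) i) t).1 ht⟩, fun e => ht1 (by
        have := congrArg Subtype.val e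
        simpa using this)⟩ : {x : (E : Subgroup G) // x ≠ 1})) := by
    intro i j hij
    have h1 : m ^ (i : ℕ) * t * (m ^ (i : ℕ))⁻¹ = m ^ (j : ℕ) * t * (m ^ (j : ℕ))⁻¹ :=
      congrArg (fun x : {x : (E : Subgroup G) // x ≠ 1} => ((x.1 : (E : Subgroup G)) : G)) hij
    by_contra hne'
    have h2 : m ^ ((i : ℤ) - j) ∈ D := by
      refine h.mem_centralizer_of_commute hM hℓ (zpow_mem hm _) ht ht1 ?_
      show m ^ ((i : ℤ) - j) * t = t * m ^ ((i : ℤ) - j)
      rw [zpow_sub, zpow_natCast, zpow_natCast]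
      calc m ^ (i : ℕ) * (m ^ (j : ℕ))⁻¹ * t
          = (m ^ (j : ℕ))⁻¹ * (m ^ (i : ℕ) * t * (m ^ (i : ℕ))⁻¹) * m ^ (i : ℕ) := by
            rw [((Commute.refl m).pow_pow (i : ℕ) (j : ℕ)).inv_right.eq]; group
        _ = (m ^ (j : ℕ))⁻¹ * (m ^ (j : ℕ) * t * (m ^ (j : ℕ))⁻¹) * m ^ (i : ℕ) := by rw [h1]
        _ = t * ((m ^ (j : ℕ))⁻¹ * m ^ (i : ℕ)) := by group
        _ = t * (m ^ (i : ℕ) * (m ^ (j : ℕ))⁻¹) := by
          rw [((Commute.refl m).pow_pow (i : ℕ) (j : ℕ)).inv_right.eq]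
    have hco : IsCoprime ((i : ℤ) - j) (ℓ : ℤ) := by
      refine ((Nat.prime_iff_prime_int.1 hℓ).coprime_iff_not_dvd.2 fun hd => hne' (Fin.ext ?_)).symm
      have h5 : ((i : ℕ) : ℤ) = ((j : ℕ) : ℤ) := sub_eq_zero.1 (Int.eq_zero_of_abs_lt_dvd hd (by
        rw [abs_lt]
        have := i.2
        have := j.2
        omega))
      exact_mod_cast h5
    obtain ⟨a, b, hab⟩ := hco
    refine hmD ?_
    show m ∈ D
    have h6 := mul_mem (zpow_mem h2 a) (zpow_mem (hM.pow_mem m hm) b)
    rwa [← zpow_natCast, ← zpow_mul, ← zpow_mul, ← zpow_add,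
      show ((i : ℤ) - j) * a + (ℓ : ℤ) * b = 1 by linarith, zpow_one] at h6
  have hsurj := hinj.bijective_of_nat_card_le (by
    have := Fintype.ofFinite (E : Subgroup G)
    rw [Nat.card_eq_fintype_card, Fintype.card_subtype_compl, Fintype.card_subtype_eq,
      ← Nat.card_eq_fintype_card, hE, Nat.card_eq_fintype_card, Fintype.card_fin])
  refine hyM (hM.centralizer_le (mem_centralizer_iff.2 fun e he => ?_))
  rcases eq_or_ne e 1 with rfl | he1
  · simp
  obtain ⟨i, hi⟩ := hsurj.2 ⟨⟨e, he⟩, fun h1 => he1 (congrArg Subtype.val h1)⟩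
  have h7 : m ^ (i : ℕ) * t * (m ^ (i : ℕ))⁻¹ = e :=
    congrArg (fun x : {x : (E : Subgroup G) // x ≠ 1} => ((x.1 : (E : Subgroup G)) : G)) hi
  rw [← h7]
  exact (hfix i).eq.symm

/-- Commuting involutions centralising `y` coincide. -/
theorem Big.unique_involution (h : Big p E) (hM : IsM p E M) (hℓ : (2 ^ p - 1).Prime)
    (hE : Nat.card (E : Subgroup G) = 2 ^ p) {y : G}
    (hy : y ∈ normalizer ((E : Subgroup G) : Set G)) (hyp : y ^ p = 1) (hyM : y ∉ M) {s₁ s₂ : G}
    (h1 : orderOf s₁ = 2) (h2 : orderOf s₂ = 2) (h1y : Commute s₁ y) (h2y : Commute s₂ y)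
    (h12 : Commute s₁ s₂) : s₁ = s₂ := by
  obtain ⟨t, ht, ht1⟩ := h.exists_ne_one
  obtain ⟨g, hg⟩ := isConj_iff.1 (isConj_involutions h.stronglyEmbedded h1 (h.inv ht ht1))
  set N := normalizer ((E : Subgroup G) : Set G) with hN
  set y' := g * y * g⁻¹ with hy'
  set s' := g * s₂ * g⁻¹ with hs'
  have hconj : ∀ a b : G, Commute a b → Commute (g * a * g⁻¹) (g * b * g⁻¹) :=
    fun a b hab => hab.map (MulAut.conj g).toMonoidHom
  have hyt : Commute y' t := hg ▸ (hconj _ _ h1y).symm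
  have hst : Commute s' t := hg ▸ (hconj _ _ h12).symm
  have hy'N : y' ∈ N := h.centralizer_le_normalizer' ht ht1 (mem_centralizer_singleton_iff.2 hyt.eq)
  have hs'N : s' ∈ N := h.centralizer_le_normalizer' ht ht1 (mem_centralizer_singleton_iff.2 hst.eq)
  have hs'E : s' ∈ (E : Subgroup G) :=
    mem_E_of_normalizes hs'N (mul_self_eq_one (by rw [hs', orderOf_conj_eq, h2]))
  have hs'1 : s' ≠ 1 := fun e => by
    have : orderOf s' = 2 := by rw [hs', orderOf_conj_eq, h2]
    rw [e, orderOf_one] at this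
    omega
  have hy'p : y' ^ p = 1 := by rw [hy', conj_pow, hyp, mul_one, mul_inv_cancel]
  have hy'M : y' ∉ M := by
    intro e
    have hK : IsK p E y' := ⟨h.mem_centralizer_of_commute hM hℓ e ht ht1 hyt, hy'p⟩
    have hy'1 : y' ≠ 1 := fun e1 => hyM (by
      rw [hy', conj_eq_one_iff] at e1
      exact e1 ▸ one_mem M)
    have hgN := h.toSE.sep_semilinear hE y' g hK hy'1 (by rwa [hy', show g⁻¹ * (g * y * g⁻¹) * g = y by group])
    have h3 := hK.conj (inv_mem hgN)
    rw [hy', show g⁻¹ * (g * y * g⁻¹) * g⁻¹⁻¹ = y by group] at h3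
    exact hyM (hM.centralizer_le h3.1)
  have := h.unique_commute hM hℓ hE hy'N hy'M ht ht1 hs'E hs'1 hyt (hconj _ _ h2y).symm
  rw [hs', ← hg] at this
  exact (mul_left_cancel (mul_right_cancel this)).symm

/-- The centraliser of `y` has a subgroup of index `2` consisting of the elements with `x ^ p = 1`. -/
theorem Big.exists_pPart (h : Big p E) (hM : IsM p E M) (hℓ : (2 ^ p - 1).Prime)
    (hE : Nat.card (E : Subgroup G) = 2 ^ p) {y : G}
    (hy : y ∈ normalizer ((E : Subgroup G) : Set G)) (hyp : y ^ p = 1) (hyM : y ∉ M) :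
    ∃ R : Subgroup G, R ≤ centralizer ({y} : Set G) ∧ R.relIndex (centralizer ({y} : Set G)) = 2 ∧
      IsPGroup p R ∧ ∀ c, Commute c y → (c ^ p = 1 ↔ c ∈ R) := by
  have : Fact (Nat.Prime 2) := ⟨Nat.prime_two⟩
  obtain ⟨t, ht, ht1, hyt⟩ := h.exists_commute hE hy hyp
  set C := centralizer ({y} : Set G) with hC
  have hy1 : y ≠ 1 := fun e => hyM (e ▸ one_mem M)
  have hexp : ∀ c ∈ C, c ^ (2 * p) = 1 := fun c hc =>
    h.pow_of_commute hyp hy1 (mem_centralizer_singleton_iff.1 hc)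
  have htC : t ∈ C := mem_centralizer_singleton_iff.2 hyt.eq.symm
  obtain ⟨T⟩ : Nonempty (Sylow 2 C) := inferInstance
  have hTE : ∀ x : C, x ∈ (T : Subgroup C) → (x : G) * x = 1 := fun x hx => by
    obtain ⟨k, hk⟩ := T.isPGroup' ⟨x, hx⟩
    have h1 : (x : G) ^ 2 ^ k = 1 := congrArg (fun z : (T : Subgroup C) => ((z : C) : G)) hk
    have h3 := Nat.dvd_gcd (orderOf_dvd_of_pow_eq_one (hexp x x.2)) (orderOf_dvd_of_pow_eq_one h1)
    have h4 : Nat.gcd (2 * p) (2 ^ k) ∣ 2 :=
      (Nat.Coprime.dvd_of_dvd_mul_right (Nat.Coprime.coprime_dvd_left (Nat.gcd_dvd_right _ _)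
        (Nat.Coprime.pow_left k ((Nat.coprime_primes Nat.prime_two h.prime).2 (Ne.symm h.odd))))
        (Nat.gcd_dvd_left _ _))
    rw [← pow_two, ← orderOf_dvd_iff_pow_eq_one]
    exact h3.trans h4
  have hTcyc : IsCyclic (T : Subgroup C) := by
    have hle : Nat.card (T : Subgroup C) ≤ 2 := by
      by_contra hlt
      push Not at hlt
      have := Fintype.ofFinite (T : Subgroup C)
      rw [Nat.card_eq_fintype_card] at hlt
      obtain ⟨a, b, c, hab, hac, hbc⟩ := Fintype.two_lt_card_iff.1 hlt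
      have hpair : ∀ u v : (T : Subgroup C), u ≠ 1 → v ≠ 1 → u = v := by
        intro u v hu hv
        have ho : ∀ w : (T : Subgroup C), w ≠ 1 → orderOf ((w : C) : G) = 2 := fun w hw =>
          orderOf_eq_prime (by rw [pow_two]; exact hTE _ w.2) fun e => hw (Subtype.ext (Subtype.ext e))
        have hcomm : Commute ((u : C) : G) ((v : C) : G) := by
          have h5 := hTE _ (u * v).2
          have hu2 := hTE _ u.2
          have hv2 := hTE _ v.2
          rw [Subgroup.coe_mul, Subgroup.coe_mul] at h5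
          calc ((u : C) : G) * (v : C) = (((u : C) : G) * (v : C))⁻¹ := (inv_eq_of_mul_eq_one_right h5).symm
            _ = _ := by rw [mul_inv_rev, inv_eq_of_mul_eq_one_right hu2, inv_eq_of_mul_eq_one_right hv2]
        exact Subtype.ext (Subtype.ext (h.unique_involution hM hℓ hE hy hyp hyM (ho u hu) (ho v hv)
          (mem_centralizer_singleton_iff.1 (u : C).2) (mem_centralizer_singleton_iff.1 (v : C).2) hcomm))
      rcases eq_or_ne a 1 with ha | ha
      · exact hbc (hpair b c (fun e => hab (ha.trans e.symm)) fun e => hac (ha.trans e.symm))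
      · rcases eq_or_ne b 1 with hb | hb
        · exact hac (hpair a c ha fun e => hbc (hb.trans e.symm))
        · exact hab (hpair a b ha hb)
    rcases Nat.lt_or_ge (Nat.card (T : Subgroup C)) 2 with h1 | h1
    · have : Nat.card (T : Subgroup C) = 1 := by have := Nat.card_pos (α := (T : Subgroup C)); omega
      have := (Nat.card_eq_one_iff_unique.1 this).1
      exact isCyclic_of_subsingleton
    · exact isCyclic_of_prime_card (p := 2) (le_antisymm hle h1)
  obtain ⟨R0, hR0⟩ := exists_index_two_of_cyclic_sylow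
    (even_iff_two_dvd.2 ((h.inv ht ht1) ▸ C.orderOf_dvd_natCard htC)) T hTcyc
  have := normal_of_index_eq_two hR0
  have hmem : ∀ c : C, (c : G) ^ p = 1 → c ∈ R0 := by
    intro c hc
    obtain ⟨k, hk⟩ := h.prime.odd_of_ne_two h.odd
    have h1 : c ^ 2 ∈ R0 := hR0 ▸ R0.pow_index_mem c
    have h2 : c = ((c ^ 2) ^ k)⁻¹ := Subtype.ext (by
      rw [InvMemClass.coe_inv, SubgroupClass.coe_pow, SubgroupClass.coe_pow, eq_inv_iff_mul_eq_one,
        ← pow_mul, ← pow_succ', ← hk, hc])
    rw [h2]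
    exact inv_mem (pow_mem h1 k)
  have hodd : ∀ c : C, c ∈ R0 → (c : G) ^ p = 1 := by
    intro c hc
    by_contra hne
    have h2 : orderOf ((c : G) ^ p) = 2 :=
      orderOf_eq_prime (by rw [← pow_mul, mul_comm]; exact hexp c c.2) hne
    set s : C := c ^ p with hs
    have hsT : (zpowers s) ≤ R0 := zpowers_le.2 (pow_mem hc p)
    have h4 : 4 ∣ Nat.card C := by
      have h5 : 2 ∣ Nat.card R0 := by
        have := Subgroup.card_dvd_of_le hsT
        rwa [Nat.card_zpowers, show orderOf s = 2 by rw [← Subgroup.orderOf_coe]; exact h2] at this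
      rw [← R0.card_mul_index, hR0]
      exact Nat.mul_dvd_mul h5 dvd_rfl
    obtain ⟨P, hP⟩ := Sylow.exists_subgroup_card_pow_prime 2 (n := 2) (by simpa using h4)
    obtain ⟨g, hg⟩ := (IsPGroup.of_card hP).exists_le_sylow
    have h6 := Subgroup.card_dvd_of_le hg
    have := Sylow.card_eq_multiplicity g
    have h7 : Nat.card (T : Subgroup C) = Nat.card (g : Subgroup C) := by
      rw [T.card_eq_multiplicity, this]
    have h8 : Nat.card (T : Subgroup C) ∣ 2 := by
      obtain ⟨x, hx⟩ := IsCyclic.exists_generator (α := (T : Subgroup C))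
      rw [← orderOf_eq_card_of_forall_mem_zpowers hx]
      exact orderOf_dvd_of_pow_eq_one (Subtype.ext (Subtype.ext (by simpa [pow_two] using hTE _ x.2)))
    rw [hP, ← h7] at h6
    have := Nat.le_of_dvd two_pos (h6.trans h8)
    norm_num at this
  refine ⟨R0.map C.subtype, map_subtype_le _, ?_, ?_, fun c hc => ⟨fun hcp => ?_, ?_⟩⟩
  · rw [relIndex, subgroupOf, comap_map_eq_self_of_injective C.subtype_injective, hR0]
  · rintro ⟨_, c, hc, rfl⟩
    exact ⟨1, Subtype.ext (by simpa using hodd c hc)⟩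
  · exact ⟨⟨c, mem_centralizer_singleton_iff.2 hc.eq⟩, hmem _ hcp, rfl⟩
  · rintro ⟨d, hd, rfl⟩
    exact hodd d hd

/-- If `C(E) ≠ E` the configuration is impossible; also if `y` fixes only the base point. -/
theorem Big.false_of_fix (h : Big p E) (hM : IsM p E M) {y : G}
    (hy : y ∈ normalizer ((E : Subgroup G) : Set G)) (hyp : y ^ p = 1) (hyM : y ∉ M)
    (hfix : ∀ z : G ⧸ normalizer ((E : Subgroup G) : Set G), y • z = z → z = base E) : False := by
  have := Fact.mk h.prime
  have := hM.normal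
  set N := normalizer ((E : Subgroup G) : Set G)
  have hQ : Nat.card (N ⧸ M.subgroupOf N) = p := hM.index
  have := isCyclic_of_prime_card hQ
  letI : CommGroup (N ⧸ M.subgroupOf N) := IsCyclic.commGroup
  exact transfer_false (q := p) h.noncomm (QuotientGroup.mk' (M.subgroupOf N)) hy hyp
    (fun e => hyM (mem_subgroupOf.1 ((QuotientGroup.eq_one_iff _).1 e))) hfix

/-- `C(E) = E`. -/
theorem Big.isK_eq_one (h : Big p E) (hM : IsM p E M) (hℓ : (2 ^ p - 1).Prime)
    (hE : Nat.card (E : Subgroup G) = 2 ^ p) {w : G} (hw : IsK p E w) : w = 1 := by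
  by_contra hw1
  obtain ⟨y, hy, hyp, hyM⟩ := h.exists_outside hM
  obtain ⟨R, hRC, -, hR, hRall⟩ := h.exists_pPart hM hℓ hE hy hyp hyM
  refine h.false_of_fix hM hy hyp hyM fun z hz => ?_
  exact h.fix_subsingleton (h.toSE.sep_semilinear hE) hw hw1 hyp hR
    (fun c hc => mem_centralizer_singleton_iff.1 (hRC hc))
    (fun c hc hcp => (hRall c hc).1 hcp) hz (smul_base_iff.2 hy)

end CfsgLib.OneComposite
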