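import Cfsg.Agent.Lib.OneComposite.Basic
import Cfsg.Agent.Lib.Solvable.CoprimeGeneration
import Cfsg.Agent.Lib.Signalizer74.Main
import Cfsg.Agent.Lib.Signalizer63.Connected
import Cfsg.Agent.Lib.FTCons.StronglyPEmb
import Cfsg.Agent.Lib.StrongEmbedding.Swap
import Cfsg.Agent.S1279

/-!
Orders prime or `2p` and a Sylow `2`-subgroup `E` of order at least `8`: the completion `W` of the
cores of the involution centralisers is a `p`-group and `W ⊔ N(E)` is strongly embedded.
-/

set_option autoImplicit false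
set_option linter.unusedSectionVars false

open Subgroup CfsgLib.Involutions

namespace CfsgLib.OneComposite

universe u

/-- The standing hypotheses. -/
structure Base {G : Type u} [Group G] (p : ℕ) (E : Sylow 2 G) : Prop where
  prime : p.Prime
  odd : p ≠ 2
  hyp : Hyp G (2 * p)
  noncomm : ¬ IsMulCommutative G
  four_le : 4 ≤ Nat.card (E : Subgroup G)

/-- A Sylow `2`-subgroup of order at least `8`. -/
structure Big {G : Type u} [Group G] (p : ℕ) (E : Sylow 2 G) : Prop extends Base p E where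
  eight : 8 ≤ Nat.card (E : Subgroup G)

/-- The normaliser of the Sylow `2`-subgroup is strongly embedded. -/
structure SE {G : Type u} [Group G] (p : ℕ) (E : Sylow 2 G) : Prop extends Base p E where
  se : Cfsg.IsStronglyEmbedded (normalizer ((E : Subgroup G) : Set G))

variable {G : Type u} [Group G] [Finite G] {p : ℕ} {E : Sylow 2 G}

/-- The join of the cores of the centralisers of the involutions of `E`. -/
def core (E : Sylow 2 G) : Subgroup G :=
  ⨆ a : {a : G // a ∈ (E : Subgroup G) ∧ a ≠ 1}, Cfsg.centralizerPPrimeCore 2 (a : G)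

omit [Finite G] in
theorem Base.four (h : Base p E) (x : G) : orderOf x ≠ 4 := fun e => by
  have h4 := h.hyp.order_eq e (by norm_num) (by decide)
  obtain ⟨k, hk⟩ := h.prime.odd_of_ne_two h.odd
  omega

theorem Base.exp (h : Base p E) {x : G} (hx : x ∈ (E : Subgroup G)) : x * x = 1 :=
  two_exp h.four E.isPGroup' hx

theorem Base.comm (h : Base p E) {x y : G} (hx : x ∈ (E : Subgroup G)) (hy : y ∈ (E : Subgroup G)) :
    Commute x y :=
  two_comm h.four E.isPGroup' hx hy

theorem Base.inv (h : Base p E) {x : G} (hx : x ∈ (E : Subgroup G)) (hx1 : x ≠ 1) : orderOf x = 2 :=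
  orderOf_eq_prime ((pow_two x).trans (h.exp hx)) hx1

theorem Base.elem (h : Base p E) : Cfsg.IsElementaryAbelian 2 (E : Subgroup G) :=
  ⟨⟨⟨fun a b => Subtype.ext (h.comm a.2 b.2)⟩⟩, fun _ hx => (pow_two _).trans (h.exp hx)⟩

omit [Finite G] in
theorem Base.orderOf_of_commute [Finite G] (h : Base p E) {t c : G} {r : ℕ} (ht : orderOf t = 2)
    (hr : r.Prime) (hr2 : r ≠ 2) (hc : orderOf c = r) (hcomm : Commute c t) : r = p := by
  rcases eq_of_two_mul hr h.prime (h.hyp.prime_mul_eq hr Nat.prime_two hr2 hc ht hcomm) with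
    ⟨e, -⟩ | ⟨e, -⟩
  · exact absurd e hr2
  · exact e

theorem Base.centralizer_primes (h : Base p E) {t : G} (ht : orderOf t = 2) {r : ℕ} (hr : r.Prime)
    (hd : r ∣ Nat.card (centralizer ({t} : Set G))) : r = 2 ∨ r = p := by
  have := Fact.mk hr
  refine or_iff_not_imp_left.2 fun hr2 => ?_
  obtain ⟨c, hc⟩ := exists_prime_orderOf_dvd_card' r hd
  exact h.orderOf_of_commute ht hr hr2 (by rw [Subgroup.orderOf_coe]; exact hc)
    (mem_centralizer_singleton_iff.1 c.2)

theorem Base.centralizer_solvable (h : Base p E) {t : G} (ht : orderOf t = 2) :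
    Group.IsSolvable (centralizer ({t} : Set G)) :=
  FewOrders.isSolvable_of_two_primes Nat.prime_two h.prime fun _ hr hd => h.centralizer_primes ht hr hd

theorem Base.noncyclic (h : Base p E) : ¬ IsCyclic (E : Subgroup G) := by
  intro hc
  obtain ⟨g, hg⟩ := IsCyclic.exists_generator (α := (E : Subgroup G))
  have h1 := orderOf_eq_card_of_forall_mem_zpowers hg
  have h2 : orderOf g ∣ 2 :=
    orderOf_dvd_of_pow_eq_one (Subtype.ext ((pow_two (g : G)).trans (h.exp g.2)))
  have := Nat.le_of_dvd two_pos h2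
  have := h.four_le
  omega

theorem Big.core_spec (h : Big p E) :
    ¬ 2 ∣ Nat.card (core E) ∧ (∀ b ∈ (E : Subgroup G), ∀ u ∈ core E, b * u * b⁻¹ ∈ core E) ∧
      ∀ a ∈ (E : Subgroup G), a ≠ 1 →
        core E ⊓ centralizer {a} = Cfsg.centralizerPPrimeCore 2 a := by
  have : Fact (Nat.Prime 2) := ⟨Nat.prime_two⟩
  have h8 := h.eight
  obtain ⟨⟨-, h2, h3, -⟩, h4⟩ := Signalizer74.completion h.elem (by norm_num; omega)
    (Cfsg.Agent.S1279.result 2 (E : Subgroup G) h.elem (by norm_num; omega)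
      fun a ha ha1 => h.centralizer_solvable (h.inv ha ha1))
  exact ⟨h2, h3, h4⟩

theorem Big.le_normalizer_core (h : Big p E) : (E : Subgroup G) ≤ normalizer (core E : Set G) :=
  le_normalizer_iff.2 h.core_spec.2.1

theorem Big.coprime_core (h : Big p E) :
    (Nat.card (E : Subgroup G)).Coprime (Nat.card (core E)) := by
  have : Fact (Nat.Prime 2) := ⟨Nat.prime_two⟩
  obtain ⟨k, hk⟩ := E.isPGroup'.exists_card_eq
  rw [hk]
  exact Nat.Coprime.pow_left k (Nat.prime_two.coprime_iff_not_dvd.2 h.core_spec.1)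

theorem Base.isPGroup_of_invariant (h : Base p E) {W : Subgroup G}
    (hEW : (E : Subgroup G) ≤ normalizer (W : Set G)) (hodd : ¬ 2 ∣ Nat.card W) :
    IsPGroup p W := by
  have : Fact (Nat.Prime 2) := ⟨Nat.prime_two⟩
  suffices key : ∀ r : ℕ, r.Prime → r ∣ Nat.card W → r = p by
    exact IsPGroup.of_card (Nat.eq_prime_pow_of_unique_prime_dvd Nat.card_pos.ne'
      fun {r} hr hd => key r hr hd)
  intro r hr hd
  by_contra hrp
  have := Fact.mk hr
  have := h.elem.1
  have hcop : (Nat.card (E : Subgroup G)).Coprime (Nat.card W) := by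
    obtain ⟨k, hk⟩ := E.isPGroup'.exists_card_eq
    rw [hk]
    exact Nat.Coprime.pow_left k (Nat.prime_two.coprime_iff_not_dvd.2 hodd)
  obtain ⟨R, hR⟩ := Coprime.exists_invariant_sylow (E : Subgroup G) W hEW
    hcop (Or.inl (Group.isSolvable_of_comm fun a b => (IsMulCommutative.is_comm).comm a b)) r
  set R' := (R : Subgroup W).map W.subtype with hR'
  have hR'c : R' ≤ W := map_subtype_le _
  have hgen := CfsgLib.CoprimeGeneration.iSup_centralizer_eq (E : Subgroup G) R' h.noncyclic hR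
    (hcop.coprime_dvd_right (card_dvd_of_le hR'c))
  have hbot : R' ≤ ⊥ := by
    rw [← hgen]
    refine iSup₂_le fun a ⟨ha, ha1⟩ x hx => ?_
    rw [mem_bot]
    by_contra hx1
    obtain ⟨k, hk⟩ := (R.isPGroup'.map W.subtype) ⟨x, hx.1⟩
    obtain ⟨j, -, hj⟩ := (Nat.dvd_prime_pow hr).1
      (orderOf_dvd_of_pow_eq_one (x := x) (congrArg Subtype.val hk))
    have hr2 : r ≠ 2 := fun e => hodd (e ▸ hd)
    have hox : Odd (orderOf x) := hj ▸ (hr.odd_of_ne_two hr2).pow
    have hp' := h.hyp.prime_of_odd hx1 hox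
    have hxr : orderOf x = r := (Nat.prime_dvd_prime_iff_eq hp' hr).1
      (hp'.dvd_of_dvd_pow (n := j) (by rw [← hj]))
    exact hrp (h.orderOf_of_commute (h.inv ha ha1) hr hr2 hxr (mem_centralizer_singleton_iff.1 hx.2))
  have hR1 : (R : Subgroup W) = ⊥ :=
    (map_eq_bot_iff_of_injective _ W.subtype_injective).1 (le_bot_iff.1 hbot)
  exact R.ne_bot_of_dvd_card hd hR1

theorem Big.isPGroup_core (h : Big p E) : IsPGroup p (core E) :=
  h.isPGroup_of_invariant h.le_normalizer_core h.core_spec.1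

theorem conj_mem_centralizer_core {n : G} (hn : n ∈ normalizer ((E : Subgroup G) : Set G)) {u : G}
    (hu : u ∈ core E) : n * u * n⁻¹ ∈ core E := by
  have : Fact (Nat.Prime 2) := ⟨Nat.prime_two⟩
  have hle : (core E).map (MulAut.conj n).toMonoidHom ≤ core E := by
    rw [core, Subgroup.map_iSup]
    refine iSup_le fun a => ?_
    rw [Signalizer63.map_centralizerPPrimeCore_conj]
    exact le_iSup (fun a : {a : G // a ∈ (E : Subgroup G) ∧ a ≠ 1} =>
      Cfsg.centralizerPPrimeCore 2 (a : G)) ⟨n * (a : G) * n⁻¹,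
        (Subgroup.mem_normalizer_iff.1 hn _).1 a.2.1, fun e => a.2.2 (by simpa using e)⟩
  exact hle ⟨u, hu, rfl⟩

theorem normalizer_le : normalizer ((E : Subgroup G) : Set G) ≤ normalizer (core E : Set G) :=
  le_normalizer_iff.2 fun _ hn _ hu => conj_mem_centralizer_core hn hu

theorem Big.centralizer_le (h : Big p E) {a : G} (ha : a ∈ (E : Subgroup G)) (ha1 : a ≠ 1) :
    centralizer ({a} : Set G) ≤ core E ⊔ normalizer ((E : Subgroup G) : Set G) := by
  have : Fact (Nat.Prime 2) := ⟨Nat.prime_two⟩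
  set C := centralizer ({a} : Set G) with hC
  have hEC : (E : Subgroup G) ≤ C := fun x hx => mem_centralizer_singleton_iff.2 (h.comm hx ha).eq
  have := h.centralizer_solvable (h.inv ha ha1)
  have htop := FTCons.pPrimeCore_sup_normalizer_eq_top (E.subtype hEC)
    fun x hx y hy => Subtype.ext (h.comm hx hy).eq
  have hmap : C = (Cfsg.pPrimeCore 2 C).map C.subtype ⊔
      (normalizer (((E.subtype hEC : Sylow 2 C) : Subgroup C) : Set C)).map C.subtype := by
    rw [← Subgroup.map_sup, htop, ← MonoidHom.range_eq_map, range_subtype]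
  rw [hmap]
  refine sup_le_sup ?_ ?_
  · exact le_iSup (fun a : {a : G // a ∈ (E : Subgroup G) ∧ a ≠ 1} =>
      Cfsg.centralizerPPrimeCore 2 (a : G)) ⟨a, ha, ha1⟩
  · refine (le_normalizer_map _).trans (le_of_eq ?_)
    rw [Sylow.coe_subtype, map_subgroupOf_eq_of_le hEC]

theorem Big.isStronglyEmbedded [IsSimpleGroup G] (h : Big p E) :
    Cfsg.IsStronglyEmbedded (core E ⊔ normalizer ((E : Subgroup G) : Set G)) := by
  have : Fact (Nat.Prime 2) := ⟨Nat.prime_two⟩
  have := h.elem.1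
  set M := core E ⊔ normalizer ((E : Subgroup G) : Set G) with hM
  have hEM : (E : Subgroup G) ≤ M := le_normalizer.trans le_sup_right
  obtain ⟨z, hz, hz1⟩ := (Subgroup.bot_or_exists_ne_one (E : Subgroup G)).resolve_left
    (fun e => by have := h.eight; rw [e, card_bot] at this; omega)
  have hne : M ≠ ⊤ := by
    intro htop
    have hn : normalizer (core E : Set G) = ⊤ :=
      top_le_iff.1 (htop ▸ sup_le le_normalizer normalizer_le)
    rcases (normalizer_eq_top_iff.1 hn).eq_bot_or_eq_top with e | e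
    · rw [hM, e, bot_sup_eq] at htop
      exact not_normal_sylow h.noncomm E (normalizer_eq_top_iff.1 htop)
    · refine h.core_spec.1 ?_
      rw [e, card_top]
      exact (even_card h.noncomm).two_dvd
  have hconj : ∀ t ∈ M, orderOf t = 2 → ∃ m ∈ M, m * t * m⁻¹ ∈ (E : Subgroup G) := by
    intro t htM ht
    have htP : IsPGroup 2 (zpowers (⟨t, htM⟩ : M)) :=
      IsPGroup.of_card (n := 1) (by rw [Nat.card_zpowers, Subgroup.orderOf_mk, ht, pow_one])
    obtain ⟨P, hP⟩ := htP.exists_le_sylow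
    obtain ⟨m, hm⟩ := MulAction.exists_smul_eq M P (E.subtype hEM)
    refine ⟨m, m.2, ?_⟩
    have h1 : m * ⟨t, htM⟩ * m⁻¹ ∈ ((E.subtype hEM : Sylow 2 M) : Subgroup M) := by
      rw [← hm]
      exact ⟨⟨t, htM⟩, hP (mem_zpowers _), rfl⟩
    exact h1
  refine (isStronglyEmbedded_iff_fusion hne (even_card_of_involution_mem (hEM hz) (h.inv hz hz1))).2
    ⟨fun t htM ht c hc => ?_, fun t htM s hsM ht hs hts => ?_⟩
  · obtain ⟨m, hm, hmE⟩ := hconj t htM ht
    have hm1 : m * t * m⁻¹ ≠ 1 := fun e => by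
      rw [conj_eq_one_iff] at e; rw [e, orderOf_one] at ht; omega
    have h1 : m * c * m⁻¹ ∈ M := h.centralizer_le hmE hm1 (mem_centralizer_singleton_iff.2 (by
      have h2 := mem_centralizer_singleton_iff.1 hc
      calc m * c * m⁻¹ * (m * t * m⁻¹) = m * (c * t) * m⁻¹ := by group
        _ = m * (t * c) * m⁻¹ := by rw [h2]
        _ = _ := by group))
    simpa [mul_assoc] using mul_mem (mul_mem (inv_mem hm) h1) hm
  · obtain ⟨m, hm, hmE⟩ := hconj t htM ht
    obtain ⟨k, hk, hkE⟩ := hconj s hsM hs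
    obtain ⟨g, hg⟩ := isConj_iff.1 hts
    obtain ⟨n, hn, hn'⟩ := E.conj_eq_normalizer_conj_of_mem (m * t * m⁻¹) (m * g⁻¹ * k⁻¹) hmE (by
      rw [show (m * g⁻¹ * k⁻¹)⁻¹ * (m * t * m⁻¹) * (m * g⁻¹ * k⁻¹) = k * (g * t * g⁻¹) * k⁻¹ by group, hg]
      exact hkE)
    refine ⟨k⁻¹ * n⁻¹ * m, mul_mem (mul_mem (inv_mem hk) (inv_mem (le_sup_right (a := core E) hn))) hm, ?_⟩
    rw [show (m * g⁻¹ * k⁻¹)⁻¹ * (m * t * m⁻¹) * (m * g⁻¹ * k⁻¹) = k * (g * t * g⁻¹) * k⁻¹ by group, hg] at hn'
    calc k⁻¹ * n⁻¹ * m * t * (k⁻¹ * n⁻¹ * m)⁻¹ = k⁻¹ * (n⁻¹ * (m * t * m⁻¹) * n) * k := by group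
      _ = s := by rw [← hn']; group

/-- `N(E)` is transitive on `E ∖ 1`. -/
theorem Big.transitive [IsSimpleGroup G] (h : Big p E) {a b : G} (ha : a ∈ (E : Subgroup G))
    (ha1 : a ≠ 1) (hb : b ∈ (E : Subgroup G)) (hb1 : b ≠ 1) :
    ∃ n ∈ normalizer ((E : Subgroup G) : Set G), n * a * n⁻¹ = b := by
  have : Fact (Nat.Prime 2) := ⟨Nat.prime_two⟩
  have := h.elem.1
  obtain ⟨g, hg⟩ := isConj_iff.1
    (StrongEmbedding.isConj_involutions h.isStronglyEmbedded (h.inv ha ha1) (h.inv hb hb1))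
  obtain ⟨n, hn, hn'⟩ := E.conj_eq_normalizer_conj_of_mem a g⁻¹ ha (by rwa [inv_inv, hg])
  rw [inv_inv, hg] at hn'
  exact ⟨n⁻¹, inv_mem hn, by rw [inv_inv]; exact hn'.symm⟩

end CfsgLib.OneComposite
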