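import Cfsg.Agent.Lib.OneComposite.Weights
import Cfsg.Agent.Lib.FTCons.Kantor
import Cfsg.Agent.Lib.AutPSL.FieldGalois

/-!
Orders prime or `2p`: `C(E) = E × K` with `K` of exponent `p`, and `N(E) / C(E)` is `C_ℓ` or
`C_ℓ : C_p`, where `ℓ = |E| - 1` is prime.
-/

set_option autoImplicit false
set_option linter.unusedSectionVars false
set_option linter.style.haveILetI false

open Subgroup CfsgLib.Involutions

namespace CfsgLib.OneComposite

section Arith

/-- A prime `2ᵐ - 1` is not split as `r s` with `s ∣ m`. -/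
theorem not_split {m r s : ℕ} (hr : r.Prime) (hs : s.Prime) (hsm : s ∣ m) (hm : 0 < m)
    (he : 2 ^ m - 1 = r * s) : False := by
  have := Fact.mk hs
  have hcop : (2 ^ s - 1).Coprime s := by
    refine ((hs.coprime_iff_not_dvd).2 fun hd => ?_).symm
    have h1 : ((2 ^ s - 1 : ℕ) : ZMod s) = 0 := (ZMod.natCast_eq_zero_iff _ _).2 hd
    rw [Nat.cast_sub Nat.one_le_two_pow, Nat.cast_pow, ZMod.pow_card, Nat.cast_one] at h1
    norm_num at h1
  have hd : 2 ^ s - 1 ∣ r * s := by
    rw [← he]
    obtain ⟨c, rfl⟩ := hsm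
    rw [pow_mul]
    simpa using Nat.sub_dvd_pow_sub_pow (2 ^ s) 1 c
  have hr' : 2 ^ s - 1 = r := ((Nat.dvd_prime hr).1 (hcop.dvd_of_dvd_mul_right hd)).resolve_left (by
    have : 2 ^ 2 ≤ 2 ^ s := Nat.pow_le_pow_right two_pos hs.two_le
    omega)
  have hne : m ≠ s := by
    rintro rfl
    rw [hr'] at he
    exact hs.ne_one ((Nat.mul_eq_left hr.ne_zero).1 he.symm)
  obtain ⟨c, rfl⟩ := hsm
  have hc : 2 ≤ c := by
    rcases c with _ | _ | c
    · simp at hm
    · simp at hne
    · omega
  have h1 : 2 ^ (s * 2) ≤ 2 ^ (s * c) := Nat.pow_le_pow_right two_pos (Nat.mul_le_mul_left s hc)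
  have h2 : s + 1 ≤ 2 ^ s := Nat.lt_two_pow_self
  rw [pow_mul, pow_two, pow_mul] at h1
  rw [← hr', pow_mul] at he
  have h3 : (2 ^ s - 1) * (2 ^ s + 1) = 2 ^ s * 2 ^ s - 1 := by
    rw [mul_comm, ← Nat.mul_self_sub_mul_self_eq, one_mul]
  have h4 : (2 ^ s - 1) * s < (2 ^ s - 1) * (2 ^ s + 1) :=
    (Nat.mul_lt_mul_left (by have := hs.two_le; omega)).2 (by omega)
  refine absurd ?_ (not_le.2 h4)
  rw [h3, ← he]
  omega

end Arith

universe u

variable {G : Type u} [Group G] [Finite G] {p : ℕ} {E : Sylow 2 G}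

theorem SE.centralizer_le_normalizer' (h : SE p E) {t : G}
    (ht : t ∈ (E : Subgroup G)) (ht1 : t ≠ 1) :
    centralizer ({t} : Set G) ≤ normalizer ((E : Subgroup G) : Set G) :=
  se_centralizer_le h.se (le_normalizer ht) (h.inv ht ht1)

theorem Big.toSE [IsSimpleGroup G] (h : Big p E) : SE p E :=
  { h.toBase with se := h.stronglyEmbedded }

theorem Big.centralizer_le_normalizer' (h : Big p E) [IsSimpleGroup G] {t : G}
    (ht : t ∈ (E : Subgroup G)) (ht1 : t ≠ 1) :
    centralizer ({t} : Set G) ≤ normalizer ((E : Subgroup G) : Set G) :=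
  h.toSE.centralizer_le_normalizer' ht ht1

theorem mem_E_of_normalizes {x : G} (hx : x ∈ normalizer ((E : Subgroup G) : Set G)) (h2 : x * x = 1) :
    x ∈ (E : Subgroup G) := by
  have : Fact (Nat.Prime 2) := ⟨Nat.prime_two⟩
  have hP : IsPGroup 2 (zpowers x) := by
    rintro ⟨y, hy⟩
    refine ⟨1, Subtype.ext ?_⟩
    obtain ⟨k, rfl⟩ := mem_zpowers_iff.1 hy
    simp only [pow_one, SubgroupClass.coe_pow, OneMemClass.coe_one]
    rw [pow_two, ← (Commute.refl x).mul_zpow, h2, one_zpow]
  have h1 : x ∈ zpowers x ⊓ normalizer ((E : Subgroup G) : Set G) := ⟨mem_zpowers x, hx⟩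
  exact ((SetLike.ext_iff.1 (hP.inf_normalizer_sylow E) x).1 h1).2

/-- Elements commuting with an involution have order dividing `2p`. -/
theorem Base.pow_two_mul (h : Base p E) {t c : G} (ht : orderOf t = 2) (hc : Commute c t) :
    c ^ (2 * p) = 1 := by
  rcases eq_or_ne c 1 with rfl | hc1
  · exact one_pow _
  refine orderOf_dvd_iff_pow_eq_one.1 ?_
  rcases h.hyp c hc1 with hr | hr
  · by_cases h2 : orderOf c = 2
    · rw [h2]; exact dvd_mul_right 2 p
    · rw [h.orderOf_of_commute ht hr h2 rfl hc]; exact dvd_mul_left p 2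
  · rw [hr]

theorem Base.exists_ne_one (h : Base p E) : ∃ t ∈ (E : Subgroup G), t ≠ 1 :=
  (Subgroup.bot_or_exists_ne_one (E : Subgroup G)).resolve_left
    (fun e => by have := h.four_le; rw [e, card_bot] at this; omega)

/-- `C(E) = E × K` with `K` of exponent `p`. -/
theorem Base.exists_complement (h : Base p E) :
    ∃ K : Subgroup G, (∀ x, x ∈ K ↔ x ∈ centralizer ((E : Subgroup G) : Set G) ∧ x ^ p = 1) ∧
      ∀ d ∈ centralizer ((E : Subgroup G) : Set G), ∃ e ∈ (E : Subgroup G), ∃ k ∈ K, d = e * k := by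
  have : Fact (Nat.Prime 2) := ⟨Nat.prime_two⟩
  set D := centralizer ((E : Subgroup G) : Set G) with hD
  have hED : (E : Subgroup G) ≤ D := fun x hx => mem_centralizer_iff.2 fun y hy => (h.comm hy hx).eq
  obtain ⟨t, ht, ht1⟩ := h.exists_ne_one
  set E' := ((E.subtype hED : Sylow 2 D) : Subgroup D) with hE'
  have hcen : E' ≤ center D := fun x hx => mem_center_iff.2 fun y =>
    Subtype.ext ((mem_centralizer_iff.1 y.2 _ hx).symm)
  have : E'.Normal := ⟨fun x hx y => by
    rw [mem_center_iff.1 (hcen hx) y, mul_inv_cancel_right]; exact hx⟩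
  obtain ⟨K0, hK0⟩ := exists_right_complement'_of_coprime (N := E') (by
    obtain ⟨k, hk⟩ := (E.subtype hED).isPGroup'.exists_card_eq
    rw [hE', hk]
    exact Nat.Coprime.pow_left k (Nat.prime_two.coprime_iff_not_dvd.2 (E.subtype hED).not_dvd_index))
  obtain ⟨j, hj⟩ := h.prime.odd_of_ne_two h.odd
  have hsplit : ∀ d : D, ∃ e : D, (e : G) ∈ (E : Subgroup G) ∧ ∃ k ∈ K0, d = e * k := by
    intro d
    obtain ⟨⟨⟨e, he⟩, ⟨k, hk⟩⟩, hek, -⟩ := hK0.existsUnique d
    exact ⟨e, he, k, hk, hek.symm⟩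
  have hkp : ∀ k ∈ K0, ((k : D) : G) ^ p = 1 := by
    intro k hk
    have h1 : (k ^ p : D) ∈ E' := by
      show ((k ^ p : D) : G) ∈ (E : Subgroup G)
      rw [SubgroupClass.coe_pow]
      refine mem_E_of_normalizes (centralizer_le_normalizer _ (pow_mem k.2 p)) ?_
      rw [← pow_add, ← two_mul]
      exact h.pow_two_mul (h.inv ht ht1) (mem_centralizer_iff.1 k.2 t ht).symm
    have h2 := disjoint_iff_inf_le.1 hK0.disjoint ⟨h1, pow_mem hk p⟩
    simpa using congrArg Subtype.val (mem_bot.1 h2)
  refine ⟨K0.map D.subtype, fun x => ⟨?_, fun hx => ?_⟩, fun d hd => ?_⟩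
  · rintro ⟨k, hk, rfl⟩
    exact ⟨k.2, hkp k hk⟩
  · obtain ⟨e, he, k, hk, hek⟩ := hsplit ⟨x, hx.1⟩
    have hc : Commute (e : G) (k : G) := mem_centralizer_iff.1 k.2 _ he
    have he1 : (e : G) ^ p = 1 := by
      have h1 := hx.2
      rw [show x = (e : G) * k from congrArg Subtype.val hek, hc.mul_pow, hkp k hk, mul_one] at h1
      exact h1
    have he2 : (e : G) = 1 := by
      rw [hj, pow_succ, pow_mul, pow_two, h.exp he, one_pow, one_mul] at he1
      exact he1
    exact ⟨k, hk, by rw [show x = (e : G) * k from congrArg Subtype.val hek, he2, one_mul]; rfl⟩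
  · obtain ⟨e, he, k, hk, hek⟩ := hsplit ⟨d, hd⟩
    exact ⟨e, he, k, ⟨k, hk, rfl⟩, congrArg Subtype.val hek⟩

/-- The order of an image of `h ∈ G` in a group of odd exponent is `1` or prime. -/
theorem Hyp.image_order (h : Hyp G (2 * p)) (hp : p.Prime) {H A : Type*} [Group H] [Group A]
    (φ : H →* A) (i : H →* G) (hi : Function.Injective i) (g : H) (hodd : Odd (orderOf (φ g))) :
    orderOf (φ g) = 1 ∨ (orderOf (φ g)).Prime := by
  have hd : orderOf (φ g) ∣ orderOf g := orderOf_map_dvd φ g
  rw [← orderOf_injective i hi] at hd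
  rcases eq_or_ne (i g) 1 with e | e
  · rw [e, orderOf_one] at hd
    exact Or.inl (Nat.dvd_one.1 hd)
  rcases h (i g) e with hr | hr
  · rcases (Nat.dvd_prime hr).1 hd with h1 | h1
    · exact Or.inl h1
    · exact Or.inr (h1.symm ▸ hr)
  · rw [hr] at hd
    rcases (Nat.dvd_prime hp).1 ((Nat.coprime_two_right.2 hodd).dvd_of_dvd_mul_left hd) with h1 | h1
    · exact Or.inl h1
    · exact Or.inr (h1.symm ▸ hp)

/-- `N(E) / C(E)` is `C_ℓ` or `C_ℓ : C_p`. -/
theorem Big.cases [IsSimpleGroup G] (h : Big p E) :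
    ∃ m : ℕ, m.Prime ∧ 3 ≤ m ∧ (2 ^ m - 1).Prime ∧ Nat.card (E : Subgroup G) = 2 ^ m ∧
      ((centralizer ((E : Subgroup G) : Set G)).relIndex (normalizer ((E : Subgroup G) : Set G)) = 2 ^ m - 1 ∧
          (∀ t ∈ (E : Subgroup G), t ≠ 1 →
            centralizer ({t} : Set G) = centralizer ((E : Subgroup G) : Set G)) ∨
        m = p ∧
          (centralizer ((E : Subgroup G) : Set G)).relIndex (normalizer ((E : Subgroup G) : Set G)) =
            (2 ^ p - 1) * p) := by
  classical
  have : Fact (Nat.Prime 2) := ⟨Nat.prime_two⟩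
  set N := normalizer ((E : Subgroup G) : Set G) with hN
  set D := centralizer ((E : Subgroup G) : Set G) with hD
  letI : CommGroup (E : Subgroup G) :=
    { (inferInstance : Group (E : Subgroup G)) with
      mul_comm := fun a b => Subtype.ext (h.comm a.2 b.2) }
  let V := Additive (E : Subgroup G)
  letI : Module (ZMod 2) V := AddCommGroup.zmodModule fun v => by
    rw [two_nsmul]
    exact congrArg Additive.ofMul
      (Subtype.ext (h.exp (Additive.toMul v).2) : Additive.toMul v * Additive.toMul v = 1)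
  letI : DistribMulAction N V :=
    { smul := fun n v => Additive.ofMul ⟨(n : G) * ((Additive.toMul v : (E : Subgroup G)) : G) * (n : G)⁻¹,
        (Subgroup.mem_normalizer_iff.1 n.2 _).1 (Additive.toMul v).2⟩
      one_smul := fun v => by
        show Additive.ofMul _ = v
        refine Additive.toMul.injective (Subtype.ext ?_)
        simp
      mul_smul := fun a b v => by
        show Additive.ofMul _ = Additive.ofMul _
        refine congrArg Additive.ofMul (Subtype.ext ?_)
        show (a : G) * b * _ * ((a : G) * b)⁻¹ = (a : G) * ((b : G) * _ * (b : G)⁻¹) * (a : G)⁻¹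
        group
      smul_zero := fun a => by
        show Additive.ofMul _ = (0 : V)
        refine congrArg Additive.ofMul (Subtype.ext ?_)
        simp
      smul_add := fun a v w => by
        show Additive.ofMul _ = Additive.ofMul _
        refine congrArg Additive.ofMul (Subtype.ext ?_)
        show (a : G) * (((Additive.toMul v : (E : Subgroup G)) : G) * ((Additive.toMul w : (E : Subgroup G)) : G)) * (a : G)⁻¹ =
          (a : G) * _ * (a : G)⁻¹ * ((a : G) * _ * (a : G)⁻¹)
        group }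
  have hsm : ∀ (n : N) (v : V), ((Additive.toMul (n • v) : (E : Subgroup G)) : G) =
      (n : G) * ((Additive.toMul v : (E : Subgroup G)) : G) * (n : G)⁻¹ := fun _ _ => rfl
  set EN := (E : Subgroup G).subgroupOf N with hEN
  have : EN.Normal := normal_in_normalizer
  have hidx : Odd EN.index := by
    rw [← Nat.not_even_iff_odd, even_iff_two_dvd]
    exact fun hd => E.not_dvd_index (hd.trans (relIndex_dvd_index_of_le le_normalizer))
  have : Group.IsSolvable N := (Group.isSolvable_iff_subgroup_quotient EN).2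
    ⟨Group.isSolvable_of_comm fun c d => Subtype.ext (Subtype.ext (h.comm c.2 d.2)),
      CfsgLib.PF.oddSolvable _ hidx⟩
  obtain ⟨t, ht, ht1⟩ := h.exists_ne_one
  have hne : ∀ v : V, v ≠ 0 → ((Additive.toMul v : (E : Subgroup G)) : G) ≠ 1 := fun v hv e =>
    hv (Additive.toMul.injective (Subtype.ext e))
  set vt : V := Additive.ofMul ⟨t, ht⟩ with hvt
  have hvt0 : vt ≠ 0 := fun e => ht1 (congrArg (fun v : V => ((Additive.toMul v : (E : Subgroup G)) : G)) e)
  haveI : Nontrivial V := ⟨⟨vt, 0, hvt0⟩⟩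
  have htr1 : ∀ v w : V, v ≠ 0 → w ≠ 0 → ∃ n : N, n • v = w := by
    intro v w hv hw
    obtain ⟨n, hn, he⟩ := h.transitive (Additive.toMul v).2 (hne v hv) (Additive.toMul w).2 (hne w hw)
    exact ⟨⟨n, hn⟩, Additive.toMul.injective (Subtype.ext ((hsm _ _).trans he))⟩
  obtain ⟨m, hm⟩ := E.isPGroup'.exists_card_eq
  have hm3 : 3 ≤ m := by
    by_contra hlt
    have : 2 ^ m ≤ 2 ^ 2 := Nat.pow_le_pow_right two_pos (by omega)
    have := h.eight
    omega
  rcases FTCons.Kantor.semilinear_of_transitive (p := 2) (V := V) (H := N)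
      (fun v w hv hw => (htr1 v w hv hw).imp fun _ => Or.inl) with ⟨F, iF, iFF, e, he⟩ | hex
  swap
  · exfalso
    have h2 : 2 ∣ Nat.card V := by
      show 2 ∣ Nat.card (E : Subgroup G)
      rw [hm]
      exact dvd_pow_self 2 (by omega)
    simp only [Set.mem_insert_iff, Set.mem_singleton_iff] at hex
    omega
  have hcardF : Fintype.card F = 2 ^ m := by
    rw [← Nat.card_eq_fintype_card, ← Nat.card_congr e.toEquiv]; exact hm
  choose a σ ha hσ using he
  have hev : ∀ r : F, ∃ v : V, e v = r := e.surjective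
  have ha1 : a 1 = 1 ∧ σ 1 = 1 := by
    have h1 : a 1 = 1 := by
      obtain ⟨v, hv⟩ := hev 1
      have := hσ 1 v
      rw [one_smul, hv, map_one, mul_one] at this
      exact this.symm
    refine ⟨h1, RingEquiv.ext fun r => ?_⟩
    obtain ⟨v, rfl⟩ := hev r
    have := hσ 1 v
    rw [one_smul, h1, one_mul] at this
    exact this.symm
  have hmul : ∀ g k : N, a (g * k) = a g * σ g (a k) ∧ σ (g * k) = σ g * σ k := by
    intro g k
    have key : ∀ v, a (g * k) * σ (g * k) (e v) = a g * σ g (a k) * σ g (σ k (e v)) := fun v => by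
      rw [← hσ (g * k) v, mul_smul, hσ g, hσ k, map_mul, mul_assoc]
    have h1 : a (g * k) = a g * σ g (a k) := by
      obtain ⟨v, hv⟩ := hev 1
      have := key v
      rwa [hv, map_one, map_one, map_one, mul_one, mul_one] at this
    refine ⟨h1, RingEquiv.ext fun r => ?_⟩
    obtain ⟨v, rfl⟩ := hev r
    have := key v
    rw [← h1] at this
    exact mul_left_cancel₀ (ha _) this
  let φ : N →* (F ≃+* F) :=
    { toFun := σ
      map_one' := ha1.2
      map_mul' := fun g k => (hmul g k).2 }
  let χ : φ.ker →* Fˣ :=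
    { toFun := fun g => Units.mk0 (a g) (ha _)
      map_one' := Units.ext ha1.1
      map_mul' := fun g k => Units.ext (by
        show a ((g : N) * k) = a g * a k
        rw [(hmul _ _).1, show σ (g : N) = 1 from g.2]
        rfl) }
  set D' := D.subgroupOf N with hD'
  have hDmem : ∀ g : N, g ∈ D' ↔ ∀ v : V, g • v = v := by
    intro g
    rw [hD', mem_subgroupOf, hD, mem_centralizer_iff]
    constructor
    · intro hg v
      refine Additive.toMul.injective (Subtype.ext ((hsm g v).trans ?_))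
      rw [← hg _ (Additive.toMul v).2, mul_inv_cancel_right]
    · intro hg x hx
      have h1 := congrArg (fun v : V => ((Additive.toMul v : (E : Subgroup G)) : G))
        (hg (Additive.ofMul ⟨x, hx⟩))
      exact (mul_inv_eq_iff_eq_mul.1 ((hsm g _).symm.trans h1)).symm
  have hDle : D' ≤ φ.ker := by
    intro g hg
    have h1 := (hDmem g).1 hg
    show σ g = 1
    refine RingEquiv.ext fun r => ?_
    obtain ⟨v, rfl⟩ := hev r
    obtain ⟨v1, hv1⟩ := hev 1
    have h2 := hσ g v1
    rw [h1, hv1, map_one, mul_one] at h2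
    have h3 := hσ g v
    rw [h1, ← h2, one_mul] at h3
    exact h3.symm
  have hker : D'.subgroupOf φ.ker = χ.ker := by
    ext g
    rw [mem_subgroupOf, MonoidHom.mem_ker, hDmem]
    constructor
    · intro h1
      refine Units.ext ?_
      show a (g : N) = 1
      obtain ⟨v1, hv1⟩ := hev 1
      have h2 := hσ (g : N) v1
      rw [h1, hv1, map_one, mul_one] at h2
      exact h2.symm
    · intro h1 v
      refine e.injective ?_
      rw [hσ, show a (g : N) = 1 from congrArg Units.val h1, show σ (g : N) = 1 from g.2, one_mul]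
      rfl
  have hind : D'.index = Nat.card χ.range * Nat.card φ.range := by
    rw [← relIndex_mul_index hDle, relIndex, hker, index_ker, index_ker]
  have hEle : EN ≤ D' := fun g hg => mem_centralizer_iff.2 fun y hy => (h.comm hy hg).eq
  have hEN' : ∀ g : N, g ^ EN.index ∈ EN := EN.pow_index_mem
  have hodd : ∀ {A : Type} [Group A] (ψ : φ.ker →* A), (∀ g : φ.ker, (g : N) ∈ D' → ψ g = 1) →
      ∀ g, Odd (orderOf (ψ g)) := by
    intro A _ ψ hψ g
    refine hidx.of_dvd_nat (orderOf_dvd_of_pow_eq_one ?_)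
    rw [← map_pow]
    exact hψ _ (hEle (hEN' _))
  have hφodd : ∀ g, Odd (orderOf (φ g)) := fun g => by
    refine hidx.of_dvd_nat (orderOf_dvd_of_pow_eq_one ?_)
    rw [← map_pow]
    exact hDle (hEle (hEN' g))
  have hχD : ∀ g : φ.ker, (g : N) ∈ D' → χ g = 1 := fun g hg => by
    rw [← MonoidHom.mem_ker, ← hker]; exact hg
  have hr : Nat.card χ.range = 1 ∨ (Nat.card χ.range).Prime := by
    obtain ⟨⟨_, g, rfl⟩, hg⟩ := IsCyclic.exists_generator (α := χ.range)
    rw [← orderOf_eq_card_of_forall_mem_zpowers hg, ← Subgroup.orderOf_coe]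
    exact h.hyp.image_order h.prime χ (N.subtype.comp φ.ker.subtype)
      (N.subtype_injective.comp φ.ker.subtype_injective) g (hodd χ hχD g)
  have hs : Nat.card φ.range = 1 ∨ (Nat.card φ.range).Prime := by
    have := FieldGalois.isCyclic_ringAut (F := F)
    obtain ⟨⟨_, g, rfl⟩, hg⟩ := IsCyclic.exists_generator (α := φ.range)
    rw [← orderOf_eq_card_of_forall_mem_zpowers hg, ← Subgroup.orderOf_coe]
    exact h.hyp.image_order h.prime φ N.subtype N.subtype_injective g (hφodd g)
  have hrd : Nat.card χ.range ∣ 2 ^ m - 1 := by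
    refine (Subgroup.card_subgroup_dvd_card _).trans ?_
    rw [Nat.card_units, Nat.card_eq_fintype_card, hcardF]
  have hsd : Nat.card φ.range ∣ m := by
    refine (Subgroup.card_subgroup_dvd_card _).trans ?_
    rw [FieldGalois.card_ringAut (p := 2) hcardF]
  -- the orbit of `t`
  set St := MulAction.stabilizer N vt with hSt
  have hStidx : St.index = 2 ^ m - 1 := by
    rw [hSt, MulAction.index_stabilizer]
    have horb : MulAction.orbit N vt = {v | v ≠ 0} := by
      ext v
      refine ⟨?_, fun hv => htr1 vt v hvt0 hv⟩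
      rintro ⟨n, rfl⟩ h0
      exact hvt0 (by simpa using congrArg (fun w => n⁻¹ • w) h0)
    rw [horb, show ({v : V | v ≠ 0}) = {(0 : V)}ᶜ from rfl, Set.ncard_compl, Set.ncard_singleton]
    show Nat.card (E : Subgroup G) - 1 = _
    rw [hm]
  have hDSt : D' ≤ St := fun g hg => (hDmem g).1 hg vt
  have hdvd : 2 ^ m - 1 ∣ Nat.card χ.range * Nat.card φ.range := by
    rw [← hind, ← hStidx]
    exact index_dvd_of_le hDSt
  have h2m : m + 2 ≤ 2 ^ m := by
    have := Nat.lt_two_pow_self (n := m - 1)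
    have : 2 ^ m = 2 * 2 ^ (m - 1) := by rw [← pow_succ', Nat.sub_add_cancel (by omega)]
    omega
  have hrq : Nat.card χ.range = 2 ^ m - 1 ∧ (2 ^ m - 1).Prime := by
    rcases hr with h1 | h1
    · rw [h1, one_mul] at hdvd
      have := Nat.le_of_dvd Nat.card_pos hdvd
      have := Nat.le_of_dvd (by omega) hsd
      omega
    obtain ⟨k, hk⟩ := hrd
    have hk' : k ∣ Nat.card φ.range := (Nat.mul_dvd_mul_iff_left h1.pos).1 (hk ▸ hdvd)
    rcases hs with h2 | h2
    · rw [h2, Nat.dvd_one] at hk'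
      rw [hk', mul_one] at hk
      exact ⟨hk.symm, hk ▸ h1⟩
    · rcases (Nat.dvd_prime h2).1 hk' with e1 | e1
      · rw [e1, mul_one] at hk
        exact ⟨hk.symm, hk ▸ h1⟩
      · rw [e1] at hk
        exact (not_split h1 h2 hsd (by omega) hk).elim
  have hmp : m.Prime := (Nat.prime_of_pow_sub_one_prime (by omega) hrq.2).2
  refine ⟨m, hmp, hm3, hrq.2, hm, ?_⟩
  have hrel : D.relIndex N = (2 ^ m - 1) * Nat.card φ.range := by
    rw [← hrq.1]; exact hind
  rcases (Nat.dvd_prime hmp).1 hsd with e1 | e1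
  · left
    rw [e1, mul_one] at hrel
    refine ⟨hrel, fun u hu hu1 => le_antisymm (fun c hc => ?_) ?_⟩
    · have hcN := h.centralizer_le_normalizer' hu hu1 hc
      set vu : V := Additive.ofMul ⟨u, hu⟩
      have hvu0 : vu ≠ 0 := fun e2 =>
        hu1 (congrArg (fun v : V => ((Additive.toMul v : (E : Subgroup G)) : G)) e2)
      obtain ⟨n, hn⟩ := htr1 vt vu hvt0 hvu0
      have hSteq : D' = St := by
        have h3 := relIndex_mul_index hDSt
        rw [hStidx, show D'.index = 2 ^ m - 1 from hrel] at h3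
        have h5 : D'.relIndex St = 1 := (Nat.mul_eq_right (by omega)).1 h3
        exact le_antisymm hDSt (relIndex_eq_one.1 h5)
      have h4 : (n⁻¹ * ⟨c, hcN⟩ * n : N) • vt = vt := by
        rw [mul_smul, mul_smul, hn, show (⟨c, hcN⟩ : N) • vu = vu from ?_, ← hn, inv_smul_smul]
        refine Additive.toMul.injective (Subtype.ext ((hsm _ _).trans ?_))
        show c * u * c⁻¹ = u
        rw [mem_centralizer_singleton_iff.1 hc, mul_inv_cancel_right]
      have h6 : (n⁻¹ * ⟨c, hcN⟩ * n : N) ∈ D' := hSteq ▸ h4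
      have : D'.Normal := ⟨fun g hg k => (hDmem _).2 fun v => by
        rw [mul_smul, mul_smul, (hDmem g).1 hg, smul_inv_smul]⟩
      have h7 := this.conj_mem _ h6 n
      rw [show n * (n⁻¹ * ⟨c, hcN⟩ * n) * n⁻¹ = (⟨c, hcN⟩ : N) by group] at h7
      exact h7
    · intro c hc
      exact mem_centralizer_singleton_iff.2 (mem_centralizer_iff.1 hc u hu).symm
  · right
    -- the stabiliser has an element of order `p` outside `D`
    rw [e1] at hrel
    have hmid : D'.relIndex St = m := by
      have h3 := relIndex_mul_index hDSt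
      rw [hStidx, show D'.index = (2 ^ m - 1) * m from hrel, mul_comm] at h3
      exact Nat.eq_of_mul_eq_mul_left (by omega) h3
    set DS := D'.subgroupOf St with hDS
    have : DS.Normal := ⟨fun g hg k => (hDmem _).2 fun v => by
      change ((k : N) * g * (k : N)⁻¹) • v = v
      rw [mul_smul, mul_smul,
        show (g : N) • ((k : N)⁻¹ • v) = (k : N)⁻¹ • v from (hDmem _).1 hg _, smul_inv_smul]⟩
    have hcard : Nat.card (St ⧸ DS) = m := hmid
    have := Fact.mk hmp
    have : Nontrivial (St ⧸ DS) := Finite.one_lt_card_iff_nontrivial.1 (hcard ▸ hmp.one_lt)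
    obtain ⟨x, hx⟩ := exists_ne (1 : St ⧸ DS)
    obtain ⟨y, rfl⟩ := QuotientGroup.mk_surjective x
    have hy : ((y : N) : G) ^ (2 * p) = 1 := by
      refine h.pow_two_mul (h.inv ht ht1) ?_
      have h3 : (y : N) • vt = vt := y.2
      have h4 := congrArg (fun v : V => ((Additive.toMul v : (E : Subgroup G)) : G)) h3
      exact mul_inv_eq_iff_eq_mul.1 ((hsm _ _).symm.trans h4)
    have hord : orderOf (QuotientGroup.mk y : St ⧸ DS) ∣ 2 * p := by
      refine orderOf_dvd_of_pow_eq_one ?_
      rw [← QuotientGroup.mk_pow, show y ^ (2 * p) = 1 from Subtype.ext (Subtype.ext (by simpa using hy)),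
        QuotientGroup.mk_one]
    have hom : orderOf (QuotientGroup.mk y : St ⧸ DS) = m := orderOf_eq_prime
      (hcard ▸ pow_card_eq_one') hx
    rw [hom] at hord
    have hmp' : m = p := by
      rcases (Nat.Prime.dvd_mul hmp).1 hord with h3 | h3
      · have := Nat.le_of_dvd two_pos h3; omega
      · exact (Nat.prime_dvd_prime_iff_eq hmp h.prime).1 h3
    exact ⟨hmp', by rw [hrel, hmp']⟩

end CfsgLib.OneComposite
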