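import Cfsg.Agent.Lib.OneComposite.Semilinear

/-!
Orders prime or `2p`, `|N(E) : E| = ℓ p`: a subgroup `L` of order `ℓ = 2ᵖ - 1` of `N(E)`, its
normaliser and centraliser.
-/

set_option autoImplicit false
set_option linter.unusedSectionVars false
set_option linter.style.haveILetI false

open Subgroup CfsgLib.Involutions CfsgLib.StrongEmbedding

namespace CfsgLib.OneComposite

universe u

variable {G : Type u} [Group G] [Finite G]

/-- Two subgroups of prime order `q` of a group of order less than `q²` coincide. -/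
theorem unique_prime {q : ℕ} (hq : q.Prime) {X L₁ L₂ : Subgroup G} (h1 : L₁ ≤ X) (h2 : L₂ ≤ X)
    (c1 : Nat.card L₁ = q) (c2 : Nat.card L₂ = q) (hX : Nat.card X < q * q) : L₁ = L₂ := by
  by_contra hne
  have hbot : L₁ ⊓ L₂ = ⊥ := by
    rcases (Nat.dvd_prime hq).1 (c1 ▸ Subgroup.card_dvd_of_le (inf_le_left : L₁ ⊓ L₂ ≤ L₁)) with e | e
    · exact Subgroup.eq_bot_of_card_eq _ e
    · exact absurd ((eq_of_le_of_card_ge (inf_le_left : L₁ ⊓ L₂ ≤ L₁) (by omega)).symm.trans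
        (eq_of_le_of_card_ge (inf_le_right : L₁ ⊓ L₂ ≤ L₂) (by omega))) hne
  have hinj := Nat.card_le_card_of_injective
    (fun x : L₁ × L₂ => (⟨(x.1 : G) * x.2, mul_mem (h1 x.1.2) (h2 x.2.2)⟩ : X))
    (fun x y e => mul_injective_of_disjoint (disjoint_iff.2 hbot) (congrArg Subtype.val e))
  rw [Nat.card_prod, c1, c2] at hinj
  omega

/-- Subgroups of prime order `q` are conjugate in a group whose order `q²` does not divide. -/
theorem conj_of_prime {q : ℕ} [Fact q.Prime] {X L₁ L₂ : Subgroup G} (h1 : L₁ ≤ X) (h2 : L₂ ≤ X)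
    (c1 : Nat.card L₁ = q) (c2 : Nat.card L₂ = q) (hX : ¬ q ^ 2 ∣ Nat.card X) :
    ∃ x ∈ X, ∀ y, y ∈ L₂ ↔ x⁻¹ * y * x ∈ L₁ := by
  have hf : (Nat.card X).factorization q = 1 := by
    have hd : q ∣ Nat.card X := c1 ▸ Subgroup.card_dvd_of_le h1
    have hq : q.Prime := Fact.out
    have := hq.factorization_pos_of_dvd Nat.card_pos.ne' hd
    by_contra hne
    exact hX ((hq.pow_dvd_iff_le_factorization Nat.card_pos.ne').2 (by omega))
  have e1 : Nat.card (L₁.subgroupOf X) = q ^ (Nat.card X).factorization q := by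
    rw [hf, pow_one, Nat.card_congr (subgroupOfEquivOfLe h1).toEquiv, c1]
  have e2 : Nat.card (L₂.subgroupOf X) = q ^ (Nat.card X).factorization q := by
    rw [hf, pow_one, Nat.card_congr (subgroupOfEquivOfLe h2).toEquiv, c2]
  obtain ⟨x, hx⟩ := MulAction.exists_smul_eq X (Sylow.ofCard _ e1) (Sylow.ofCard _ e2)
  refine ⟨x, x.2, fun y => ?_⟩
  have key : ∀ z : X, z ∈ L₂.subgroupOf X ↔ x⁻¹ * z * x ∈ L₁.subgroupOf X := by
    intro z
    have hz : z ∈ ((x • Sylow.ofCard _ e1 : Sylow q X) : Subgroup X) ↔ z ∈ L₂.subgroupOf X := by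
      rw [hx]; rfl
    rw [← hz, Sylow.coe_subgroup_smul, Subgroup.mem_pointwise_smul_iff_inv_smul_mem,
      MulAut.smul_def, ← map_inv, MulAut.conj_apply, inv_inv]
    rfl
  constructor
  · intro hy
    exact (key ⟨y, h2 hy⟩).1 hy
  · intro hy
    have hyX : y ∈ X := by
      have h3 := mul_mem (mul_mem x.2 (h1 hy)) (inv_mem x.2)
      rwa [show (x : G) * ((x : G)⁻¹ * y * x) * (x : G)⁻¹ = y by group] at h3
    exact (key ⟨y, hyX⟩).2 hy

variable {p : ℕ} {E : Sylow 2 G} {M : Subgroup G}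

/-- The normaliser of `E`. -/
abbrev nE (E : Sylow 2 G) : Subgroup G := normalizer ((E : Subgroup G) : Set G)

/-- The configuration with `|N(E) : C(E)| = ℓ p`. -/
structure Exc (p : ℕ) (E : Sylow 2 G) (M : Subgroup G) : Prop where
  big : Big p E
  isM : IsM p E M
  mersenne : (2 ^ p - 1).Prime
  card : Nat.card (E : Subgroup G) = 2 ^ p
  idx : (centralizer ((E : Subgroup G) : Set G)).relIndex (nE E) = (2 ^ p - 1) * p

/-- A subgroup of order `ℓ` of `N(E)`. -/
structure IsTor (p : ℕ) (E : Sylow 2 G) (L : Subgroup G) : Prop where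
  le : L ≤ nE E
  card : Nat.card L = 2 ^ p - 1

variable [IsSimpleGroup G] {L : Subgroup G}

theorem Exc.lt (h : Exc p E M) : p < 2 ^ p - 1 := lt_mersenne h.big.three_le

theorem Exc.ne_two (h : Exc p E M) : 2 ^ p - 1 ≠ 2 := by
  have := h.lt
  have := h.big.three_le
  omega

theorem Exc.cent_eq (h : Exc p E M) :
    centralizer ((E : Subgroup G) : Set G) = (E : Subgroup G) := by
  obtain ⟨K, hK, hdec⟩ := h.big.exists_complement
  refine le_antisymm (fun d hd => ?_) fun x hx => mem_centralizer_iff.2 fun y hy => (h.big.comm hy hx).eq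
  obtain ⟨e, he, k, hk, rfl⟩ := hdec d hd
  rw [h.big.isK_eq_one h.isM h.mersenne h.card ((hK k).1 hk), mul_one]
  exact he

theorem Exc.card_N (h : Exc p E M) : Nat.card (nE E) = 2 ^ p * ((2 ^ p - 1) * p) := by
  have h1 := h.idx
  rw [h.cent_eq, relIndex] at h1
  rw [← ((E : Subgroup G).subgroupOf (nE E)).card_mul_index, h1,
    Nat.card_congr (subgroupOfEquivOfLe (le_normalizer : (E : Subgroup G) ≤ nE E)).toEquiv, h.card]

theorem Exc.coprime_two (h : Exc p E M) : (2 ^ p - 1).Coprime (2 ^ p) :=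
  Nat.Coprime.pow_right p ((Nat.coprime_primes h.mersenne Nat.prime_two).2 h.ne_two)

theorem Exc.coprime_p (h : Exc p E M) : (2 ^ p - 1).Coprime p :=
  (Nat.coprime_primes h.mersenne h.big.prime).2 (by have := h.lt; omega)

theorem Exc.eq_one (h : Exc p E M) {c : G} (h1 : c ^ (2 ^ p - 1) = 1) (h2 : c ^ (2 * p) = 1) :
    c = 1 := by
  have h3 := Nat.dvd_gcd (orderOf_dvd_of_pow_eq_one h1) (orderOf_dvd_of_pow_eq_one h2)
  rw [Nat.Coprime.gcd_eq_one (Nat.Coprime.mul_right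
    ((Nat.coprime_primes h.mersenne Nat.prime_two).2 h.ne_two) h.coprime_p)] at h3
  exact orderOf_eq_one_iff.1 (Nat.dvd_one.1 h3)

theorem Exc.eq_one_of_mem (h : Exc p E M) {c : G} (hc : c ∈ (E : Subgroup G))
    (h1 : c ^ (2 ^ p - 1) = 1) : c = 1 :=
  h.eq_one h1 (by rw [pow_mul, pow_two, h.big.exp hc, one_pow])

theorem Exc.not_sq_dvd (h : Exc p E M) {X : Subgroup G} (hX : X ≤ nE E) :
    ¬ (2 ^ p - 1) ^ 2 ∣ Nat.card X := by
  intro hd
  have h1 := hd.trans (Subgroup.card_dvd_of_le hX)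
  rw [h.card_N, pow_two] at h1
  have h2 := (Nat.mul_dvd_mul_iff_left h.mersenne.pos).1
    ((Nat.Coprime.dvd_of_dvd_mul_left (Nat.Coprime.mul_left h.coprime_two h.coprime_two) h1))
  have := Nat.le_of_dvd h.big.prime.pos h2
  have := h.lt
  omega

theorem Exc.exists_isTor (h : Exc p E M) : ∃ L : Subgroup G, IsTor p E L := by
  have := Fact.mk h.mersenne
  obtain ⟨l, hl⟩ := exists_prime_orderOf_dvd_card' (G := nE E) (2 ^ p - 1)
    (by rw [h.card_N]; exact Dvd.dvd.mul_left (dvd_mul_right _ _) _)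
  exact ⟨zpowers (l : G), zpowers_le.2 l.2, by rw [Nat.card_zpowers, Subgroup.orderOf_coe, hl]⟩

theorem Exc.conj_tor (h : Exc p E M) {L₂ : Subgroup G} (hL : IsTor p E L) (hL₂ : IsTor p E L₂) :
    ∃ n ∈ nE E, ∀ y, y ∈ L₂ ↔ n⁻¹ * y * n ∈ L :=
  have := Fact.mk h.mersenne
  conj_of_prime hL.le hL₂.le hL.card hL₂.card (h.not_sq_dvd le_rfl)

theorem Exc.pow_tor (_h : Exc p E M) (hL : IsTor p E L) {l : G} (hl : l ∈ L) :
    l ^ (2 ^ p - 1) = 1 :=
  orderOf_dvd_iff_pow_eq_one.1 (hL.card ▸ L.orderOf_dvd_natCard hl)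

theorem Exc.exists_gen (h : Exc p E M) (hL : IsTor p E L) :
    ∃ l ∈ L, orderOf l = 2 ^ p - 1 ∧ zpowers l = L := by
  obtain ⟨l, hl, hl1⟩ := (Subgroup.bot_or_exists_ne_one L).resolve_left
    (fun e => h.mersenne.ne_one (by rw [← hL.card, e, card_bot]))
  have := Fact.mk h.mersenne
  have ho : orderOf l = 2 ^ p - 1 := orderOf_eq_prime (h.pow_tor hL hl) hl1
  exact ⟨l, hl, ho, eq_of_le_of_card_ge (zpowers_le.2 hl) (by rw [Nat.card_zpowers, ho, hL.card])⟩

/-- `C(L)` has exponent `ℓ`. -/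
theorem Exc.pow_cent (h : Exc p E M) (hL : IsTor p E L) {c : G}
    (hc : c ∈ centralizer (L : Set G)) : c ^ (2 ^ p - 1) = 1 := by
  obtain ⟨l, hl, ho, -⟩ := h.exists_gen hL
  have hcl : Commute c l := (mem_centralizer_iff.1 hc l hl).symm
  have key : ∀ {c : G} {r : ℕ}, r.Prime → orderOf c = r → Commute c l → r = 2 ^ p - 1 := by
    intro c r hr hcr hcl
    by_contra hne
    rcases eq_of_two_mul hr h.big.prime (h.big.hyp.prime_mul_eq hr h.mersenne hne hcr ho hcl) with
      ⟨-, e⟩ | ⟨-, e⟩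
    · have := h.lt; omega
    · exact h.ne_two e
  rcases eq_or_ne c 1 with rfl | hc1
  · exact one_pow _
  rcases h.big.hyp c hc1 with hr | hr
  · rw [← key hr rfl hcl]; exact pow_orderOf_eq_one c
  · have h2 : orderOf (c ^ p) = 2 := by
      rw [orderOf_pow_of_dvd h.big.prime.ne_zero (hr ▸ dvd_mul_left p 2), hr,
        Nat.mul_div_cancel _ h.big.prime.pos]
    exact absurd (key Nat.prime_two h2 (hcl.pow_left p)).symm h.ne_two

theorem Exc.inf_E (h : Exc p E M) (hL : IsTor p E L) {e : G} (he : e ∈ (E : Subgroup G))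
    (heL : e ∈ normalizer (L : Set G)) : e = 1 := by
  refine h.eq_one_of_mem he (h.pow_cent hL (mem_centralizer_iff.2 fun l hl => ?_))
  have h1 : e * l * e⁻¹ * l⁻¹ ∈ L := mul_mem ((mem_normalizer_iff.1 heL l).1 hl) (inv_mem hl)
  have h2 : e * l * e⁻¹ * l⁻¹ ∈ (E : Subgroup G) := by
    rw [show e * l * e⁻¹ * l⁻¹ = e * (l * e⁻¹ * l⁻¹) by group]
    exact mul_mem he ((mem_normalizer_iff.1 (hL.le hl) _).1 (inv_mem he))
  have h3 := h.eq_one_of_mem h2 (h.pow_tor hL h1)
  exact (mul_inv_eq_iff_eq_mul.1 (mul_inv_eq_one.1 h3)).symm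

/-- `N_{N(E)}(L) = L ⟨y⟩` with `y` outside `M`. -/
theorem Exc.exists_y (h : Exc p E M) (hL : IsTor p E L) :
    ∃ y, y ∈ normalizer (L : Set G) ⊓ nE E ∧ y ^ p = 1 ∧ y ∉ M := by
  have := Fact.mk h.mersenne
  obtain ⟨y₀, hy₀, -, hy₀M⟩ := h.big.exists_outside h.isM
  have hLM : L ≤ M := fun l hl => h.isM.mem_of_pow (hL.le hl) (k := 2 ^ p - 1)
    (by rw [h.pow_tor hL hl]; exact one_mem M) h.coprime_p
  set L' := L.map (MulAut.conj y₀).toMonoidHom with hL'
  have hL'M : L' ≤ M := by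
    rintro _ ⟨l, hl, rfl⟩
    have := h.isM.normal.conj_mem ⟨l, hL.le hl⟩ (hLM hl) ⟨y₀, hy₀⟩
    simpa [mem_subgroupOf] using this
  obtain ⟨m, hm, hml⟩ := conj_of_prime hLM hL'M hL.card
    (by rw [hL', card_map_of_injective (MulAut.conj y₀).injective, hL.card])
    (h.not_sq_dvd h.isM.le)
  set n := m⁻¹ * y₀ with hn
  have hnN : n ∈ nE E := mul_mem (inv_mem (h.isM.le hm)) hy₀
  have hnM : n ∉ M := fun e => hy₀M (by
    have := mul_mem hm e; rwa [hn, mul_inv_cancel_left] at this)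
  have hnL : n ∈ normalizer (L : Set G) := mem_normalizer_iff.2 fun x => by
    rw [show n * x * n⁻¹ = m⁻¹ * (y₀ * x * y₀⁻¹) * m by rw [hn]; group, ← hml, hL']
    exact (Subgroup.mem_map_iff_mem (f := (MulAut.conj y₀).toMonoidHom) (MulAut.conj y₀).injective).symm
  have hn1 : n ≠ 1 := fun e => hnM (e ▸ one_mem M)
  rcases h.big.hyp n hn1 with hr | hr
  · by_cases e : orderOf n = p
    · exact ⟨n, ⟨hnL, hnN⟩, e ▸ pow_orderOf_eq_one n, hnM⟩
    · exact absurd (h.isM.mem_of_pow hnN (k := orderOf n) (by rw [pow_orderOf_eq_one]; exact one_mem M)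
        ((Nat.coprime_primes hr h.big.prime).2 e)) hnM
  · exact ⟨n ^ 2, pow_mem (⟨hnL, hnN⟩ : n ∈ normalizer (L : Set G) ⊓ nE E) 2, by rw [← pow_mul, ← hr, pow_orderOf_eq_one], fun e =>
      hnM (h.isM.mem_of_pow hnN e
        ((Nat.coprime_primes Nat.prime_two h.big.prime).2 (Ne.symm h.big.odd)))⟩

theorem Exc.card_inf (h : Exc p E M) (hL : IsTor p E L) :
    Nat.card ↥(normalizer (L : Set G) ⊓ nE E) = (2 ^ p - 1) * p ∧
      ∀ n ∈ nE E, ∃ e ∈ (E : Subgroup G), ∃ x ∈ normalizer (L : Set G) ⊓ nE E, n = e * x := by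
  have := Fact.mk h.big.prime
  obtain ⟨y, hy, hyp, hyM⟩ := h.exists_y hL
  set X := normalizer (L : Set G) ⊓ nE E with hX
  have hlow : (2 ^ p - 1) * p ∣ Nat.card X := by
    refine Nat.Coprime.mul_dvd_of_dvd_of_dvd h.coprime_p ?_ ?_
    · exact hL.card ▸ Subgroup.card_dvd_of_le (le_inf le_normalizer hL.le)
    · have h1 : orderOf y = p := orderOf_eq_prime hyp fun e => hyM (e ▸ one_mem M)
      exact h1 ▸ X.orderOf_dvd_natCard hy
  let f : Prod ↥(E : Subgroup G) ↥X → nE E := fun x =>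
    ⟨(x.1 : G) * x.2, mul_mem (le_normalizer x.1.2) x.2.2.2⟩
  have hf : Function.Injective f := fun x z e =>
    mul_injective_of_disjoint (disjoint_def.2 fun {z} (ha : z ∈ (E : Subgroup G)) (hb : z ∈ X) =>
      h.inf_E hL ha (mem_inf.1 hb).1) (congrArg Subtype.val e)
  have hup := Nat.card_le_card_of_injective f hf
  rw [Nat.card_prod, h.card, h.card_N] at hup
  have hle := Nat.le_of_mul_le_mul_left hup (by positivity)
  have hc : Nat.card X = (2 ^ p - 1) * p := le_antisymm hle (Nat.le_of_dvd Nat.card_pos hlow)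
  refine ⟨hc, fun n hn => ?_⟩
  obtain ⟨⟨e, x⟩, hex⟩ := (hf.bijective_of_nat_card_le (by
    rw [Nat.card_prod, h.card, hc, h.card_N])).2 ⟨n, hn⟩
  exact ⟨e, e.2, x, x.2, (congrArg Subtype.val hex).symm⟩

theorem Exc.card_inf_lt (h : Exc p E M) (hL : IsTor p E L) :
    Nat.card ↥(normalizer (L : Set G) ⊓ nE E) < (2 ^ p - 1) * (2 ^ p - 1) := by
  rw [(h.card_inf hL).1]
  exact Nat.mul_lt_mul_of_pos_left h.lt (by have := h.lt; omega)

/-- `C(L) ∩ N(E) = L`. -/
theorem Exc.cent_inf (h : Exc p E M) (hL : IsTor p E L) {c : G}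
    (hc : c ∈ centralizer (L : Set G)) (hcN : c ∈ nE E) : c ∈ L := by
  rcases eq_or_ne c 1 with rfl | hc1
  · exact one_mem L
  have := Fact.mk h.mersenne
  have ho : orderOf c = 2 ^ p - 1 := orderOf_eq_prime (h.pow_cent hL hc) hc1
  rw [← unique_prime h.mersenne (zpowers_le.2 (⟨centralizer_le_normalizer _ hc, hcN⟩ :
      c ∈ normalizer (L : Set G) ⊓ nE E)) (le_inf le_normalizer hL.le)
    (by rw [Nat.card_zpowers, ho]) hL.card (h.card_inf_lt hL)]
  exact mem_zpowers c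

theorem Exc.le_cent (h : Exc p E M) (hL : IsTor p E L) : L ≤ centralizer (L : Set G) := by
  obtain ⟨l, -, -, hl⟩ := h.exists_gen hL
  intro x hx
  refine mem_centralizer_iff.2 fun y hy => ?_
  rw [SetLike.mem_coe, ← hl] at hy
  rw [← hl] at hx
  obtain ⟨a, rfl⟩ := mem_zpowers_iff.1 hx
  obtain ⟨b, rfl⟩ := mem_zpowers_iff.1 hy
  exact ((Commute.refl l).zpow_zpow b a).eq

/-- The action of `N(L)` on `L` has cyclic image. -/
theorem Exc.aut_cyclic (h : Exc p E M) (hL : IsTor p E L) : IsCyclic (MulAut L) := by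
  have := Fact.mk h.mersenne
  haveI : IsCyclic L := isCyclic_of_prime_card hL.card
  haveI : IsCyclic (ZMod (Nat.card L))ˣ := by rw [hL.card]; infer_instance
  exact isCyclic_of_surjective (IsCyclic.mulAutMulEquiv L).symm
    (IsCyclic.mulAutMulEquiv L).symm.surjective

theorem act_eq_one_iff {a : G} (ha : a ∈ normalizer (L : Set G)) :
    L.normalizerMonoidHom ⟨a, ha⟩ = 1 ↔ a ∈ centralizer (L : Set G) := by
  rw [← MonoidHom.mem_ker, normalizerMonoidHom_ker]
  rfl

theorem Exc.comm_mem (h : Exc p E M) (hL : IsTor p E L) {a b : G}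
    (ha : a ∈ normalizer (L : Set G)) (hb : b ∈ normalizer (L : Set G)) :
    a * b * a⁻¹ * b⁻¹ ∈ centralizer (L : Set G) := by
  have := h.aut_cyclic hL
  have hc := (IsCyclic.isMulCommutative (α := MulAut L)).is_comm.comm
  have e1 : L.normalizerMonoidHom (⟨a, ha⟩ * ⟨b, hb⟩ * ⟨a, ha⟩⁻¹ * ⟨b, hb⟩⁻¹) = 1 := by
    rw [map_mul, map_mul, map_mul, map_inv, map_inv, hc (L.normalizerMonoidHom ⟨a, ha⟩),
      mul_inv_cancel_right, mul_inv_cancel]
  exact (act_eq_one_iff (mul_mem (mul_mem (mul_mem ha hb) (inv_mem ha)) (inv_mem hb))).1 e1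

/-- Two involutions of `N(L)` differ by an element of `C(L)`. -/
theorem Exc.mul_mem_cent (h : Exc p E M) (hL : IsTor p E L) {a b : G}
    (ha : a ∈ normalizer (L : Set G)) (hb : b ∈ normalizer (L : Set G)) (ha2 : orderOf a = 2)
    (hb2 : orderOf b = 2) : a * b ∈ centralizer (L : Set G) := by
  have := Fact.mk h.mersenne
  haveI : IsCyclic L := isCyclic_of_prime_card hL.card
  haveI : Fact (Nat.card L).Prime := ⟨hL.card ▸ h.mersenne⟩
  let e := IsCyclic.mulAutMulEquiv L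
  set f := L.normalizerMonoidHom with hf
  have key : ∀ (x : G) (hx : x ∈ normalizer (L : Set G)), orderOf x = 2 →
      ((e (f ⟨x, hx⟩) : (ZMod (Nat.card L))ˣ) : ZMod (Nat.card L)) = -1 := by
    intro x hx hx2
    have h1 : ((e (f ⟨x, hx⟩) : (ZMod (Nat.card L))ˣ) : ZMod (Nat.card L)) *
        (e (f ⟨x, hx⟩) : (ZMod (Nat.card L))ˣ) = 1 := by
      rw [← Units.val_mul, ← map_mul, ← map_mul,
        show (⟨x, hx⟩ : normalizer (L : Set G)) * ⟨x, hx⟩ = 1 from Subtype.ext (mul_self_eq_one hx2),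
        map_one, map_one, Units.val_one]
    refine (mul_self_eq_one_iff.1 h1).resolve_left fun e1 => ?_
    have h2 : f ⟨x, hx⟩ = 1 :=
      e.injective ((Units.val_eq_one.1 e1).trans (map_one e).symm)
    have h3 := h.pow_cent hL ((act_eq_one_iff hx).1 h2)
    have h4 := orderOf_dvd_of_pow_eq_one h3
    rw [hx2] at h4
    exact h.ne_two ((Nat.prime_dvd_prime_iff_eq Nat.prime_two h.mersenne).1 h4).symm
  rw [← act_eq_one_iff (mul_mem ha hb), show (⟨a * b, _⟩ : normalizer (L : Set G)) = ⟨a, ha⟩ * ⟨b, hb⟩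
    from Subtype.ext rfl, map_mul]
  refine e.injective ((map_mul e _ _).trans ((Units.ext ?_).trans (map_one e).symm))
  rw [Units.val_mul, key a ha ha2, key b hb hb2, neg_mul_neg, one_mul, Units.val_one]

/-- `|N(L) : C(L)| = 2p` if some involution normalises `L`. -/
theorem Exc.relIndex_cent (h : Exc p E M) (hL : IsTor p E L) {r : G}
    (hr : r ∈ normalizer (L : Set G)) (hr2 : orderOf r = 2) :
    (centralizer (L : Set G)).relIndex (normalizer (L : Set G)) = 2 * p := by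
  have := h.aut_cyclic hL
  have := Fact.mk h.big.prime
  obtain ⟨y, hy, hyp, hyM⟩ := h.exists_y hL
  set f := L.normalizerMonoidHom with hf
  have hidx : (centralizer (L : Set G)).relIndex (normalizer (L : Set G)) = Nat.card f.range := by
    rw [relIndex, ← normalizerMonoidHom_ker, index_ker]
  obtain ⟨⟨_, g, rfl⟩, hg⟩ := IsCyclic.exists_generator (α := f.range)
  have hd : Nat.card f.range ∣ orderOf (g : G) := by
    rw [← orderOf_eq_card_of_forall_mem_zpowers hg, ← Subgroup.orderOf_coe, Subgroup.orderOf_coe g]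
    exact orderOf_map_dvd f g
  have h2 : 2 ∣ Nat.card f.range := by
    refine (orderOf_eq_prime (p := 2) (x := f ⟨r, hr⟩) ?_ ?_) ▸ f.range.orderOf_dvd_natCard ⟨_, rfl⟩
    · rw [← map_pow, show (⟨r, hr⟩ : normalizer (L : Set G)) ^ 2 = 1 from
        Subtype.ext (by simpa [pow_two] using mul_self_eq_one hr2), map_one]
    · intro e1
      have h4 := orderOf_dvd_of_pow_eq_one (h.pow_cent hL ((act_eq_one_iff hr).1 e1))
      rw [hr2] at h4
      exact h.ne_two ((Nat.prime_dvd_prime_iff_eq Nat.prime_two h.mersenne).1 h4).symm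
  have hp : p ∣ Nat.card f.range := by
    refine (orderOf_eq_prime (p := p) (x := f ⟨y, hy.1⟩) ?_ ?_) ▸ f.range.orderOf_dvd_natCard ⟨_, rfl⟩
    · rw [← map_pow, show (⟨y, hy.1⟩ : normalizer (L : Set G)) ^ p = 1 from
        Subtype.ext (by simpa using hyp), map_one]
    · intro e1
      have h4 : y = 1 := h.eq_one (h.pow_cent hL ((act_eq_one_iff hy.1).1 e1))
        (by rw [mul_comm, pow_mul, hyp, one_pow])
      exact hyM (h4 ▸ one_mem M)
  have h2p : 2 * p ∣ Nat.card f.range :=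
    Nat.Coprime.mul_dvd_of_dvd_of_dvd
      ((Nat.coprime_primes Nat.prime_two h.big.prime).2 (Ne.symm h.big.odd)) h2 hp
  have hgne : (g : G) ≠ 1 := fun e => by
    have h5 := h2.trans hd
    rw [e, orderOf_one] at h5
    exact absurd h5 (by norm_num)
  rw [hidx]
  refine Nat.dvd_antisymm ?_ h2p
  rcases h.big.hyp _ hgne with hr' | hr'
  · exfalso
    rcases (Nat.dvd_prime hr').1 (h2p.trans hd) with e | e
    · omega
    · exact Nat.not_prime_mul (by norm_num) h.big.prime.ne_one (e ▸ hr')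
  · exact hr' ▸ hd

end CfsgLib.OneComposite
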